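import Groth.Agent.Lib.Ample.Basic

/-!
# AMPLE project (lead), part (A''): `X_s ⟶ X` is an affine morphism

ns `Groth.Agent.Lib.Ample`.
* `exists_eq_smul_of_isGenerator` : a generator `e` of `L` over `U` writes `s|_U = f • e`
* `exists_isAffineOpen_genLocus_inf_eq_basicOpen` : `L` invertible, `s : O_X ⟶ L`: every point has an affine open
  neighbourhood `U` with `genLocus L s ⊓ U = X.basicOpen f` for some `f ∈ Γ(X, U)`
* `isAffineHom_genLocus_ι` : for `L` invertible the open immersion `X_s ⟶ X` is an affine morphism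
* `isAffineOpen_genLocus_inf_of_isInvertible` : `U` affine ⇒ `genLocus L s ⊓ U` affine
* `isAffineOpen_genLocus_of_isAffine` : `X` affine ⇒ `genLocus L s` affine
-/

universe u
open CategoryTheory CategoryTheory.Limits AlgebraicGeometry TopologicalSpace Opposite

namespace Groth.Agent.Lib.Ample

open Scheme.Modules

variable {X : Scheme.{u}}

lemma exists_eq_smul_of_isGenerator {L : X.Modules} {U : X.Opens} {e : Γ(L, U)}
    (he : IsGenerator L U e) (t : Γ(L, U)) : ∃ f : Γ(X, U), t = f • e := by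
  obtain ⟨f, hf⟩ := (he U le_rfl).2 t
  refine ⟨f, ?_⟩
  have h1 : resSec L (le_refl U) e = e := by
    change (L.presheaf.map (𝟙 _)).hom e = e
    rw [L.presheaf.map_id]
    rfl
  rw [← hf]
  change f • resSec L (le_refl U) e = f • e
  rw [h1]

theorem exists_isAffineOpen_genLocus_inf_eq_basicOpen {L : X.Modules} (hL : PicF.IsInvertible L)
    (s : Coh.structureModule X ⟶ L) (x : X) (W : X.Opens) (hxW : x ∈ W) :
    ∃ (U : X.Opens) (_ : IsAffineOpen U) (_ : x ∈ U) (_ : U ≤ W) (f : Γ(X, U)),
      CohB1.genLocus L s ⊓ U = X.basicOpen f := by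
  obtain ⟨U, hU, hxU, hUW, e, he⟩ := exists_isAffineOpen_isGenerator_of_isInvertible hL x W hxW
  obtain ⟨f, hf⟩ := exists_eq_smul_of_isGenerator he (resSec L (le_top : U ≤ ⊤) (secOf s))
  exact ⟨U, hU, hxU, hUW, f, genLocus_inf_eq_basicOpen s U e he f hf⟩

/-- for `L` invertible, `X_s ⟶ X` is an affine morphism -/
theorem isAffineHom_genLocus_ι {L : X.Modules} (hL : PicF.IsInvertible L)
    (s : Coh.structureModule X ⟶ L) : IsAffineHom (CohB1.genLocus L s).ι := by
  apply isAffineHom_of_forall_exists_isAffineOpen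
  intro x
  obtain ⟨U, hU, hxU, -, f, hf⟩ := exists_isAffineOpen_genLocus_inf_eq_basicOpen hL s x ⊤ trivial
  refine ⟨U, hxU, hU, ?_⟩
  rw [← Scheme.Hom.isAffineOpen_iff_of_isOpenImmersion (CohB1.genLocus L s).ι]
  have : (CohB1.genLocus L s).ι ''ᵁ ((CohB1.genLocus L s).ι ⁻¹ᵁ U) = X.basicOpen f := by
    rw [Scheme.Hom.image_preimage_eq_opensRange_inf, Scheme.Opens.opensRange_ι, hf]
  rw [this]
  exact hU.basicOpen f

/-- `U` affine, `L` invertible ⇒ `X_s ⊓ U` affine -/
theorem isAffineOpen_genLocus_inf_of_isInvertible {L : X.Modules} (hL : PicF.IsInvertible L)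
    (s : Coh.structureModule X ⟶ L) {U : X.Opens} (hU : IsAffineOpen U) :
    IsAffineOpen (CohB1.genLocus L s ⊓ U) := by
  have := isAffineHom_genLocus_ι hL s
  have h1 : IsAffineOpen ((CohB1.genLocus L s).ι ⁻¹ᵁ U) := hU.preimage _
  have h2 := h1.image_of_isOpenImmersion (CohB1.genLocus L s).ι
  rwa [Scheme.Hom.image_preimage_eq_opensRange_inf, Scheme.Opens.opensRange_ι] at h2

/-- on an affine scheme the generating locus of a section of an invertible module is affine -/
theorem isAffineOpen_genLocus_of_isAffine [IsAffine X] {L : X.Modules} (hL : PicF.IsInvertible L)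
    (s : Coh.structureModule X ⟶ L) : IsAffineOpen (CohB1.genLocus L s) := by
  have := isAffineOpen_genLocus_inf_of_isInvertible hL s (isAffineOpen_top X)
  rwa [inf_top_eq] at this

end Groth.Agent.Lib.Ample
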