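import Groth.Agent.Lib.Ample.Helper50_TwistHom
import Groth.Prelude.Def_Pic

/-!
# AMPLE (B), part 3 (helper50): local free generators of invertible modules; `genLocus`

Namespace `Groth.Agent.Lib.Ample`.
-/

universe u

open CategoryTheory MonoidalCategory Opposite TensorProduct AlgebraicGeometry TopologicalSpace

namespace Groth.Agent.Lib.Ample

open Groth.Agent.Lib.QCoh CohB1 Scheme.Modules

variable {X : Scheme.{u}} {L : X.Modules}

section FromIso

variable (U : X.Opens) (φ : L.restrict U.ι ≅ Coh.structureModule (↑U : Scheme.{u}))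

/-- the generator over `U.ι ''ᵁ V'` given by a trivialization -/
noncomputable def genOfIso (V' : (↑U : Scheme.{u}).Opens) : Γ(L, U.ι ''ᵁ V') :=
  φ.inv.app V' (show Γ(Coh.structureModule (↑U : Scheme.{u}), V') from
    (1 : Γ((↑U : Scheme.{u}), V')))

lemma genOfIso_res {V' W' : (↑U : Scheme.{u}).Opens} (i : W' ⟶ V') :
    L.presheaf.map (homOfLE (Scheme.Hom.image_mono U.ι i.le)).op (genOfIso U φ V') =
      genOfIso U φ W' := by
  unfold genOfIso
  have h := app_naturality_apply φ.inv i (show Γ(Coh.structureModule (↑U : Scheme.{u}), V') from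
    (1 : Γ((↑U : Scheme.{u}), V')))
  refine Eq.trans ?_ (h.symm.trans ?_)
  · rfl
  · congr 1
    exact map_one ((↑U : Scheme.{u}).presheaf.map i.op).hom

lemma smul_genOfIso (V' : (↑U : Scheme.{u}).Opens) (a : Γ(X, U.ι ''ᵁ V')) :
    a • genOfIso U φ V' = φ.inv.app V'
      (show Γ(Coh.structureModule (↑U : Scheme.{u}), V') from (U.ι.appIso V').hom a) := by
  unfold genOfIso
  have h1 := Hom.app_smul φ.inv ((U.ι.appIso V').hom a)
    (show Γ(Coh.structureModule (↑U : Scheme.{u}), V') from (1 : Γ((↑U : Scheme.{u}), V')))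
  have h2 : ((U.ι.appIso V').hom a) •
    (show Γ(Coh.structureModule (↑U : Scheme.{u}), V') from (1 : Γ((↑U : Scheme.{u}), V'))) =
    (show Γ(Coh.structureModule (↑U : Scheme.{u}), V') from (U.ι.appIso V').hom a) :=
    mul_one ((U.ι.appIso V').hom a)
  rw [h2] at h1
  refine Eq.trans ?_ h1.symm
  have h3 : (U.ι.appIso V').inv ((U.ι.appIso V').hom a) = a := by
    rw [← CommRingCat.comp_apply, Iso.hom_inv_id]
    rfl
  conv_lhs => rw [← h3]
  rfl

lemma bijective_smul_genOfIso (V' : (↑U : Scheme.{u}).Opens) :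
    Function.Bijective (fun a : Γ(X, U.ι ''ᵁ V') => a • genOfIso U φ V') := by
  have hb : Function.Bijective (φ.inv.app V') := ConcreteCategory.bijective_of_isIso _
  have hc : Function.Bijective (U.ι.appIso V').hom := ConcreteCategory.bijective_of_isIso _
  have : (fun a : Γ(X, U.ι ''ᵁ V') => a • genOfIso U φ V') =
      (fun r => φ.inv.app V' r) ∘ (fun a => (U.ι.appIso V').hom a) := by
    funext a
    exact smul_genOfIso U φ V' a
  rw [this]
  exact hb.comp hc

include φ in
/-- a trivialization of `L` over `U` gives a free generator of `L` over `U` -/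
theorem exists_isGenerator_of_iso : ∃ e : Γ(L, U), IsGenerator L U e := by
  have key : ∀ (U' : X.Opens) (_ : U.ι ''ᵁ ⊤ = U'), ∃ e : Γ(L, U'), IsGenerator L U' e := by
    rintro _ rfl
    refine ⟨genOfIso U φ ⊤, ?_⟩
    rw [isGenerator_iff]
    intro V hV
    obtain ⟨V', rfl⟩ : ∃ V' : (↑U : Scheme.{u}).Opens, V = U.ι ''ᵁ V' := by
      refine ⟨U.ι ⁻¹ᵁ V, ?_⟩
      rw [Scheme.Hom.image_preimage_eq_opensRange_inf]
      exact (inf_eq_right.2 (hV.trans_eq (Scheme.Hom.image_top_eq_opensRange _))).symm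
    have h1 := genOfIso_res U φ (homOfLE (le_top : V' ≤ ⊤))
    have h2 : L.presheaf.map (homOfLE hV).op (genOfIso U φ ⊤) = genOfIso U φ V' := h1
    rw [h2]
    exact bijective_smul_genOfIso U φ V'
  exact key U (by simp)

end FromIso

/-- an invertible module has local free generators -/
theorem exists_isGenerator_of_isInvertible (hL : PicF.IsInvertible L) (x : X) :
    ∃ (U : X.Opens) (_ : x ∈ U) (e : Γ(L, U)), IsGenerator L U e := by
  obtain ⟨U, hxU, ⟨φ⟩⟩ := hL x
  obtain ⟨e, he⟩ := exists_isGenerator_of_iso U φ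
  exact ⟨U, hxU, e, he⟩

/-- an invertible module has free generators over a basis of affine opens -/
theorem exists_isAffineOpen_isGenerator_of_isInvertible (hL : PicF.IsInvertible L) (x : X)
    (W : X.Opens) (hxW : x ∈ W) :
    ∃ (U : X.Opens) (_ : IsAffineOpen U) (_ : x ∈ U) (_ : U ≤ W) (e : Γ(L, U)),
      IsGenerator L U e := by
  obtain ⟨U, hxU, e, he⟩ := exists_isGenerator_of_isInvertible hL x
  obtain ⟨U', hU'aff, hxU', hU'⟩ :=
    Opens.isBasis_iff_nbhd.1 X.isBasis_affineOpens (U := U ⊓ W) ⟨hxU, hxW⟩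
  exact ⟨U', hU'aff, hxU', hU'.trans inf_le_right, _, he.res (hU'.trans inf_le_left)⟩

end Groth.Agent.Lib.Ample
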