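import Groth.Agent.Lib.Ample.GenLocus
import Groth.Agent.Lib.Ample.Helper50_LocalGen
import Groth.Agent.Lib.QCoh.Helper74_LocFreeLift
import Groth.Agent.Lib.Helper22.QCohExt
import Groth.Agent.Lib.QCoh.Invertible

/-!
# AMPLE project (lead), part (C0): sections, generators, and the quasi-affine case

ns `Groth.Agent.Lib.Ample`.
* `homOfSec L t : O_X ⟶ L` (the morphism with `1 ↦ t`, for `t : Γ(L, ⊤)`), `secOf_homOfSec`, `homOfSec_secOf`
* `genLocus_smul_le` : `genLocus (r • t) ≤ X_r` (any module `L`)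
* `IsGenerator.mono` (= helper50's `IsGenerator.res` with `resSec`); for `exists_isGenerator_of_iso` (a trivialization
  `L|_U ≅ O_U` gives a free generator over `U`) see `Helper50_LocalGen` (imported here)
* `exists_genLocus_eq_basicOpen` : `X` qcqs, `L` quasi-coherent and freely generated over `X_r` ⇒ `X_r = genLocus s`
  for some global section `s` (uses helper22's extension lemma `exists_pow_smul_eq_map_of_isCompact_of_isQuasiSeparated`)
* `isAmple_of_isQuasiAffine` : every invertible module on a quasi-affine scheme is ample (= S4373)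
-/

universe u
open CategoryTheory CategoryTheory.Limits AlgebraicGeometry TopologicalSpace Opposite

namespace Groth.Agent.Lib.Ample

open Scheme.Modules

variable {X : Scheme.{u}}

/-- the morphism `O_X ⟶ L` with `1 ↦ t` -/
noncomputable def homOfSec (L : X.Modules) (t : Γ(L, ⊤)) : Coh.structureModule X ⟶ L :=
  QCoh.Lift74.unitHomOfTop L t

@[simp] lemma secOf_homOfSec (L : X.Modules) (t : Γ(L, ⊤)) : secOf (homOfSec L t) = t :=
  QCoh.Lift74.unitHomOfTop_app_one L t

lemma homOfSec_secOf {L : X.Modules} (s : Coh.structureModule X ⟶ L) : homOfSec L (secOf s) = s := by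
  apply QCoh.Lift74.unitHom_ext
  exact QCoh.Lift74.unitHomOfTop_app_one L _

/-- `genLocus (r • t) ≤ X_r` for any module `L`, global function `r` and global section `t`. -/
theorem genLocus_smul_le (L : X.Modules) (r : Γ(X, ⊤)) (t : Γ(L, ⊤)) :
    CohB1.genLocus L (homOfSec L (r • t)) ≤ X.basicOpen r := by
  set W := CohB1.genLocus L (homOfSec L (r • t)) with hW
  have hbij : Function.Bijective ((homOfSec L (r • t)).app W) :=
    (le_genLocus_iff' L _ W).1 le_rfl W le_rfl
  obtain ⟨g', hg'⟩ := hbij.2 (resSec L (le_top : W ≤ ⊤) t)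
  obtain ⟨g, rfl⟩ : ∃ g : Γ(X, W), (show Γ(Coh.structureModule X, W) from g) = g' := ⟨g', rfl⟩
  have h1 : ∀ a : Γ(X, W), ((homOfSec L (r • t)).app W).hom (show Γ(Coh.structureModule X, W) from a) =
      (a * resFn (le_top : W ≤ ⊤) r) • resSec L (le_top : W ≤ ⊤) t := by
    intro a
    rw [app_apply, secOf_homOfSec]
    change a • resSec L (le_top : W ≤ ⊤) (r • t) = _
    rw [resSec_smul, mul_smul]
  have h2 : ((homOfSec L (r • t)).app W).hom
        (show Γ(Coh.structureModule X, W) from (resFn (le_top : W ≤ ⊤) r * g)) =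
      ((homOfSec L (r • t)).app W).hom (show Γ(Coh.structureModule X, W) from (1 : Γ(X, W))) := by
    rw [h1 1, one_mul]
    have := Hom.app_smul (homOfSec L (r • t)) (resFn (le_top : W ≤ ⊤) r)
      (show Γ(Coh.structureModule X, W) from g)
    refine Eq.trans this ?_
    congr 1
  have h3 : resFn (le_top : W ≤ ⊤) r * g = 1 := hbij.1 h2
  have h4 : IsUnit (resFn (le_top : W ≤ ⊤) r) := IsUnit.of_mul_eq_one _ h3
  have h5 := X.basicOpen_of_isUnit h4
  rw [X.basicOpen_res] at h5
  exact (inf_eq_left.mp h5)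


lemma IsGenerator.mono {L : X.Modules} {U V : X.Opens} {e : Γ(L, U)} (he : IsGenerator L U e)
    (h : V ≤ U) : IsGenerator L V (resSec L h e) := by
  intro W hW
  have := he W (hW.trans h)
  rw [resSec_resSec]
  exact this

/-- On a qcqs scheme, if the quasi-coherent module `L` is freely generated over `X_r` (`r` a global function),
then `X_r` is the generating locus of a global section of `L`. -/
theorem exists_genLocus_eq_basicOpen [CompactSpace X] [QuasiSeparatedSpace X]
    (L : X.Modules) [L.IsQuasicoherent] (r : Γ(X, ⊤))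
    (t : Γ(L, X.basicOpen r)) (ht : IsGenerator L (X.basicOpen r) t) :
    ∃ s : Coh.structureModule X ⟶ L, CohB1.genLocus L s = X.basicOpen r := by
  obtain ⟨n, s₀, hs₀⟩ := Helper22.exists_pow_smul_eq_map_of_isCompact_of_isQuasiSeparated L
    (U := ⊤) isCompact_univ isQuasiSeparated_univ r t
  refine ⟨homOfSec L (r • s₀), le_antisymm (genLocus_smul_le L r s₀) ?_⟩
  have key := genLocus_inf_eq_basicOpen (homOfSec L (r • s₀)) (X.basicOpen r) t ht
    (resFn (X.basicOpen_le r) r ^ (n + 1)) (by
      rw [secOf_homOfSec, resSec_smul, pow_succ', mul_smul]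
      congr 1)
  have hu : IsUnit (resFn (X.basicOpen_le r) r ^ (n + 1)) :=
    (RingedSpace.isUnit_res_basicOpen X.toRingedSpace r).pow _
  have h5 := X.basicOpen_of_isUnit hu
  rw [h5] at key
  exact inf_eq_right.mp key


/-- every invertible module on a quasi-affine scheme is ample -/
theorem isAmple_of_isQuasiAffine [X.IsQuasiAffine] (L : X.Modules) (hL : PicF.IsInvertible L) :
    CohB1.IsAmple L := by
  have : L.IsQuasicoherent := QCoh.isQuasicoherent_of_isInvertible hL
  refine ⟨hL, inferInstance, fun x => ?_⟩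
  obtain ⟨U₀, hxU₀, ⟨e₀⟩⟩ := hL x
  obtain ⟨t₀, ht₀⟩ := exists_isGenerator_of_iso U₀ e₀
  obtain ⟨_, ⟨_, ⟨r, hr, rfl⟩, rfl⟩, hxr, hrU⟩ :=
    (Scheme.IsQuasiAffine.isBasis_basicOpen X).exists_subset_of_mem_open hxU₀ U₀.isOpen
  have hrU' : X.basicOpen r ≤ U₀ := hrU
  obtain ⟨s, hs⟩ := exists_genLocus_eq_basicOpen L r (resSec L hrU' t₀) (ht₀.mono hrU')
  have hg : CohB1.genLocus (CohB1.tensorPow L (0 + 1)) (s ≫ (QCoh.tensorPowOneIso L).inv) =
      X.basicOpen r := (genLocus_comp_iso s (QCoh.tensorPowOneIso L).symm).trans hs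
  refine ⟨0, s ≫ (QCoh.tensorPowOneIso L).inv, ?_, ?_⟩
  · rw [hg]
    exact hxr
  · rw [hg]
    exact hr

end Groth.Agent.Lib.Ample
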