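import Groth.Agent.Lib.Ample.Helper50_MulSec

/-!
# AMPLE (B), part (iii) (helper50): comparison isomorphisms for iterated twists

Namespace `Groth.Agent.Lib.Ample`.

* `twistIterIso G M k : twistIter G M k ≅ tensorMod G (tensorPow M k)`
* `tensorPowMulIso L m k : tensorPow (tensorPow L m) k ≅ tensorPow L (m * k)`
* `twistIterPowIso F L r m k :
    twistIter (tensorMod F (tensorPow L r)) (tensorPow L m) k ≅ tensorMod F (tensorPow L (r + m * k))`
* `twistIterUnitIso L k : twistIter O_X L k ≅ tensorPow L k`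
-/

universe u

open CategoryTheory MonoidalCategory Opposite TensorProduct AlgebraicGeometry TopologicalSpace

namespace Groth.Agent.Lib.Ample

open Groth.Agent.Lib.QCoh CohB1 Scheme.Modules

variable {X : Scheme.{u}}

/-- `((G ⊗ M) ⊗ M) ⊗ ⋯ ≅ G ⊗ M^{⊗ k}` -/
noncomputable def twistIterIso (G M : X.Modules) : ∀ k : ℕ,
    twistIter G M k ≅ tensorMod G (tensorPow M k)
  | 0 => (tensorModRightUnitor G).symm
  | k + 1 => tensorModCongr (twistIterIso G M k) (Iso.refl M) ≪≫
      tensorModAssoc G (tensorPow M k) M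

/-- `(L^{⊗ m})^{⊗ k} ≅ L^{⊗ (m k)}` -/
noncomputable def tensorPowMulIso (L : X.Modules) (m : ℕ) : ∀ k : ℕ,
    tensorPow (tensorPow L m) k ≅ tensorPow L (m * k)
  | 0 => Iso.refl _
  | k + 1 => tensorModCongr (tensorPowMulIso L m k) (Iso.refl _) ≪≫
      (tensorPowAddIso L (m * k) m).symm

/-- `(F ⊗ L^r) ⊗ (L^m) ⊗ ⋯ ⊗ (L^m) ≅ F ⊗ L^{r + m k}` -/
noncomputable def twistIterPowIso (F L : X.Modules) (r m k : ℕ) :
    twistIter (tensorMod F (tensorPow L r)) (tensorPow L m) k ≅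
      tensorMod F (tensorPow L (r + m * k)) :=
  twistIterIso _ _ k ≪≫
    tensorModCongr (Iso.refl _) (tensorPowMulIso L m k) ≪≫
    tensorModAssoc F (tensorPow L r) (tensorPow L (m * k)) ≪≫
    tensorModCongr (Iso.refl F) (tensorPowAddIso L r (m * k)).symm

/-- `((O ⊗ L) ⊗ L) ⊗ ⋯ ≅ L^{⊗ k}` -/
noncomputable def twistIterUnitIso (L : X.Modules) : ∀ k : ℕ,
    twistIter (Coh.structureModule X) L k ≅ tensorPow L k
  | 0 => Iso.refl _
  | k + 1 => tensorModCongr (twistIterUnitIso L k) (Iso.refl L)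

end Groth.Agent.Lib.Ample
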