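import Groth.Agent.Lib.Ample.Tensor
import Groth.Agent.Lib.Ample.Helper50_TwistIso

/-!
# AMPLE project (lead): the opens `X_s` form a basis when `L` is ample

ns `Groth.Agent.Lib.Ample`.
* `Basis.quasiSeparatedSpace_of_isAmple` : a scheme with an ample invertible module is quasi-separated
* `Basis.isGenerator_sigmaHom_one` : `1 ⊗ s^k` generates `twistIter O M k` over `X_s`
* `exists_genLocus_eq_basicOpen_of_isAffineOpen` : `X` qcqs, `M` invertible, `s : O ⟶ M`, `g ∈ Γ(X, X_s)`:
  for some `k`, some global section `u` of `twistIter O M (k+1)` has `X_u = D(g) ⊆ X_s`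
* `exists_genLocus_le_of_isAmple` : `L` ample, `x ∈ W` open ⇒ `∃ N, t : O ⟶ L^{N+1}` with `x ∈ X_t ≤ W`, `X_t` affine
* `isBasis_genLocus_of_isAmple`, `isAmple_of_isBasis_genLocus`, `isAmple_iff_isBasis_genLocus` (= S2126)
-/

universe u
open CategoryTheory CategoryTheory.Limits AlgebraicGeometry TopologicalSpace Opposite

namespace Groth.Agent.Lib.Ample

open Scheme.Modules

variable {X : Scheme.{u}}

/-- a scheme carrying an ample invertible module is quasi-separated -/
theorem Basis.quasiSeparatedSpace_of_isAmple {L : X.Modules} (hL : CohB1.IsAmple L) :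
    QuasiSeparatedSpace X := by
  obtain ⟨hinv, -, h⟩ := hL
  choose n s hx haff using h
  refine QuasiSeparatedSpace.of_isOpenCover (U := fun x => CohB1.genLocus _ (s x))
    (eq_top_iff.mpr fun x _ => Opens.mem_iSup.mpr ⟨x, hx x⟩) (fun x => ?_)
    (fun x => (haff x).isQuasiSeparated)
  have := isAffineHom_genLocus_ι (QCoh.isInvertible_tensorPow hinv (n x + 1)) (s x)
  exact IsRetrocompact_iff_isSpectralMap_subtypeVal.mpr (CohB1.genLocus _ (s x)).ι.isSpectralMap

/-- `1 ⊗ s^k` generates `twistIter O M k` over `X_s` -/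
theorem Basis.isGenerator_sigmaHom_one {M : X.Modules} (s : Coh.structureModule X ⟶ M) (k : ℕ) :
    IsGenerator (twistIter (Coh.structureModule X) M k) (CohB1.genLocus M s)
      ((sigmaHom (Coh.structureModule X) s k).app (CohB1.genLocus M s)
        (oneSec (CohB1.genLocus M s))) := by
  intro V hV
  have h1 := bijective_sigmaHom_app s (Coh.structureModule X) hV k
  have h2 : (fun r : Γ(X, V) => r • resSec _ hV
      ((sigmaHom (Coh.structureModule X) s k).app (CohB1.genLocus M s)
        (oneSec (CohB1.genLocus M s)))) =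
      (fun r : Γ(X, V) => (sigmaHom (Coh.structureModule X) s k).app V
        (show Γ(Coh.structureModule X, V) from r)) := by
    funext r
    have e1 : resSec _ hV ((sigmaHom (Coh.structureModule X) s k).app (CohB1.genLocus M s)
        (oneSec (CohB1.genLocus M s))) =
        (sigmaHom (Coh.structureModule X) s k).app V (oneSec V) := by
      have := QCoh.app_naturality_apply (sigmaHom (Coh.structureModule X) s k) (homOfLE hV)
        (oneSec (CohB1.genLocus M s))
      refine this.symm.trans ?_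
      congr 1
      exact map_one (X.presheaf.map (homOfLE hV).op).hom
    rw [e1]
    have e2 := Hom.app_smul (sigmaHom (Coh.structureModule X) s k) r (oneSec V)
    refine e2.symm.trans ?_
    congr 1
    exact mul_one r
  rw [h2]
  exact h1

end Groth.Agent.Lib.Ample

namespace Groth.Agent.Lib.Ample

open Scheme.Modules

variable {X : Scheme.{u}}

/-- `X` qcqs, `M` invertible, `s : O ⟶ M`, `g` a function on `X_s`: the basic open `D(g) ⊆ X_s` is the generating
locus of a global section of `twistIter O M (k+1) ≅ M^{k+1}` -/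
theorem exists_genLocus_eq_basicOpen_of_genLocus [CompactSpace X] [QuasiSeparatedSpace X]
    {M : X.Modules} (hM : PicF.IsInvertible M) (s : Coh.structureModule X ⟶ M)
    (g : Γ(X, CohB1.genLocus M s)) :
    ∃ (k : ℕ) (u : Coh.structureModule X ⟶ twistIter (Coh.structureModule X) M (k + 1)),
      CohB1.genLocus _ u = X.basicOpen g := by
  have hO : (Coh.structureModule X).IsQuasicoherent :=
    QCoh.isQuasicoherent_of_isInvertible (QCoh.isInvertible_structureModule X)
  obtain ⟨n₀, h⟩ := exists_extension_sigmaHom_top (Coh.structureModule X) hM s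
    (show Γ(Coh.structureModule X, CohB1.genLocus M s) from g)
  obtain ⟨t'', ht''⟩ := h n₀ le_rfl
  have hTw : PicF.IsInvertible (twistIter (Coh.structureModule X) M n₀) :=
    QCoh.isInvertible_of_iso (twistIterUnitIso M n₀).symm (QCoh.isInvertible_tensorPow hM n₀)
  refine ⟨n₀, mulSec (homOfSec _ t'') s, ?_⟩
  have h1 := genLocus_mulSec (homOfSec _ t'') s hTw hM
  have h2 := genLocus_inf_eq_basicOpen (homOfSec (twistIter (Coh.structureModule X) M n₀) t'')
    (CohB1.genLocus M s) _ (Basis.isGenerator_sigmaHom_one s n₀) g (by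
      rw [secOf_homOfSec]
      refine ht''.trans ?_
      have e2 := Hom.app_smul (sigmaHom (Coh.structureModule X) s n₀) g
        (oneSec (CohB1.genLocus M s))
      refine Eq.trans ?_ e2
      congr 1
      exact (mul_one g).symm)
  exact h1.trans h2

end Groth.Agent.Lib.Ample

namespace Groth.Agent.Lib.Ample

open Scheme.Modules

variable {X : Scheme.{u}}

/-- **basis property**: for `L` ample, every neighbourhood `W` of a point `x` contains an affine `X_t ∋ x` with `t` a
section of a positive power of `L` -/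
theorem exists_genLocus_le_of_isAmple {L : X.Modules} (hL : CohB1.IsAmple L) (x : X) (W : X.Opens)
    (hxW : x ∈ W) :
    ∃ (N : ℕ) (t : Coh.structureModule X ⟶ CohB1.tensorPow L (N + 1)),
      x ∈ CohB1.genLocus _ t ∧ CohB1.genLocus _ t ≤ W ∧ IsAffineOpen (CohB1.genLocus _ t) := by
  have hqs := Basis.quasiSeparatedSpace_of_isAmple hL
  obtain ⟨hinv, hc, h⟩ := hL
  obtain ⟨n, s, hxs, haff⟩ := h x
  obtain ⟨g, hgW, hxg⟩ := haff.exists_basicOpen_le ⟨x, hxW⟩ hxs
  obtain ⟨k, u, hu⟩ := exists_genLocus_eq_basicOpen_of_genLocus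
    (QCoh.isInvertible_tensorPow hinv (n + 1)) s g
  have hN : (n + 1) * (k + 1) = ((n + 1) * (k + 1) - 1) + 1 := by
    have : 0 < (n + 1) * (k + 1) := Nat.mul_pos (Nat.succ_pos n) (Nat.succ_pos k)
    omega
  let γ := twistIterUnitIso (CohB1.tensorPow L (n + 1)) (k + 1) ≪≫
    QCoh.tensorPowMulIso L (n + 1) (k + 1) ≪≫ QCoh.tensorPowEqIso L hN
  have hg : CohB1.genLocus _ (u ≫ γ.hom) = X.basicOpen g := (genLocus_comp_iso u γ).trans hu
  refine ⟨(n + 1) * (k + 1) - 1, u ≫ γ.hom, ?_, ?_, ?_⟩
  · rw [hg]; exact hxg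
  · rw [hg]; exact hgW
  · rw [hg]; exact haff.basicOpen g

/-- for `L` ample the opens `X_s` form a basis -/
theorem isBasis_genLocus_of_isAmple {L : X.Modules} (hL : CohB1.IsAmple L) :
    Opens.IsBasis {U : X.Opens | ∃ (n : ℕ) (s : Coh.structureModule X ⟶ CohB1.tensorPow L (n + 1)),
      U = CohB1.genLocus _ s} := by
  rw [Opens.isBasis_iff_nbhd]
  intro W x hxW
  obtain ⟨N, t, hx, hle, -⟩ := exists_genLocus_le_of_isAmple hL x W hxW
  exact ⟨_, ⟨N, t, rfl⟩, hx, hle⟩

/-- if `X` is quasi-compact, `L` invertible and the `X_s` form a basis then `L` is ample -/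
theorem isAmple_of_isBasis_genLocus [CompactSpace X] {L : X.Modules} (hL : PicF.IsInvertible L)
    (h : Opens.IsBasis {U : X.Opens | ∃ (n : ℕ) (s : Coh.structureModule X ⟶ CohB1.tensorPow L (n + 1)),
      U = CohB1.genLocus _ s}) : CohB1.IsAmple L := by
  refine ⟨hL, inferInstance, fun x => ?_⟩
  obtain ⟨A, hA, hxA, -⟩ := Opens.isBasis_iff_nbhd.1 X.isBasis_affineOpens (U := ⊤) (x := x) trivial
  obtain ⟨_, ⟨n, s, rfl⟩, hxs, hsA⟩ := Opens.isBasis_iff_nbhd.1 h hxA
  refine ⟨n, s, hxs, ?_⟩
  have := isAffineOpen_genLocus_inf_of_isInvertible (QCoh.isInvertible_tensorPow hL (n + 1)) s hA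
  rwa [inf_eq_left.mpr hsA] at this

theorem isAmple_iff_isBasis_genLocus [CompactSpace X] {L : X.Modules} (hL : PicF.IsInvertible L) :
    CohB1.IsAmple L ↔
      Opens.IsBasis {U : X.Opens | ∃ (n : ℕ) (s : Coh.structureModule X ⟶ CohB1.tensorPow L (n + 1)),
        U = CohB1.genLocus _ s} :=
  ⟨isBasis_genLocus_of_isAmple, isAmple_of_isBasis_genLocus hL⟩

end Groth.Agent.Lib.Ample
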