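import Groth.Agent.Lib.Ample.Helper50_Serre
import Groth.Agent.Lib.QCoh.AffineOpen

/-!
# Finite generation by global sections (lead)

ns `Groth.Agent.Lib.Ample`.
* `homOfFamily G t : free ι ⟶ G` for a family `t : ι → Γ(G, ⊤)` of global sections
* `exists_finite_epi_free_of_genOn` : `X` quasi-compact, `G` quasi-coherent of finite type, every point has an
  affine neighbourhood `W` with `GenOn G W` ⇒ finitely many global sections generate `G`
* `exists_finite_epi_free_tensorPow_of_isAmple` : Serre: `L` ample, `F` coherent ⇒ for `n ≫ 0`,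
  `F ⊗ L^n` is a quotient of a finite free module
-/

universe u

open CategoryTheory CategoryTheory.Limits AlgebraicGeometry TopologicalSpace Opposite

namespace Groth.Agent.Lib.Ample

open Groth.Agent.Lib.QCoh CohB1 Scheme.Modules Groth.Agent.Lib.Helper22

variable {X : Scheme.{u}}

/-- the map from a free module given by a family of global sections -/
noncomputable def homOfFamily (G : X.Modules) {ι : Type u} (t : ι → Γ(G, ⊤)) :
    freeModule X ι ⟶ G :=
  (SheafOfModules.freeHomEquiv G).symm (fun j => sectionsOfTop G (t j))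

lemma homOfFamily_app_top (G : X.Modules) {ι : Type u} (t : ι → Γ(G, ⊤)) (j : ι) :
    (homOfFamily G t).app ⊤
      ((SheafOfModules.freeSection (R := X.ringCatSheaf) j).val (op ⊤)) = t j := by
  have h1 := SheafOfModules.sectionsMap_freeHomEquiv_symm_freeSection
    (M := G) (fun j : ι => sectionsOfTop G (t j)) j
  have h2 := congrArg (fun s => s.val (op ⊤)) h1
  refine Eq.trans ?_ (h2.trans ?_)
  · rfl
  · change G.presheaf.map (homOfLE (le_top : (⊤ : X.Opens) ≤ ⊤)).op (t j) = t j
    have : (homOfLE (le_top : (⊤ : X.Opens) ≤ ⊤)) = 𝟙 _ := rfl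
    rw [this, op_id, G.presheaf.map_id]
    rfl

/-- sections in the span of the restrictions of the `t j` are in the image of `homOfFamily` -/
lemma exists_homOfFamily_app_eq (G : X.Modules) {ι : Type u} (t : ι → Γ(G, ⊤)) (W : X.Opens)
    (y : Γ(G, W))
    (hy : y ∈ Submodule.span Γ(X, W) (Set.range fun j => resTop G W (t j))) :
    ∃ z, (homOfFamily G t).app W z = y := by
  induction hy using Submodule.span_induction with
  | mem y hy =>
    obtain ⟨j, rfl⟩ := hy
    obtain ⟨z, hz⟩ : ∃ z, (homOfFamily G t).app ⊤ z = t j := ⟨_, homOfFamily_app_top G t j⟩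
    refine ⟨(freeModule X ι).presheaf.map (homOfLE (le_top : W ≤ ⊤)).op z, ?_⟩
    rw [app_naturality_apply, hz]
  | zero => exact ⟨0, map_zero _⟩
  | add x y _ _ hx hy =>
    obtain ⟨a, rfl⟩ := hx
    obtain ⟨b, rfl⟩ := hy
    exact ⟨a + b, map_add _ _ _⟩
  | smul r x _ hx =>
    obtain ⟨a, rfl⟩ := hx
    exact ⟨r • a, Hom.app_smul _ _ _⟩

lemma res_mem_span_family (G : X.Modules) {ι : Type u} (t : ι → Γ(G, ⊤)) {W V : X.Opens}
    (hVW : V ≤ W) (y : Γ(G, W))
    (hy : y ∈ Submodule.span Γ(X, W) (Set.range fun j => resTop G W (t j))) :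
    G.presheaf.map (homOfLE hVW).op y ∈
      Submodule.span Γ(X, V) (Set.range fun j => resTop G V (t j)) := by
  induction hy using Submodule.span_induction with
  | mem y hy =>
    obtain ⟨j, rfl⟩ := hy
    refine Submodule.subset_span ⟨j, ?_⟩
    exact (map_map_apply G _ _ _ (t j)).symm
  | zero => rw [map_zero]; exact Submodule.zero_mem _
  | add x y _ _ hx hy => rw [map_add]; exact Submodule.add_mem _ hx hy
  | smul a x _ hx => rw [Scheme.Modules.map_smul]; exact Submodule.smul_mem _ _ hx

/-- generation by a family of global sections passes to basic opens of an affine open -/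
lemma span_family_basicOpen_eq_top (G : X.Modules) [G.IsQuasicoherent] {ι : Type u}
    (t : ι → Γ(G, ⊤)) {W : X.Opens} (hW : IsAffineOpen W)
    (h : Submodule.span Γ(X, W) (Set.range fun j => resTop G W (t j)) = ⊤) (g : Γ(X, W)) :
    Submodule.span Γ(X, X.basicOpen g)
      (Set.range fun j => resTop G (X.basicOpen g) (t j)) = ⊤ := by
  rw [eq_top_iff]
  intro y _
  obtain ⟨n, x, hx⟩ := exists_pow_smul_eq_map_of_isAffineOpen G hW g y
  have hu : IsUnit (X.presheaf.map (homOfLE (X.basicOpen_le g)).op g) :=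
    RingedSpace.isUnit_res_basicOpen X.toRingedSpace g
  obtain ⟨u, hu'⟩ := hu.pow n
  have h1 := res_mem_span_family G t (X.basicOpen_le g) x (h ▸ Submodule.mem_top)
  rw [hx] at h1
  have h2 := Submodule.smul_mem _ (↑u⁻¹ : Γ(X, X.basicOpen g)) h1
  rw [← hu', ← mul_smul, Units.inv_mul, one_smul] at h2
  exact h2

/-- **finitely many global sections generate** a quasi-coherent module of finite type on a
quasi-compact scheme which is locally generated by global sections -/
theorem exists_finite_epi_free_of_genOn [CompactSpace X] (G : X.Modules) [G.IsQuasicoherent]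
    [G.IsFiniteType]
    (h : ∀ x : X, ∃ W : X.Opens, IsAffineOpen W ∧ x ∈ W ∧ GenOn G W) :
    ∃ (ι : Type u) (_ : Finite ι) (t : ι → Γ(G, ⊤)), Epi (homOfFamily G t) := by
  classical
  choose W hW hxW hgen using h
  obtain ⟨T, hT⟩ := isCompact_univ.elim_finite_subcover
    (fun x : X => ((W x : X.Opens) : Set X)) (fun x => (W x).isOpen)
    (fun y _ => Set.mem_iUnion.2 ⟨y, hxW y⟩)
  -- finitely many global sections for each `W x`
  have key : ∀ x : X, ∃ S : Finset Γ(G, ⊤),
      Submodule.span Γ(X, W x) ((resTop G (W x)) '' (S : Set Γ(G, ⊤))) = ⊤ := by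
    intro x
    have hfin : Module.Finite Γ(X, W x) Γ(G, W x) := finite_Γ_of_isAffineOpen (hW x) G
    have hfg : (Submodule.span Γ(X, W x) (Set.range (resTop G (W x)))).FG := by
      rw [hgen x]; exact hfin.1
    obtain ⟨s', hs's, hss'⟩ := (Submodule.fg_span_iff_fg_span_finset_subset _).1 hfg
    choose! pre hpre using fun y (hy : y ∈ (s' : Set Γ(G, W x))) => hs's hy
    refine ⟨s'.image pre, ?_⟩
    rw [eq_top_iff, ← hgen x, hss']
    refine Submodule.span_mono ?_
    intro y hy
    refine ⟨pre y, ?_, hpre y hy⟩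
    simp only [Finset.coe_image, Set.mem_image, Finset.mem_coe]
    exact ⟨y, hy, rfl⟩
  choose S hS using key
  let S' : Finset Γ(G, ⊤) := T.biUnion S
  let t : {m : Γ(G, ⊤) // m ∈ S'} → Γ(G, ⊤) := fun j => j.1
  refine ⟨{m : Γ(G, ⊤) // m ∈ S'}, inferInstance, t, ?_⟩
  have hspan : ∀ x ∈ T, Submodule.span Γ(X, W x)
      (Set.range fun j => resTop G (W x) (t j)) = ⊤ := by
    intro x hx
    rw [eq_top_iff, ← hS x]
    refine Submodule.span_mono ?_
    rintro _ ⟨m, hm, rfl⟩
    exact ⟨⟨m, Finset.mem_biUnion.2 ⟨x, hx, hm⟩⟩, rfl⟩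
  refine epi_of_surjective_of_isBasis
    (fun p : (Σ x : T, Γ(X, W x.1)) => X.basicOpen p.2) ?_ _ ?_
  · rw [Opens.isBasis_iff_nbhd]
    intro U y hyU
    have hy : y ∈ ⋃ i ∈ T, ((W i : X.Opens) : Set X) := hT (Set.mem_univ y)
    simp only [Set.mem_iUnion] at hy
    obtain ⟨x, hxT, hyx⟩ := hy
    obtain ⟨f, hfU, hyf⟩ := (hW x).exists_basicOpen_le (V := U) ⟨y, hyU⟩ hyx
    exact ⟨_, ⟨⟨⟨x, hxT⟩, f⟩, rfl⟩, hyf, hfU⟩
  · rintro ⟨⟨x, hxT⟩, g⟩ y
    exact exists_homOfFamily_app_eq G t _ y
      ((span_family_basicOpen_eq_top G t (hW x) (hspan x hxT) g) ▸ Submodule.mem_top)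

/-- **Serre's theorem, finite form**: for `L` ample and `F` quasi-coherent of finite type on a
quasi-compact quasi-separated scheme, `F ⊗ L^n` is generated by finitely many global sections
for all `n ≫ 0`. -/
theorem exists_finite_epi_free_tensorPow_of_isAmple [QuasiSeparatedSpace X] {L : X.Modules}
    (hL : IsAmple L) (F : X.Modules) [F.IsQuasicoherent] [F.IsFiniteType] :
    ∃ n₀ : ℕ, ∀ n, n₀ ≤ n → ∃ (ι : Type u) (_ : Finite ι)
      (t : ι → Γ(tensorMod F (tensorPow L n), ⊤)), Epi (homOfFamily _ t) := by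
  have hc : CompactSpace X := hL.2.1
  obtain ⟨n₀, hn₀⟩ := exists_forall_exists_genOn_of_isAmple hL F
  refine ⟨n₀, fun n hn => ?_⟩
  have hLn : PicF.IsInvertible (tensorPow L n) := isInvertible_tensorPow hL.1 n
  have hLq : (tensorPow L n).IsQuasicoherent := isQuasicoherent_of_isInvertible hLn
  have hLt : (tensorPow L n).IsFiniteType := isFiniteType_of_isInvertible hLn
  have hGq : (tensorMod F (tensorPow L n)).IsQuasicoherent := isQuasicoherent_tensorMod _ _
  have hGt : (tensorMod F (tensorPow L n)).IsFiniteType := isFiniteType_tensorMod _ _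
  exact exists_finite_epi_free_of_genOn _ (hn₀ n hn)

end Groth.Agent.Lib.Ample
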