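import Groth.Agent.Lib.Proj.TwistCore
import Groth.Agent.Lib.QCoh.TensorPic

/-!
# AMPLE project (lead), part (A): API for `CohB1.genLocus`

ns `Groth.Agent.Lib.Ample`.
* `isIso_restrict_iff_bijective φ U` : `φ|_U` iso ↔ `φ.app V` bijective for all opens `V ≤ U`
* `isIso_restrict_sSup` : isomorphisms are local
* `mem_genLocus_iff`, `isIso_restrict_genLocus` (instance), `le_genLocus_iff`, `le_genLocus_iff'`
* `secOf s : Γ(L, ⊤)` (the global section `s(1)`), `app_oneSec`, `app_apply : s.app V r = r • (secOf s)|_V`
* `fnOf s : Γ(X, ⊤)` for `s : O_X ⟶ O_X`, `bijective_app_unit_iff`, **`genLocus_unit : genLocus O s = X.basicOpen (fnOf s)`**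
* `genLocus_comp_iso` (iso invariance), `restrictSec s W`, **`genLocus_restrictSec`** (restriction to opens)
* `resSec`, `resFn`, `IsGenerator L U e` (`e` free generator of `L` over `U`, sectionwise), `resSec_smul`,
  **`genLocus_inf_eq_basicOpen`** : `e` generator on `U`, `s|_U = f • e` ⇒ `genLocus L s ⊓ U = X.basicOpen f`
-/

universe u
open CategoryTheory CategoryTheory.Limits AlgebraicGeometry TopologicalSpace Opposite

namespace Groth.Agent.Lib.Ample

open Scheme.Modules

variable {X : Scheme.{u}}




/-- restriction to `U` of `φ` is an isomorphism iff `φ` is bijective on sections over all opens `≤ U` -/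
theorem isIso_restrict_iff_bijective {M N : X.Modules} (φ : M ⟶ N) (U : X.Opens) :
    IsIso ((restrictFunctor U.ι).map φ) ↔ ∀ V : X.Opens, V ≤ U → Function.Bijective (φ.app V) := by
  constructor
  · intro h V hV
    have hV' : U.ι ''ᵁ (U.ι ⁻¹ᵁ V) = V := by
      rw [Scheme.Hom.image_preimage_eq_opensRange_inf, Scheme.Opens.opensRange_ι]
      exact inf_eq_right.mpr hV
    have h1 : IsIso (((restrictFunctor U.ι).map φ).app (U.ι ⁻¹ᵁ V)) := by
      have := (Scheme.Modules.toPresheaf _ ⋙ (evaluation _ _).obj (op (U.ι ⁻¹ᵁ V))).map_isIso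
        ((restrictFunctor U.ι).map φ)
      exact this
    have h2 : Function.Bijective (((restrictFunctor U.ι).map φ).app (U.ι ⁻¹ᵁ V)) :=
      (ConcreteCategory.isIso_iff_bijective _).1 h1
    have h3 : Function.Bijective (φ.app (U.ι ''ᵁ (U.ι ⁻¹ᵁ V))) := h2
    rw [hV'] at h3
    exact h3
  · intro h
    exact Proj.isIso_restrict_of_bijective φ U h





/-- isomorphisms are local: if `φ` restricts to an isomorphism on each member of a family of opens,
it restricts to an isomorphism on their supremum -/
theorem isIso_restrict_sSup {M N : X.Modules} (φ : M ⟶ N) (S : Set X.Opens)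
    (h : ∀ U ∈ S, IsIso ((restrictFunctor U.ι).map φ)) :
    IsIso ((restrictFunctor (sSup S).ι).map φ) := by
  refine QCoh.isIso_of_bijective_app_of_isBasis _
    (fun V : {V : ((sSup S : X.Opens) : Scheme.{u}).Opens // ∃ U ∈ S, (sSup S).ι ''ᵁ V ≤ U} => V.1) ?_ ?_
  · rw [Opens.isBasis_iff_nbhd]
    intro V x hx
    have hx' : (sSup S).ι.base x ∈ sSup S := x.2
    obtain ⟨U, hU, hxU⟩ := Opens.mem_sSup.mp hx'
    refine ⟨V ⊓ (sSup S).ι ⁻¹ᵁ U, ⟨⟨_, U, hU, ?_⟩, rfl⟩, ⟨hx, hxU⟩, inf_le_left⟩
    rintro _ ⟨y, hy, rfl⟩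
    exact hy.2
  · rintro ⟨V, U, hU, hVU⟩
    exact (isIso_restrict_iff_bijective φ U).1 (h U hU) _ hVU

theorem mem_genLocus_iff (L : X.Modules) (s : Coh.structureModule X ⟶ L) (x : X) :
    x ∈ CohB1.genLocus L s ↔ ∃ U : X.Opens, x ∈ U ∧ IsIso ((restrictFunctor U.ι).map s) := by
  unfold CohB1.genLocus
  rw [Opens.mem_sSup]
  constructor
  · rintro ⟨U, hU, hx⟩
    exact ⟨U, hx, hU⟩
  · rintro ⟨U, hx, hU⟩
    exact ⟨U, hU, hx⟩

/-- `s` is an isomorphism over its generating locus -/
instance isIso_restrict_genLocus (L : X.Modules) (s : Coh.structureModule X ⟶ L) :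
    IsIso ((restrictFunctor (CohB1.genLocus L s).ι).map s) :=
  isIso_restrict_sSup s _ (fun _ hU => hU)

theorem le_genLocus_iff (L : X.Modules) (s : Coh.structureModule X ⟶ L) (U : X.Opens) :
    U ≤ CohB1.genLocus L s ↔ IsIso ((restrictFunctor U.ι).map s) := by
  constructor
  · intro hU
    rw [isIso_restrict_iff_bijective]
    intro V hV
    exact (isIso_restrict_iff_bijective s _).1 (isIso_restrict_genLocus L s) V (hV.trans hU)
  · intro h
    exact le_sSup h






/-- the unit section `1 ∈ Γ(O_X, V)` of the structure module -/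
noncomputable abbrev oneSec (V : X.Opens) : Γ(Coh.structureModule X, V) := (1 : Γ(X, V))

/-- the global section of `L` corresponding to `s : O_X ⟶ L` -/
noncomputable def secOf {L : X.Modules} (s : Coh.structureModule X ⟶ L) : Γ(L, ⊤) :=
  (s.app ⊤).hom (oneSec ⊤)

lemma app_oneSec {L : X.Modules} (s : Coh.structureModule X ⟶ L) (V : X.Opens) :
    (s.app V).hom (oneSec V) = (L.presheaf.map (homOfLE (le_top : V ≤ ⊤)).op).hom (secOf s) := by
  have h := s.mapPresheaf.naturality (homOfLE (le_top : V ≤ ⊤)).op
  have h2 := congrArg (fun k => k.hom (oneSec (X := X) ⊤)) h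
  simp only [mapPresheaf_app] at h2
  refine Eq.trans ?_ h2
  change (s.app V).hom (oneSec V) = (s.app V).hom _
  congr 1
  exact (map_one (X.presheaf.map (homOfLE (le_top : V ≤ ⊤)).op).hom).symm

lemma app_apply {L : X.Modules} (s : Coh.structureModule X ⟶ L) (V : X.Opens)
    (r : Γ(X, V)) :
    (s.app V).hom (show Γ(Coh.structureModule X, V) from r) =
      r • (L.presheaf.map (homOfLE (le_top : V ≤ ⊤)).op).hom (secOf s) := by
  rw [← app_oneSec]
  have := Hom.app_smul s r (oneSec V)
  refine Eq.trans ?_ this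
  congr 1
  exact (mul_one r).symm





/-- the global function corresponding to an endomorphism of `O_X` -/
noncomputable def fnOf (s : Coh.structureModule X ⟶ Coh.structureModule X) : Γ(X, ⊤) := secOf s

lemma app_apply_unit (s : Coh.structureModule X ⟶ Coh.structureModule X) (V : X.Opens) (r : Γ(X, V)) :
    (s.app V).hom (show Γ(Coh.structureModule X, V) from r) =
      (show Γ(Coh.structureModule X, V) from
        r * (X.presheaf.map (homOfLE (le_top : V ≤ ⊤)).op).hom (fnOf s)) :=
  app_apply s V r

lemma bijective_app_unit_iff (s : Coh.structureModule X ⟶ Coh.structureModule X) (V : X.Opens) :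
    Function.Bijective (s.app V) ↔
      IsUnit ((X.presheaf.map (homOfLE (le_top : V ≤ ⊤)).op).hom (fnOf s)) := by
  set g : Γ(X, V) := (X.presheaf.map (homOfLE (le_top : V ≤ ⊤)).op).hom (fnOf s) with hg
  have key : ((s.app V).hom : Γ(Coh.structureModule X, V) → Γ(Coh.structureModule X, V)) =
      (fun r : Γ(X, V) => r * g) := by
    funext r
    exact app_apply_unit s V r
  rw [IsUnit.isUnit_iff_mulRight_bijective]
  change Function.Bijective ((s.app V).hom : Γ(Coh.structureModule X, V) → Γ(Coh.structureModule X, V)) ↔ _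
  rw [key]
  exact Iff.rfl

/-- for `L = O_X`: the generating locus of `s` is the basic open of the corresponding function -/
theorem genLocus_unit (s : Coh.structureModule X ⟶ Coh.structureModule X) :
    CohB1.genLocus (Coh.structureModule X) s = X.basicOpen (fnOf s) := by
  apply le_antisymm
  · -- `s` iso over `U := genLocus` ⇒ `f|_U` unit ⇒ `U ≤ X_f`
    set U := CohB1.genLocus (Coh.structureModule X) s
    have h1 := (isIso_restrict_iff_bijective s U).1 (isIso_restrict_genLocus _ s) U le_rfl
    have h2 := (bijective_app_unit_iff s U).1 h1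
    have h3 := X.basicOpen_of_isUnit h2
    rw [X.basicOpen_res] at h3
    exact inf_eq_left.mp h3
  · rw [le_genLocus_iff, isIso_restrict_iff_bijective]
    intro V hV
    rw [bijective_app_unit_iff]
    have := RingedSpace.isUnit_res_basicOpen X.toRingedSpace (fnOf s)
    have h2 := this.map (X.presheaf.map (homOfLE hV).op).hom
    have e : X.presheaf.map (homOfLE (le_top : V ≤ ⊤)).op =
        X.presheaf.map (homOfLE (le_top : X.basicOpen (fnOf s) ≤ ⊤)).op ≫
          X.presheaf.map (homOfLE hV).op := by
      rw [← Functor.map_comp]; rfl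
    rw [e, CommRingCat.comp_apply]
    exact h2





theorem le_genLocus_iff' (L : X.Modules) (s : Coh.structureModule X ⟶ L) (U : X.Opens) :
    U ≤ CohB1.genLocus L s ↔ ∀ V : X.Opens, V ≤ U → Function.Bijective (s.app V) := by
  rw [le_genLocus_iff, isIso_restrict_iff_bijective]

/-- the generating locus only depends on the isomorphism class of `(L, s)` -/
theorem genLocus_comp_iso {L L' : X.Modules} (s : Coh.structureModule X ⟶ L) (e : L ≅ L') :
    CohB1.genLocus L' (s ≫ e.hom) = CohB1.genLocus L s := by
  have key : ∀ V : X.Opens, Function.Bijective ((s ≫ e.hom).app V) ↔ Function.Bijective (s.app V) := by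
    intro V
    have h1 : IsIso (e.hom.app V) :=
      (Scheme.Modules.toPresheaf _ ⋙ (evaluation _ _).obj (op V)).map_isIso e.hom
    have h2 : Function.Bijective (e.hom.app V) := (ConcreteCategory.isIso_iff_bijective _).1 h1
    change Function.Bijective ((e.hom.app V).hom ∘ (s.app V).hom) ↔ _
    exact Function.Bijective.of_comp_iff' h2 _
  apply le_antisymm
  · rw [le_genLocus_iff']
    intro V hV
    exact (key V).1 ((le_genLocus_iff' L' (s ≫ e.hom) _).1 le_rfl V hV)
  · rw [le_genLocus_iff']
    intro V hV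
    exact (key V).2 ((le_genLocus_iff' L s _).1 le_rfl V hV)

/-- the restriction of a section `s : O_X ⟶ L` to an open `W` -/
noncomputable def restrictSec {L : X.Modules} (s : Coh.structureModule X ⟶ L) (W : X.Opens) :
    Coh.structureModule (↑W) ⟶ L.restrict W.ι :=
  (restrictUnitIso W.ι).inv ≫ (restrictFunctor W.ι).map s

/-- the generating locus commutes with restriction to opens -/
theorem genLocus_restrictSec {L : X.Modules} (s : Coh.structureModule X ⟶ L) (W : X.Opens) :
    CohB1.genLocus (L.restrict W.ι) (restrictSec s W) = W.ι ⁻¹ᵁ (CohB1.genLocus L s) := by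
  have key : ∀ V : (W : Scheme.{u}).Opens,
      Function.Bijective ((restrictSec s W).app V) ↔ Function.Bijective (s.app (W.ι ''ᵁ V)) := by
    intro V
    have h0 : IsIso (restrictUnitIso W.ι).inv := Iso.isIso_inv _
    have h1 : IsIso ((restrictUnitIso W.ι).inv.app V) :=
      (Scheme.Modules.toPresheaf _ ⋙ (evaluation _ _).obj (op V)).map_isIso (restrictUnitIso W.ι).inv
    have h2 : Function.Bijective ((restrictUnitIso W.ι).inv.app V) :=
      (ConcreteCategory.isIso_iff_bijective _).1 h1
    change Function.Bijective ((s.app (W.ι ''ᵁ V)).hom ∘ ((restrictUnitIso W.ι).inv.app V).hom) ↔ _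
    exact Function.Bijective.of_comp_iff _ h2
  apply le_antisymm
  · intro x hx
    change W.ι.base x ∈ CohB1.genLocus L s
    have hle : W.ι ''ᵁ (CohB1.genLocus (L.restrict W.ι) (restrictSec s W)) ≤ CohB1.genLocus L s := by
      rw [le_genLocus_iff']
      intro V hV
      have hV' : W.ι ''ᵁ (W.ι ⁻¹ᵁ V) = V := by
        rw [Scheme.Hom.image_preimage_eq_opensRange_inf, Scheme.Opens.opensRange_ι]
        exact inf_eq_right.mpr (hV.trans (by rintro _ ⟨y, -, rfl⟩; exact y.2))
      rw [← hV']
      refine (key _).1 ((le_genLocus_iff' _ (restrictSec s W) _).1 le_rfl _ ?_)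
      intro y hy
      obtain ⟨z, hz, hzy⟩ := hV hy
      have : z = y := W.ι.isOpenEmbedding.injective hzy
      exact this ▸ hz
    exact hle ⟨x, hx, rfl⟩
  · rw [le_genLocus_iff']
    intro V hV
    rw [key]
    refine (le_genLocus_iff' L s _).1 le_rfl _ ?_
    rintro _ ⟨y, hy, rfl⟩
    exact hV hy




/-- restriction of sections of a module -/
noncomputable abbrev resSec (M : X.Modules) {U V : X.Opens} (h : V ≤ U) (t : Γ(M, U)) : Γ(M, V) :=
  (M.presheaf.map (homOfLE h).op).hom t

/-- restriction of functions -/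
noncomputable abbrev resFn {U V : X.Opens} (h : V ≤ U) (f : Γ(X, U)) : Γ(X, V) :=
  (X.presheaf.map (homOfLE h).op).hom f

/-- `e ∈ Γ(L, U)` is a free generator of `L` over `U`: for all opens `V ≤ U`, `r ↦ r • e|_V` is a
bijection `Γ(X, V) → Γ(L, V)` -/
def IsGenerator (L : X.Modules) (U : X.Opens) (e : Γ(L, U)) : Prop :=
  ∀ (V : X.Opens) (h : V ≤ U), Function.Bijective (fun r : Γ(X, V) => r • resSec L h e)

lemma resSec_resSec (M : X.Modules) {U V W : X.Opens} (h : V ≤ U) (h' : W ≤ V) (t : Γ(M, U)) :
    resSec M h' (resSec M h t) = resSec M (h'.trans h) t := by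
  unfold resSec
  rw [← AddCommGrpCat.comp_apply, ← Functor.map_comp]
  rfl

lemma resSec_smul (M : X.Modules) {U V : X.Opens} (h : V ≤ U) (r : Γ(X, U)) (t : Γ(M, U)) :
    resSec M h (r • t) = resFn h r • resSec M h t :=
  M.map_smul (homOfLE h) r t

/-- **local description of the generating locus**: if `e` generates `L` over `U` and `s = f • e` on `U`,
then `genLocus L s ⊓ U` is the basic open of `f`. -/
theorem genLocus_inf_eq_basicOpen {L : X.Modules} (s : Coh.structureModule X ⟶ L) (U : X.Opens)
    (e : Γ(L, U)) (he : IsGenerator L U e) (f : Γ(X, U))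
    (hs : resSec L (le_top : U ≤ ⊤) (secOf s) = f • e) :
    CohB1.genLocus L s ⊓ U = X.basicOpen f := by
  -- on `V ≤ U`: `s.app V r = (r * f|_V) • e|_V`
  have key : ∀ (V : X.Opens) (h : V ≤ U),
      Function.Bijective (s.app V) ↔ IsUnit (resFn h f) := by
    intro V h
    have h0 : (L.presheaf.map (homOfLE (le_top : V ≤ ⊤)).op).hom (secOf s) =
        resFn h f • resSec L h e := by
      have e1 := resSec_resSec L (le_top : U ≤ ⊤) h (secOf s)
      rw [hs, resSec_smul] at e1
      exact e1.symm
    have h1 : ((s.app V).hom : Γ(Coh.structureModule X, V) → Γ(L, V)) =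
        (fun r : Γ(X, V) => (r * resFn h f) • resSec L h e) := by
      funext r
      have hr : ∀ r' : Γ(X, V), r' • (L.presheaf.map (homOfLE (le_top : V ≤ ⊤)).op).hom (secOf s) =
          (r' * resFn h f) • resSec L h e := by
        intro r'
        rw [h0, mul_smul]
      exact (app_apply s V r).trans (hr r)
    have h2 : Function.Bijective (fun r : Γ(X, V) => (r * resFn h f) • resSec L h e) ↔
        IsUnit (resFn h f) := by
      rw [IsUnit.isUnit_iff_mulRight_bijective]
      exact Function.Bijective.of_comp_iff' (he V h) (fun r : Γ(X, V) => r * resFn h f)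
    change Function.Bijective ((s.app V).hom : Γ(Coh.structureModule X, V) → Γ(L, V)) ↔ _
    rw [h1]
    exact h2
  apply le_antisymm
  · set W := CohB1.genLocus L s ⊓ U with hW
    have hWU : W ≤ U := inf_le_right
    have h1 : Function.Bijective (s.app W) :=
      (le_genLocus_iff' L s _).1 (le_refl _) W inf_le_left
    have h2 := (key W hWU).1 h1
    have h3 := X.basicOpen_of_isUnit h2
    rw [X.basicOpen_res] at h3
    exact inf_eq_left.mp h3
  · refine le_inf ?_ (X.basicOpen_le f)
    rw [le_genLocus_iff']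
    intro V hV
    rw [key V (hV.trans (X.basicOpen_le f))]
    have := RingedSpace.isUnit_res_basicOpen X.toRingedSpace f
    have h2 := this.map (X.presheaf.map (homOfLE hV).op).hom
    have e2 : X.presheaf.map (homOfLE (hV.trans (X.basicOpen_le f))).op =
        X.presheaf.map (homOfLE (X.basicOpen_le f)).op ≫ X.presheaf.map (homOfLE hV).op := by
      rw [← Functor.map_comp]; rfl
    unfold resFn
    rw [e2, CommRingCat.comp_apply]
    exact h2



end Groth.Agent.Lib.Ample
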