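import Groth.Agent.Lib.Ample.Helper50_SigmaIso
import Groth.Agent.Lib.QCoh.Helper50_GlobGen
import Groth.Agent.Lib.Ample.Basic

/-!
# AMPLE (A') (helper50): products of sections of invertible modules

Namespace `Groth.Agent.Lib.Ample`.

* `tensorModMap_app_tmulSect` : `(φ ⊗ ψ)(x ⊗ l) = φ x ⊗ ψ l` on sections.
* `mulSec s s' : O_X ⟶ tensorMod L L'`, `secOn_mulSec`.
* `IsGenerator.tmul` : `e ⊗ e'` generates `L ⊗ L'`.
* `genLocus_mulSec` : `genLocus (s ⊗ s') = genLocus s ⊓ genLocus s'` (for invertible `L`, `L'`).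
* `secPow s n : O_X ⟶ tensorPow L n`, `genLocus_secPow`.
* `secOn_homOfSec`, `hom_ext_secOf` (for lead's `homOfSec`, `Basic.lean`).
-/

universe u

open CategoryTheory MonoidalCategory Opposite TensorProduct AlgebraicGeometry TopologicalSpace

namespace Groth.Agent.Lib.Ample

open Groth.Agent.Lib.QCoh CohB1 Scheme.Modules

variable {X : Scheme.{u}}

section Functoriality

variable {M M' N N' : X.Modules} (φ : M ⟶ M') (ψ : N ⟶ N')

lemma incl_map_tensorModMap :
    tensorUnit M N ≫ (incl X).map (tensorModMap φ ψ) =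
      ((incl X).map φ ⊗ₘ (incl X).map ψ) ≫ tensorUnit M' N' :=
  ((shfAdj X).unit.naturality ((incl X).map φ ⊗ₘ (incl X).map ψ)).symm

/-- `(φ ⊗ ψ)(x ⊗ l) = φ x ⊗ ψ l` on sections. -/
lemma tensorModMap_app_tmulSect {V : X.Opens} (x : Γ(M, V)) (l : Γ(N, V)) :
    (tensorModMap φ ψ).app V (tmulSect M N x l) = tmulSect M' N' (φ.app V x) (ψ.app V l) := by
  have h := incl_map_tensorModMap φ ψ
  have h2 := congrArg (fun k => k.app (op V)) h
  have h3 := congr($h2 ((show (((incl X).obj M).obj (op V) : Type u) from x) ⊗ₜ[Γ(X, V)]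
      (show (((incl X).obj N).obj (op V) : Type u) from l)))
  exact h3

end Functoriality

section MulSec

variable {L L' : X.Modules} (s : Coh.structureModule X ⟶ L) (s' : Coh.structureModule X ⟶ L')

/-- the product `s ⊗ s'` of two global sections, as a global section of `L ⊗ L'`. -/
noncomputable def mulSec : Coh.structureModule X ⟶ tensorMod L L' := s ≫ twistHom L s'

lemma secOn_comp {F : X.Modules} (τ : L ⟶ F) (V : X.Opens) :
    secOn (s ≫ τ) V = τ.app V (secOn s V) := by
  rw [secOn_eq, secOn_eq]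
  rfl

lemma secOn_mulSec (V : X.Opens) :
    secOn (mulSec s s') V = tmulSect L L' (secOn s V) (secOn s' V) := by
  unfold mulSec
  rw [secOn_comp, twistHom_app]

/-- the tensor product of two local generators is a local generator of the tensor product -/
theorem IsGenerator.tmul {U : X.Opens} {e : Γ(L, U)} {e' : Γ(L', U)} (he : IsGenerator L U e)
    (he' : IsGenerator L' U e') : IsGenerator (tensorMod L L') U (tmulSect L L' e e') := by
  rw [isGenerator_iff]
  intro V hV
  have h1 := he.bijective hV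
  have h2 := bijective_tmulSect_of_isGenerator (F := L) he' hV
  have h3 : (fun a : Γ(X, V) => a • (tensorMod L L').presheaf.map (homOfLE hV).op
      (tmulSect L L' e e')) =
      (fun x : Γ(L, V) => tmulSect L L' x (L'.presheaf.map (homOfLE hV).op e')) ∘
        (fun a : Γ(X, V) => a • L.presheaf.map (homOfLE hV).op e) := by
    funext a
    simp only [Function.comp]
    rw [tmulSect_res, tmulSect_smul_left]
  rw [h3]
  exact h2.comp h1

/-- **(A')** the generating locus of a product of sections of invertible modules -/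
theorem genLocus_mulSec (hL : PicF.IsInvertible L) (hL' : PicF.IsInvertible L') :
    genLocus (tensorMod L L') (mulSec s s') = genLocus L s ⊓ genLocus L' s' := by
  ext x
  obtain ⟨U₁, hx₁, e₁, he₁⟩ := exists_isGenerator_of_isInvertible hL x
  obtain ⟨U₂, hx₂, e₂, he₂⟩ := exists_isGenerator_of_isInvertible hL' x
  obtain ⟨U, hU⟩ : ∃ U : X.Opens, U = U₁ ⊓ U₂ := ⟨_, rfl⟩
  have hU₁ : U ≤ U₁ := hU ▸ inf_le_left
  have hU₂ : U ≤ U₂ := hU ▸ inf_le_right
  have hxU : x ∈ U := hU ▸ ⟨hx₁, hx₂⟩
  have he := he₁.res hU₁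
  have he' := he₂.res hU₂
  have hid : ∀ (M : X.Modules) (y : Γ(M, U)), M.presheaf.map (homOfLE (le_refl U)).op y = y := by
    intro M y
    have h2 : (homOfLE (le_refl U)) = 𝟙 U := rfl
    rw [h2, op_id, M.presheaf.map_id]
    rfl
  obtain ⟨f, hf⟩ := (he.bijective (le_refl U)).2 (secOn s U)
  obtain ⟨f', hf'⟩ := (he'.bijective (le_refl U)).2 (secOn s' U)
  simp only [hid] at hf hf'
  have h1 := genLocus_inf_eq_basicOpen s U _ he f hf.symm
  have h2 := genLocus_inf_eq_basicOpen s' U _ he' f' hf'.symm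
  have h3 := genLocus_inf_eq_basicOpen (mulSec s s') U _ (he.tmul he') (f * f') (by
    change secOn (mulSec s s') U = _
    rw [secOn_mulSec, ← hf, ← hf', tmulSect_smul_left, tmulSect_smul_right, ← mul_smul,
      mul_comm])
  have h4 : X.basicOpen (f * f') = X.basicOpen f ⊓ X.basicOpen f' := X.basicOpen_mul f f'
  constructor
  · intro hx
    have hx' : x ∈ genLocus (tensorMod L L') (mulSec s s') ⊓ U := ⟨hx, hxU⟩
    rw [h3, h4, ← h1, ← h2] at hx'
    exact ⟨hx'.1.1, hx'.2.1⟩
  · intro hx
    have hx' : x ∈ (genLocus L s ⊓ U) ⊓ (genLocus L' s' ⊓ U) := ⟨⟨hx.1, hxU⟩, ⟨hx.2, hxU⟩⟩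
    rw [h1, h2, ← h4, ← h3] at hx'
    exact hx'.1

end MulSec

section SecPow

variable {L : X.Modules} (s : Coh.structureModule X ⟶ L)

/-- the `n`-th power `s^n` as a global section of `tensorPow L n`. -/
noncomputable def secPow : (n : ℕ) → (Coh.structureModule X ⟶ tensorPow L n)
  | 0 => 𝟙 _
  | n + 1 => mulSec (secPow n) s

@[simp] lemma secPow_zero : secPow s 0 = 𝟙 _ := rfl

lemma secPow_succ (n : ℕ) : secPow s (n + 1) = mulSec (secPow s n) s := rfl

lemma genLocus_id : genLocus (Coh.structureModule X) (𝟙 _) = ⊤ := by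
  rw [eq_top_iff, le_genLocus_iff']
  intro V _
  exact Function.bijective_id

/-- the generating locus of a positive power of `s` is the generating locus of `s`. -/
theorem genLocus_secPow (hL : PicF.IsInvertible L) (n : ℕ) :
    genLocus (tensorPow L (n + 1)) (secPow s (n + 1)) = genLocus L s := by
  induction n with
  | zero =>
    rw [secPow_succ]
    have h := genLocus_mulSec (secPow s 0) s (isInvertible_tensorPow hL 0) hL
    have h0 : genLocus (tensorPow L 0) (secPow s 0) = ⊤ := genLocus_id
    rw [h0, top_inf_eq] at h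
    exact h
  | succ n ih =>
    rw [secPow_succ]
    have h := genLocus_mulSec (secPow s (n + 1)) s (isInvertible_tensorPow hL (n + 1)) hL
    rw [ih, inf_idem] at h
    exact h

end SecPow

section HomOfSec

lemma secOn_homOfSec (F : X.Modules) (t : Γ(F, ⊤)) (V : X.Opens) :
    secOn (homOfSec F t) V = F.presheaf.map (homOfLE (le_top : V ≤ ⊤)).op t := by
  unfold secOn
  rw [secOf_homOfSec]

/-- two morphisms from the structure sheaf with the same global section agree -/
lemma hom_ext_secOf {F : X.Modules} {φ ψ : Coh.structureModule X ⟶ F} (h : secOf φ = secOf ψ) :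
    φ = ψ := by
  rw [← homOfSec_secOf φ, ← homOfSec_secOf ψ, h]

end HomOfSec

end Groth.Agent.Lib.Ample
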