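import Groth.Agent.Lib.Ample.Pullback
import Groth.Agent.Lib.Ample.Helper50_MulSec
import Groth.Agent.Lib.QCoh.Helper18_StalkLinear
import Groth.Agent.Lib.QCoh.Helper18_StalkLoc
import Groth.Prelude.Def_Curv2
import Mathlib.Topology.Sheaves.Skyscraper

/-!
# Globally generated invertible modules are base point free (lead)

ns `Groth.Agent.Lib.Ample`.
* `preservesColimitsOfSize_stalkFunctor` : the stalk functor on `O_X`-modules preserves (small) colimits
* `span_germ_eq_top_of_epi_free` : if `p : free ι ⟶ L` is epi, the germs at `x` of the global sections `p(e_i)` span `L_x`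
* `exists_mem_genLocus_of_isGloballyGenerated` : `L` invertible and globally generated ⇒ every point lies in some `X_t`
-/

universe u
open CategoryTheory CategoryTheory.Limits AlgebraicGeometry TopologicalSpace Opposite

namespace Groth.Agent.Lib.Ample

open Scheme.Modules Groth.Agent.Lib.QCoh

variable {X : Scheme.{u}}

instance preservesColimitsOfSize_stalkFunctor (x : X) :
    PreservesColimitsOfSize.{u, u} (stalkFunctor X x) := by
  classical
  have h1 : PreservesColimitsOfSize.{u, u} (SheafOfModules.toSheaf.{u} X.ringCatSheaf) :=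
    inferInstance
  have h2 : PreservesColimitsOfSize.{u, u} (TopCat.Sheaf.forget Ab.{u} X.toTopCat ⋙
      TopCat.Presheaf.stalkFunctor Ab.{u} x) :=
    (stalkSkyscraperSheafAdjunction (C := Ab.{u}) x).leftAdjoint_preservesColimits
  exact @comp_preservesColimits _ _ _ _ _ _ (SheafOfModules.toSheaf.{u} X.ringCatSheaf)
    (TopCat.Sheaf.forget Ab.{u} X.toTopCat ⋙ TopCat.Presheaf.stalkFunctor Ab.{u} x) h1 h2

/-- the germ at `x` of the unit section of `O_X` (as a module over itself) -/
noncomputable abbrev germOne (x : X) : (Coh.structureModule X).presheaf.stalk x :=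
  (Coh.structureModule X).presheaf.germ ⊤ x trivial (oneSec ⊤)

/-- every element of the stalk of `O_X` (as a module) is a multiple of the germ of `1` -/
lemma exists_smul_germOne (x : X) (m : (Coh.structureModule X).presheaf.stalk x) :
    ∃ r : X.presheaf.stalk x, m = r • germOne x := by
  obtain ⟨W, hxW, a, rfl⟩ := TopCat.Presheaf.exists_germ_eq (Coh.structureModule X).presheaf m
  obtain ⟨a', rfl⟩ : ∃ a' : Γ(X, W), (show Γ(Coh.structureModule X, W) from a') = a := ⟨a, rfl⟩
  refine ⟨X.presheaf.germ W x hxW a', ?_⟩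
  have h1 : (show Γ(Coh.structureModule X, W) from a') = a' • oneSec W := (mul_one a').symm
  have h2 : (Coh.structureModule X).presheaf.germ W x hxW (oneSec W) = germOne x := by
    have := TopCat.Presheaf.germ_res_apply (Coh.structureModule X).presheaf
      (homOfLE (le_top : W ≤ ⊤)) x hxW (oneSec ⊤)
    refine Eq.trans ?_ this
    congr 1
    exact (map_one (X.presheaf.map (homOfLE (le_top : W ≤ ⊤)).op).hom).symm
  have h3 := germ_smul (Coh.structureModule X) x W hxW a' (oneSec W)
  rw [h2] at h3
  exact (congrArg (fun t => (Coh.structureModule X).presheaf.germ W x hxW t) h1).trans h3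

/-- **if `p : free ι ⟶ L` is an epimorphism, the germs of the global sections `p(e_i)` span every
stalk of `L`** -/
theorem span_germ_eq_top_of_epi_free {L : X.Modules} {ι : Type u} (p : freeModule X ι ⟶ L)
    [Epi p] (x : X) :
    Submodule.span (X.presheaf.stalk x) (Set.range fun i : ι =>
      stalkMap (SheafOfModules.ιFree i ≫ p) x (germOne x)) = ⊤ := by
  set N := Submodule.span (X.presheaf.stalk x) (Set.range fun i : ι =>
      stalkMap (SheafOfModules.ιFree i ≫ p) x (germOne x)) with hN
  let π : (stalkFunctor X x).obj L ⟶ AddCommGrpCat.of (↑(L.presheaf.stalk x) ⧸ N) :=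
    AddCommGrpCat.ofHom N.mkQ.toAddMonoidHom
  have hpc : PreservesColimitsOfShape (Discrete ι) (stalkFunctor X x) :=
    (preservesColimitsOfSize_stalkFunctor x).preservesColimitsOfShape
  obtain ⟨hc⟩ := (hpc.preservesColimit
    (K := Discrete.functor fun _ : ι => SheafOfModules.unit X.ringCatSheaf)).preserves
    (SheafOfModules.isColimitFreeCofan (R := X.ringCatSheaf) ι)
  have h1 : (stalkFunctor X x).map p ≫ π = 0 := by
    refine hc.hom_ext fun j => ?_
    obtain ⟨i⟩ := j
    refine Eq.trans ?_ comp_zero.symm
    ext m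
    obtain ⟨r, rfl⟩ := exists_smul_germOne x m
    change N.mkQ (stalkMap p x (stalkMap (SheafOfModules.ιFree i) x (r • germOne x))) = 0
    have h2 : stalkMap p x (stalkMap (SheafOfModules.ιFree i) x (r • germOne x)) =
        r • stalkMap (SheafOfModules.ιFree i ≫ p) x (germOne x) := by
      have e1 := stalkMap_smul (SheafOfModules.ιFree (R := X.ringCatSheaf) i) x r (germOne x)
      have e2 := stalkMap_smul p x r (stalkMap (SheafOfModules.ιFree i) x (germOne x))
      refine (congrArg (fun t => stalkMap p x t) e1).trans (e2.trans ?_)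
      congr 1
      have e3 : (stalkFunctor X x).map (SheafOfModules.ιFree i ≫ p) =
          (stalkFunctor X x).map (SheafOfModules.ιFree i) ≫ (stalkFunctor X x).map p :=
        (stalkFunctor X x).map_comp _ _
      exact ((ConcreteCategory.congr_hom e3 (germOne x)).trans
        (ConcreteCategory.comp_apply _ _ _)).symm
    rw [h2, Submodule.mkQ_apply, Submodule.Quotient.mk_eq_zero]
    exact N.smul_mem r (Submodule.subset_span ⟨i, rfl⟩)
  have h3 : Epi ((stalkFunctor X x).map p) := (stalkFunctor X x).map_epi p
  have h4 : π = 0 := by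
    rw [← cancel_epi ((stalkFunctor X x).map p), h1, comp_zero]
  rw [eq_top_iff]
  intro y _
  have h5 : N.mkQ y = 0 := by
    have := congrArg (fun f => f.hom y) h4
    exact this
  exact (Submodule.Quotient.mk_eq_zero N).1 h5

lemma stalkMap_germOne {L : X.Modules} (t : Coh.structureModule X ⟶ L) (x : X) :
    stalkMap t x (germOne x) = L.presheaf.germ ⊤ x trivial (secOf t) :=
  stalkMap_germ t x ⊤ trivial (oneSec ⊤)

/-- **a globally generated invertible module is base point free**: every point lies in the
generating locus of some global section -/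
theorem exists_mem_genLocus_of_isGloballyGenerated {L : X.Modules} (hL : PicF.IsInvertible L)
    (hg : Curv2.IsGloballyGenerated L) (x : X) :
    ∃ t : Coh.structureModule X ⟶ L, x ∈ CohB1.genLocus L t := by
  obtain ⟨ι, p, hp⟩ := hg
  let t : ι → (Coh.structureModule X ⟶ L) :=
    fun i => SheafOfModules.ιFree (R := X.ringCatSheaf) i ≫ p
  have hspan : Submodule.span (X.presheaf.stalk x) (Set.range fun i : ι =>
      stalkMap (t i) x (germOne x)) = ⊤ := @span_germ_eq_top_of_epi_free X L ι p hp x
  obtain ⟨U, hxU, e, he⟩ := exists_isGenerator_of_isInvertible hL x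
  obtain ⟨ε, hε⟩ : ∃ ε : L.presheaf.stalk x, ε = L.presheaf.germ U x hxU e := ⟨_, rfl⟩
  -- coefficients of the sections `t i`
  have hc : ∀ i : ι, ∃ c : Γ(X, U), resSec L (le_top : U ≤ ⊤) (secOf (t i)) = c • e :=
    fun i => exists_eq_smul_of_isGenerator he _
  choose c hc using hc
  by_contra hcon
  push Not at hcon
  -- all the `c i` are non-units at `x`
  have hnu : ∀ i, X.presheaf.germ U x hxU (c i) ∈ IsLocalRing.maximalIdeal (X.presheaf.stalk x) := by
    intro i
    rw [IsLocalRing.mem_maximalIdeal, mem_nonunits_iff]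
    intro hu
    have h1 : x ∈ X.basicOpen (c i) := (X.mem_basicOpen (c i) x hxU).2 hu
    have h2 := genLocus_inf_eq_basicOpen (t i) U e he (c i) (hc i)
    rw [← h2] at h1
    exact hcon _ h1.1
  have hg : ∀ i, stalkMap (t i) x (germOne x) = X.presheaf.germ U x hxU (c i) • ε := by
    intro i
    have e1 := stalkMap_germOne (t i) x
    have e2 : L.presheaf.germ ⊤ x trivial (secOf (t i)) =
        L.presheaf.germ U x hxU (resSec L (le_top : U ≤ ⊤) (secOf (t i))) :=
      (TopCat.Presheaf.germ_res_apply L.presheaf (homOfLE (le_top : U ≤ ⊤)) x hxU _).symm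
    have e3 : L.presheaf.germ U x hxU (resSec L (le_top : U ≤ ⊤) (secOf (t i))) =
        L.presheaf.germ U x hxU (c i • e) := congrArg _ (hc i)
    have e4 := germ_smul L x U hxU (c i) e
    rw [hε]
    exact e1.trans (e2.trans (e3.trans e4))
  have key : ∀ y ∈ Submodule.span (X.presheaf.stalk x) (Set.range fun i : ι =>
      stalkMap (t i) x (germOne x)),
      ∃ a ∈ IsLocalRing.maximalIdeal (X.presheaf.stalk x), y = a • ε := by
    intro y hy
    induction hy using Submodule.span_induction with
    | mem y hy =>
      obtain ⟨i, rfl⟩ := hy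
      exact ⟨_, hnu i, hg i⟩
    | zero => exact ⟨0, Ideal.zero_mem _, (zero_smul _ _).symm⟩
    | add y z _ _ hy hz =>
      obtain ⟨a, ha, rfl⟩ := hy
      obtain ⟨b, hb, rfl⟩ := hz
      exact ⟨a + b, Ideal.add_mem _ ha hb, (add_smul _ _ _).symm⟩
    | smul r y _ hy =>
      obtain ⟨a, ha, rfl⟩ := hy
      exact ⟨r * a, Ideal.mul_mem_left _ r ha, (mul_smul _ _ _).symm⟩
  obtain ⟨a, ha, hεa⟩ := key ε (hspan ▸ Submodule.mem_top)
  have hu : IsUnit (1 - a) := IsLocalRing.isUnit_one_sub_self_of_mem_nonunits a ha
  have hε0 : ε = 0 := by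
    have h1 : (1 - a) • ε = 0 := by rw [sub_smul, one_smul, ← hεa, sub_self]
    obtain ⟨v, hv⟩ := hu
    have h2 := congrArg (fun t => (↑v⁻¹ : X.presheaf.stalk x) • t) h1
    simp only [smul_zero] at h2
    rw [← hv, ← mul_smul, Units.inv_mul, one_smul] at h2
    exact h2
  -- so `e` vanishes near `x`, contradicting that it is a free generator
  have h0 : L.presheaf.germ U x hxU e = L.presheaf.germ U x hxU 0 := by
    rw [map_zero, ← hε]; exact hε0
  obtain ⟨W, hxW, iU, iV, hW⟩ := TopCat.Presheaf.germ_eq L.presheaf x hxU hxU _ _ h0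
  have hWU : W ≤ U := iU.le
  have h1 : resSec L hWU e = 0 := by
    have : iU = homOfLE hWU := Subsingleton.elim _ _
    subst this
    exact hW.trans (map_zero _)
  have h2 : (1 : Γ(X, W)) = 0 := by
    apply (he W hWU).1
    change (1 : Γ(X, W)) • resSec L hWU e = (0 : Γ(X, W)) • resSec L hWU e
    rw [h1, smul_zero, smul_zero]
  have h3 := congrArg (X.presheaf.germ W x hxW) h2
  rw [map_one, map_zero] at h3
  exact one_ne_zero h3

end Groth.Agent.Lib.Ample
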