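import Groth.Agent.Lib.Ample.Helper50_Basis

/-!
# AMPLE tools (helper50): graded prime avoidance for an ample invertible module

Namespace `Groth.Agent.Lib.Ample.Avoid`.

* `avoid_aux` : abstract (topological) form of graded prime avoidance.
* `secOf_add`, `exists_fn_add` : local form of a sum of two sections of an invertible module.
* `genLocus_add_le`, `mem_genLocus_add`, `isAffineOpen_genLocus_add`.
* `exists_affine_genLocus_of_finite` : `L` ample, `Z` finite, `Z ⊆ U` open: some section `t` of a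
  positive power of `L` has `Z ⊆ X_t ⊆ U`, `X_t` affine.
-/

universe u

open CategoryTheory MonoidalCategory Opposite TensorProduct AlgebraicGeometry TopologicalSpace

namespace Groth.Agent.Lib.Ample.Avoid

open Groth.Agent.Lib.QCoh CohB1 Scheme.Modules Groth.Agent.Lib.Ample

/-- abstract graded prime avoidance: a class `R` of opens containing `⊥`, closed under binary
intersections and under "sums" (an element of the class containing the symmetric difference),
and containing a neighbourhood of each point of `U`, contains a neighbourhood of each finite subset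
of `U`. -/
theorem avoid_aux {α : Type*} [TopologicalSpace α] (R : Opens α → Prop) (U : Opens α)
    (hbot : R ⊥)
    (hinf : ∀ A, R A → ∀ B, R B → R (A ⊓ B))
    (hsum : ∀ A B, R A → R B →
      ∃ W, R W ∧ (∀ z, z ∈ A → z ∉ B → z ∈ W) ∧ (∀ z, z ∈ B → z ∉ A → z ∈ W))
    (hpt : ∀ z ∈ U, ∃ W, R W ∧ z ∈ W) :
    ∀ (n : ℕ) (Z : Finset α), Z.card ≤ n → (∀ z ∈ Z, z ∈ U) → ∃ W, R W ∧ ∀ z ∈ Z, z ∈ W := by
  classical
  intro n
  induction n with
  | zero =>
    intro Z hZ _
    have : Z = ∅ := Finset.card_eq_zero.1 (Nat.le_zero.1 hZ)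
    subst this
    exact ⟨⊥, hbot, by simp⟩
  | succ n ih =>
    intro Z hZ hZU
    by_cases hne : Z.Nonempty
    swap
    · rw [Finset.not_nonempty_iff_eq_empty] at hne
      subst hne
      exact ⟨⊥, hbot, by simp⟩
    obtain ⟨z₁, hz₁⟩ := hne
    have key : ∀ z ∈ Z, ∃ W, R W ∧ ∀ y ∈ Z.erase z, y ∈ W := by
      intro z hz
      refine ih (Z.erase z) ?_ (fun y hy => hZU y (Finset.mem_of_mem_erase hy))
      rw [Finset.card_erase_of_mem hz]
      omega
    choose! Wf hWf using key
    by_cases h : ∃ z ∈ Z, z ∈ Wf z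
    · obtain ⟨z, hz, hzW⟩ := h
      refine ⟨Wf z, (hWf z hz).1, fun y hy => ?_⟩
      by_cases hyz : y = z
      · rw [hyz]; exact hzW
      · exact (hWf z hz).2 y (Finset.mem_erase.2 ⟨hyz, hy⟩)
    · have h' : ∀ z ∈ Z, z ∉ Wf z := fun z hz hzW => h ⟨z, hz, hzW⟩
      by_cases h1 : (Z.erase z₁).Nonempty
      · have RB : R ((Z.erase z₁).inf' h1 Wf) :=
          Finset.inf'_induction h1 Wf hinf (fun b hb => (hWf b (Finset.mem_of_mem_erase hb)).1)
        have hz₁B : z₁ ∈ (Z.erase z₁).inf' h1 Wf := by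
          refine Finset.inf'_induction (p := fun W => z₁ ∈ W) h1 Wf
            (fun A hA B hB => ⟨hA, hB⟩) ?_
          intro b hb
          exact (hWf b (Finset.mem_of_mem_erase hb)).2 z₁
            (Finset.mem_erase.2 ⟨(Finset.ne_of_mem_erase hb).symm, hz₁⟩)
        have hB : ∀ z ∈ Z.erase z₁, z ∉ (Z.erase z₁).inf' h1 Wf := by
          intro z hz hzB
          exact h' z (Finset.mem_of_mem_erase hz) (Finset.inf'_le Wf hz hzB)
        obtain ⟨W, RW, hW1, hW2⟩ := hsum (Wf z₁) _ (hWf z₁ hz₁).1 RB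
        refine ⟨W, RW, fun y hy => ?_⟩
        by_cases hyz : y = z₁
        · rw [hyz]; exact hW2 z₁ hz₁B (h' z₁ hz₁)
        · have hy' : y ∈ Z.erase z₁ := Finset.mem_erase.2 ⟨hyz, hy⟩
          exact hW1 y ((hWf z₁ hz₁).2 y hy') (hB y hy')
      · rw [Finset.not_nonempty_iff_eq_empty] at h1
        obtain ⟨W, RW, hzW⟩ := hpt z₁ (hZU z₁ hz₁)
        refine ⟨W, RW, fun y hy => ?_⟩
        by_cases hyz : y = z₁
        · rw [hyz]; exact hzW
        · exact absurd (Finset.mem_erase.2 ⟨hyz, hy⟩) (by rw [h1]; simp)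

variable {X : Scheme.{u}}

lemma secOf_add {M : X.Modules} (p q : Coh.structureModule X ⟶ M) :
    secOf (p + q) = secOf p + secOf q := rfl

lemma secOn_add {M : X.Modules} (p q : Coh.structureModule X ⟶ M) (V : X.Opens) :
    secOn (p + q) V = secOn p V + secOn q V := by
  unfold secOn
  rw [secOf_add, map_add]

/-- local form of two sections (and of their sum) of a module with a free generator `e` over `V` -/
lemma exists_fn_add {M : X.Modules} {V : X.Opens} {e : Γ(M, V)} (he : IsGenerator M V e)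
    (p q : Coh.structureModule X ⟶ M) :
    ∃ f g : Γ(X, V), secOn p V = f • e ∧ secOn q V = g • e ∧
      genLocus M p ⊓ V = X.basicOpen f ∧ genLocus M q ⊓ V = X.basicOpen g ∧
      genLocus M (p + q) ⊓ V = X.basicOpen (f + g) := by
  obtain ⟨f, hf⟩ := exists_eq_smul_of_isGenerator he (secOn p V)
  obtain ⟨g, hg⟩ := exists_eq_smul_of_isGenerator he (secOn q V)
  refine ⟨f, g, hf, hg, genLocus_inf_eq_basicOpen p V e he f hf,
    genLocus_inf_eq_basicOpen q V e he g hg, genLocus_inf_eq_basicOpen (p + q) V e he (f + g) ?_⟩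
  change secOn (p + q) V = (f + g) • e
  rw [secOn_add, hf, hg, add_smul]

theorem genLocus_add_le {M : X.Modules} (hM : PicF.IsInvertible M)
    (p q : Coh.structureModule X ⟶ M) :
    genLocus M (p + q) ≤ genLocus M p ⊔ genLocus M q := by
  intro z hz
  obtain ⟨V, hzV, e, he⟩ := exists_isGenerator_of_isInvertible hM z
  obtain ⟨f, g, -, -, hf, hg, hfg⟩ := exists_fn_add he p q
  have h1 : z ∈ X.basicOpen (f + g) := hfg ▸ (⟨hz, hzV⟩ : z ∈ genLocus M (p + q) ⊓ V)
  have h2 := X.basicOpen_add_le f g h1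
  rw [← hf, ← hg] at h2
  rcases h2 with h2 | h2
  · exact Or.inl h2.1
  · exact Or.inr h2.1

theorem mem_genLocus_add {M : X.Modules} (hM : PicF.IsInvertible M)
    (p q : Coh.structureModule X ⟶ M) (z : X) (hp : z ∈ genLocus M p) (hq : z ∉ genLocus M q) :
    z ∈ genLocus M (p + q) := by
  obtain ⟨V, hzV, e, he⟩ := exists_isGenerator_of_isInvertible hM z
  obtain ⟨f, g, -, -, hf, hg, hfg⟩ := exists_fn_add he p q
  have h1 : z ∈ X.basicOpen f := hf ▸ (⟨hp, hzV⟩ : z ∈ genLocus M p ⊓ V)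
  have h2 : f = (f + g) + (-1) * g := by ring
  rw [h2] at h1
  have h3 := X.basicOpen_add_le (f + g) ((-1) * g) h1
  rw [X.basicOpen_mul, ← hfg, ← hg] at h3
  rcases h3 with h3 | h3
  · exact h3.1
  · exact absurd h3.2.1 hq

theorem mem_genLocus_add' {M : X.Modules} (hM : PicF.IsInvertible M)
    (p q : Coh.structureModule X ⟶ M) (z : X) (hq : z ∈ genLocus M q) (hp : z ∉ genLocus M p) :
    z ∈ genLocus M (p + q) := by
  rw [add_comm]
  exact mem_genLocus_add hM q p z hq hp

/-- if `X_p` and `X_q` are affine then so is `X_{p+q}` -/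
theorem isAffineOpen_genLocus_add {M : X.Modules} (hM : PicF.IsInvertible M)
    (p q : Coh.structureModule X ⟶ M) (hp : IsAffineOpen (genLocus M p))
    (hq : IsAffineOpen (genLocus M q)) : IsAffineOpen (genLocus M (p + q)) := by
  obtain ⟨W, hW⟩ : ∃ W : X.Opens, W = genLocus M (p + q) := ⟨_, rfl⟩
  have he : IsGenerator M W (secOn (p + q) W) := isGenerator_secOn_of_le_genLocus (p + q) hW.le
  obtain ⟨f, g, hf, hg, hf', hg', -⟩ := exists_fn_add he p q
  have h1 : (f + g) • secOn (p + q) W = (1 : Γ(X, W)) • secOn (p + q) W := by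
    rw [add_smul, ← hf, ← hg, one_smul, secOn_add]
  have hid : M.presheaf.map (homOfLE (le_refl W)).op (secOn (p + q) W) = secOn (p + q) W := by
    have h2 : homOfLE (le_refl W) = 𝟙 W := rfl
    rw [h2, op_id, M.presheaf.map_id]
    rfl
  have h3 : f + g = 1 := by
    apply (he.bijective (le_refl W)).1
    change (f + g) • M.presheaf.map (homOfLE (le_refl W)).op (secOn (p + q) W) =
      (1 : Γ(X, W)) • M.presheaf.map (homOfLE (le_refl W)).op (secOn (p + q) W)
    rw [hid]
    exact h1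
  rw [← hW]
  refine isAffineOpen_of_isAffineOpen_basicOpen W {f, g} ?_ ?_
  · rw [Ideal.eq_top_iff_one, ← h3]
    exact Ideal.add_mem _ (Ideal.subset_span (by simp)) (Ideal.subset_span (by simp))
  · intro i hi
    rcases hi with rfl | rfl
    · rw [← hf', inf_comm, hW]
      exact isAffineOpen_genLocus_inf_of_isInvertible hM (p + q) hp
    · rw [← hg', inf_comm, hW]
      exact isAffineOpen_genLocus_inf_of_isInvertible hM (p + q) hq

/-- the class of affine opens `X_t ≤ U`, `t` a section of a positive power of `L` -/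
def Good (L : X.Modules) (U W : X.Opens) : Prop :=
  ∃ (n : ℕ) (t : Coh.structureModule X ⟶ tensorPow L (n + 1)),
    genLocus _ t = W ∧ IsAffineOpen W ∧ W ≤ U

lemma good_inf {L : X.Modules} (hL : PicF.IsInvertible L) (U : X.Opens) (A : X.Opens)
    (hA : Good L U A) (B : X.Opens) (hB : Good L U B) : Good L U (A ⊓ B) := by
  obtain ⟨a, tA, hAt, -, hAU⟩ := hA
  obtain ⟨b, tB, hBt, hBaff, -⟩ := hB
  have hn : (a + 1) + (b + 1) = (a + b + 1) + 1 := by omega
  let e : tensorMod (tensorPow L (a + 1)) (tensorPow L (b + 1)) ≅ tensorPow L ((a + b + 1) + 1) :=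
    (tensorPowAddIso L (a + 1) (b + 1)).symm ≪≫ eqToIso (congrArg (tensorPow L) hn)
  have h1 : genLocus _ (mulSec tA tB ≫ e.hom) = A ⊓ B := by
    rw [genLocus_comp_iso, genLocus_mulSec tA tB (isInvertible_tensorPow hL _)
      (isInvertible_tensorPow hL _), hAt, hBt]
  refine ⟨a + b + 1, mulSec tA tB ≫ e.hom, h1, ?_, inf_le_left.trans hAU⟩
  rw [← hAt]
  exact isAffineOpen_genLocus_inf_of_isInvertible (isInvertible_tensorPow hL _) tA hBaff

lemma good_sum {L : X.Modules} (hL : PicF.IsInvertible L) (U : X.Opens) (A B : X.Opens)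
    (hA : Good L U A) (hB : Good L U B) :
    ∃ W, Good L U W ∧ (∀ z, z ∈ A → z ∉ B → z ∈ W) ∧ (∀ z, z ∈ B → z ∉ A → z ∈ W) := by
  obtain ⟨a, tA, hAt, hAaff, hAU⟩ := hA
  obtain ⟨b, tB, hBt, hBaff, hBU⟩ := hB
  obtain ⟨N, hN⟩ : ∃ N, (a + 1) * (b + 1) = N + 1 :=
    Nat.exists_eq_succ_of_ne_zero (Nat.mul_ne_zero (Nat.succ_ne_zero _) (Nat.succ_ne_zero _))
  have hN' : (b + 1) * (a + 1) = N + 1 := by rw [mul_comm]; exact hN
  let eA : tensorPow (tensorPow L (a + 1)) (b + 1) ≅ tensorPow L (N + 1) :=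
    Ample.tensorPowMulIso L (a + 1) (b + 1) ≪≫ eqToIso (congrArg (tensorPow L) hN)
  let eB : tensorPow (tensorPow L (b + 1)) (a + 1) ≅ tensorPow L (N + 1) :=
    Ample.tensorPowMulIso L (b + 1) (a + 1) ≪≫ eqToIso (congrArg (tensorPow L) hN')
  have hp : genLocus _ (secPow tA (b + 1) ≫ eA.hom) = A := by
    rw [genLocus_comp_iso, genLocus_secPow tA (isInvertible_tensorPow hL _), hAt]
  have hq : genLocus _ (secPow tB (a + 1) ≫ eB.hom) = B := by
    rw [genLocus_comp_iso, genLocus_secPow tB (isInvertible_tensorPow hL _), hBt]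
  have hinv := isInvertible_tensorPow hL (N + 1)
  refine ⟨genLocus _ (secPow tA (b + 1) ≫ eA.hom + secPow tB (a + 1) ≫ eB.hom),
    ⟨N, _, rfl, ?_, ?_⟩, ?_, ?_⟩
  · exact isAffineOpen_genLocus_add hinv _ _ (hp ▸ hAaff) (hq ▸ hBaff)
  · refine (genLocus_add_le hinv _ _).trans ?_
    rw [hp, hq]
    exact sup_le hAU hBU
  · intro z hzA hzB
    exact mem_genLocus_add hinv _ _ z (hp ▸ hzA) (fun h => hzB (hq ▸ h))
  · intro z hzB hzA
    exact mem_genLocus_add' hinv _ _ z (hq ▸ hzB) (fun h => hzA (hp ▸ h))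

lemma good_bot {L : X.Modules} [CompactSpace X] [QuasiSeparatedSpace X]
    (hL : PicF.IsInvertible L) (U : X.Opens) : Good L U ⊥ := by
  obtain ⟨j, t, ht⟩ := exists_section_genLocus_eq_basicOpen (isInvertible_tensorPow hL (0 + 1))
    (0 : Coh.structureModule X ⟶ tensorPow L (0 + 1)) 0
  obtain ⟨n, t', ht'⟩ := exists_section_tensorPow_of_tensorPow_tensorPow 0 j t
  refine ⟨n, t', ?_, isAffineOpen_bot X, bot_le⟩
  rw [ht', ht, Scheme.basicOpen_zero]

/-- **graded prime avoidance for an ample module**: a finite set of points inside an open `U` has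
an affine open neighbourhood of the form `X_t` inside `U`, `t` a section of a positive power. -/
theorem exists_affine_genLocus_of_finite {L : X.Modules} (hL : IsAmple L)
    (Z : Set X) (hZ : Z.Finite) (U : X.Opens) (hZU : Z ⊆ U) :
    ∃ (n : ℕ) (t : Coh.structureModule X ⟶ tensorPow L (n + 1)),
      Z ⊆ genLocus _ t ∧ genLocus _ t ≤ U ∧ IsAffineOpen (genLocus _ t) := by
  have hqs := quasiSeparatedSpace_of_isAmple hL
  have hc : CompactSpace X := hL.2.1
  have hinv : PicF.IsInvertible L := hL.1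
  have hpt : ∀ z ∈ U, ∃ W, Good L U W ∧ z ∈ W := by
    intro z hz
    obtain ⟨n, t, hzt, htU, haff⟩ := exists_affine_genLocus_nbhd_of_isAmple hL z U hz
    exact ⟨_, ⟨n, t, rfl, haff, htU⟩, hzt⟩
  obtain ⟨W, ⟨n, t, ht, haff, hWU⟩, hZW⟩ := avoid_aux (Good L U) U (good_bot hinv U)
    (good_inf hinv U) (good_sum hinv U) hpt hZ.toFinset.card hZ.toFinset le_rfl
    (fun z hz => hZU (hZ.mem_toFinset.1 hz))
  refine ⟨n, t, ?_, ht ▸ hWU, ht ▸ haff⟩
  intro z hz
  rw [ht]
  exact hZW z (hZ.mem_toFinset.2 hz)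

end Groth.Agent.Lib.Ample.Avoid
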