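import Groth.Agent.Lib.Ample.Affine

/-!
# AMPLE project (lead): iso-invariance and restriction of ampleness

ns `Groth.Agent.Lib.Ample`.
* `isAmple_of_iso` : `L ≅ L'`, `L` ample ⇒ `L'` ample
* `isQuasiAffine_of_isAmple_structureModule` : `O_X` ample ⇒ `X` quasi-affine (no separatedness needed)
* `isAmple_restrict_of_isAffineHom` : `L` ample on `X`, `U` a quasi-compact open with `U.ι` affine ⇒ `L|_U` ample
* `isQuasiAffine_of_isAmple_restrict_structureModule` : `(O_X)|_U` ample on `U` ⇒ `U` quasi-affine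
* `isoUnitOfRestrictRestrict`, `exists_iso_unit_of_isInvertible_restrict`, `isInvertible_of_isInvertible_restrict_top`
* `exists_restrictSec_top_eq` : sections of `M|_⊤` come from global sections
* `isAmple_of_isAmple_restrict_top`, `isAmple_of_isAmple_restrict_of_eq_top`
-/

universe u
open CategoryTheory CategoryTheory.Limits AlgebraicGeometry TopologicalSpace Opposite

namespace Groth.Agent.Lib.Ample

open Scheme.Modules

variable {X : Scheme.{u}}

/-- ampleness only depends on the isomorphism class -/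
theorem isAmple_of_iso {L L' : X.Modules} (e : L ≅ L') (hL : CohB1.IsAmple L) : CohB1.IsAmple L' := by
  obtain ⟨hinv, hc, h⟩ := hL
  refine ⟨QCoh.isInvertible_of_iso e hinv, hc, fun x => ?_⟩
  obtain ⟨n, s, hx, haff⟩ := h x
  have hg := genLocus_comp_iso s (QCoh.tensorPowCongr e (n + 1))
  exact ⟨n, s ≫ (QCoh.tensorPowCongr e (n + 1)).hom, by rw [hg]; exact hx, by rw [hg]; exact haff⟩

/-- if `O_X` is ample then `X` is quasi-affine -/
theorem isQuasiAffine_of_isAmple_structureModule (h : CohB1.IsAmple (Coh.structureModule X)) :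
    X.IsQuasiAffine := by
  obtain ⟨-, hc, h⟩ := h
  refine Scheme.IsQuasiAffine.of_forall_exists_mem_basicOpen X fun x => ?_
  obtain ⟨n, s, hx, haff⟩ := h x
  have hg := (genLocus_comp_iso s (QCoh.tensorPowUnitIso X (n + 1))).symm.trans (genLocus_unit _)
  rw [hg] at hx haff
  exact ⟨_, haff, hx⟩

/-- restriction of an ample module to a quasi-compact open whose inclusion is an affine morphism -/
theorem isAmple_restrict_of_isAffineHom {L : X.Modules} (hL : CohB1.IsAmple L) (U : X.Opens)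
    [CompactSpace (U : Scheme.{u})] [IsAffineHom U.ι] : CohB1.IsAmple (L.restrict U.ι) := by
  obtain ⟨hinv, -, h⟩ := hL
  refine ⟨QCoh.isInvertible_restrict _ hinv, inferInstance, fun x => ?_⟩
  obtain ⟨n, s, hx, haff⟩ := h (U.ι x)
  have hg := (genLocus_comp_iso (restrictSec s U) (QCoh.restrictTensorPowIso U.ι L (n + 1))).trans
    (genLocus_restrictSec s U)
  refine ⟨n, restrictSec s U ≫ (QCoh.restrictTensorPowIso U.ι L (n + 1)).hom, ?_, ?_⟩
  · rw [hg]; exact hx
  · rw [hg]; exact haff.preimage U.ι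

/-- if the restriction of `O_X` to an open `U` is ample then `U` is quasi-affine -/
theorem isQuasiAffine_of_isAmple_restrict_structureModule (U : X.Opens)
    (h : CohB1.IsAmple ((Coh.structureModule X).restrict U.ι)) : (U : Scheme.{u}).IsQuasiAffine :=
  isQuasiAffine_of_isAmple_structureModule (isAmple_of_iso (restrictUnitIso U.ι) h)


/-- a trivialization of `(L|_U)|_{U'}` gives a trivialization of `L` over the image of `U'` in `X` -/
noncomputable def isoUnitOfRestrictRestrict {L : X.Modules} (U : X.Opens) (U' : (U : Scheme.{u}).Opens)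
    (e : (L.restrict U.ι).restrict U'.ι ≅ Coh.structureModule ↑U') :
    L.restrict (U.ι ''ᵁ U').ι ≅ Coh.structureModule ↑(U.ι ''ᵁ U') :=
  (restrictFunctorCongr (U.ι.isoImage_inv_ι U').symm).app L ≪≫
    (restrictFunctorComp (U.ι.isoImage U').inv (U'.ι ≫ U.ι)).app L ≪≫
    (restrictFunctor (U.ι.isoImage U').inv).mapIso ((restrictFunctorComp U'.ι U.ι).app L ≪≫ e) ≪≫
    restrictUnitIso _

/-- invertibility can be checked on an open cover by one open: if `L|_U` is invertible then `L` is locally trivial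
at the points of `U` -/
theorem exists_iso_unit_of_isInvertible_restrict {L : X.Modules} (U : X.Opens)
    (h : PicF.IsInvertible (L.restrict U.ι)) (x : X) (hx : x ∈ U) :
    ∃ V : X.Opens, x ∈ V ∧ Nonempty (L.restrict V.ι ≅ Coh.structureModule ↑V) := by
  obtain ⟨U', hxU', ⟨e⟩⟩ := h ⟨x, hx⟩
  exact ⟨U.ι ''ᵁ U', ⟨⟨x, hx⟩, hxU', rfl⟩, ⟨isoUnitOfRestrictRestrict U U' e⟩⟩

theorem isInvertible_of_isInvertible_restrict_top {L : X.Modules}
    (h : PicF.IsInvertible (L.restrict (⊤ : X.Opens).ι)) : PicF.IsInvertible L :=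
  fun x => exists_iso_unit_of_isInvertible_restrict ⊤ h x trivial


/-- every section of `M|_⊤` is the restriction of a global section of `M` -/
theorem exists_restrictSec_top_eq {M : X.Modules}
    (σ : Coh.structureModule ↑(⊤ : X.Opens) ⟶ M.restrict (⊤ : X.Opens).ι) :
    ∃ s : Coh.structureModule X ⟶ M, restrictSec s ⊤ = σ := by
  have htop : (⊤ : X.Opens) ≤ (⊤ : X.Opens).ι ''ᵁ ⊤ := le_of_eq (Scheme.Opens.ι_image_top _).symm
  let t₁ : Γ(M, (⊤ : X.Opens).ι ''ᵁ ⊤) := secOf σ
  refine ⟨homOfSec M (resSec M htop t₁), ?_⟩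
  apply QCoh.Lift74.unitHom_ext
  have h1 : (restrictSec (homOfSec M (resSec M htop t₁)) ⊤).app ⊤ (1 : Γ(↑(⊤ : X.Opens), ⊤)) =
      ((homOfSec M (resSec M htop t₁)).app ((⊤ : X.Opens).ι ''ᵁ ⊤)).hom
        (oneSec ((⊤ : X.Opens).ι ''ᵁ ⊤)) := by
    change (((restrictFunctor (⊤ : X.Opens).ι).map (homOfSec M (resSec M htop t₁))).app ⊤).hom
      (((restrictUnitIso (⊤ : X.Opens).ι).inv.app ⊤).hom (1 : Γ(↑(⊤ : X.Opens), ⊤))) = _
    have := QCoh.Lift74.restrictUnitIso_inv_app_one (⊤ : X.Opens).ι ⊤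
    erw [this]
    rfl
  rw [h1, app_oneSec, secOf_homOfSec]
  have h2 := resSec_resSec M htop (le_top : (⊤ : X.Opens).ι ''ᵁ ⊤ ≤ ⊤) t₁
  refine h2.trans ?_
  change (M.presheaf.map (𝟙 _)).hom t₁ = _
  rw [M.presheaf.map_id]
  rfl


/-- ampleness of `L|_⊤` implies ampleness of `L` -/
theorem isAmple_of_isAmple_restrict_top {L : X.Modules}
    (h : CohB1.IsAmple (L.restrict (⊤ : X.Opens).ι)) : CohB1.IsAmple L := by
  obtain ⟨hinv, hc, h⟩ := h
  refine ⟨isInvertible_of_isInvertible_restrict_top hinv, ?_, fun x => ?_⟩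
  · have h1 : IsCompact ((⊤ : X.Opens) : Set X) := isCompact_iff_compactSpace.mpr hc
    exact isCompact_univ_iff.mp h1
  · obtain ⟨n, σ', hx, haff⟩ := h ⟨x, trivial⟩
    obtain ⟨s, hs⟩ := exists_restrictSec_top_eq
      (σ' ≫ (QCoh.restrictTensorPowIso (⊤ : X.Opens).ι L (n + 1)).inv)
    have hg : CohB1.genLocus _ σ' = (⊤ : X.Opens).ι ⁻¹ᵁ CohB1.genLocus _ s := by
      rw [← genLocus_restrictSec, hs]
      exact (genLocus_comp_iso σ' (QCoh.restrictTensorPowIso (⊤ : X.Opens).ι L (n + 1)).symm).symm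
    rw [hg] at hx haff
    refine ⟨n, s, hx, ?_⟩
    have h2 := haff.image_of_isOpenImmersion (⊤ : X.Opens).ι
    rwa [Scheme.Hom.image_preimage_eq_opensRange_inf, Scheme.Opens.opensRange_ι, top_inf_eq] at h2

/-- ampleness of `L|_U` for `U = ⊤` implies ampleness of `L` -/
theorem isAmple_of_isAmple_restrict_of_eq_top {L : X.Modules} (U : X.Opens) (hU : U = ⊤)
    (h : CohB1.IsAmple (L.restrict U.ι)) : CohB1.IsAmple L := by
  subst hU
  exact isAmple_of_isAmple_restrict_top h

end Groth.Agent.Lib.Ample
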