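import Groth.Agent.Lib.Ample.Helper50_GenPow
import Groth.Agent.Lib.Ample.Affine
import Groth.Agent.Lib.Ample.Restrict

/-!
# AMPLE tools (helper50): quasi-separatedness, and the opens `X_t` form a basis

Namespace `Groth.Agent.Lib.Ample`.

* `isRetrocompact_genLocus`, `quasiSeparatedSpace_of_cover_genLocus`, `quasiSeparatedSpace_of_isAmple`.
* `isGenerator_sigmaHom_one` : over `X_s`, `σ_j(1)` generates `twistIter O M j`.
* `exists_section_genLocus_eq_basicOpen` : `X` qcqs, `M` invertible, `X_s` affine,
  `g ∈ Γ(X, X_s)`: some section `t` of `M^{⊗ (j+1)}` has `X_t = D(g)`.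
* `isBasis_genLocus_of_isAmple` : for ample `L` the affine `X_t` form a basis.
-/

universe u

open CategoryTheory MonoidalCategory Opposite TensorProduct AlgebraicGeometry TopologicalSpace

namespace Groth.Agent.Lib.Ample

open Groth.Agent.Lib.QCoh CohB1 Scheme.Modules

variable {X : Scheme.{u}}

/-- the generating locus of a section of an invertible module is retrocompact -/
theorem isRetrocompact_genLocus {L : X.Modules} (hL : PicF.IsInvertible L)
    (s : Coh.structureModule X ⟶ L) : IsRetrocompact ((genLocus L s : X.Opens) : Set X) := by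
  intro U hUc hUo
  obtain ⟨S, hS, hU⟩ := (isCompact_iff_finite_and_eq_biUnion_affineOpens (U := ⟨U, hUo⟩)).1 hUc
  have hU' : U = ⋃ i ∈ S, ((i : X.Opens) : Set X) := by
    have := congrArg (fun V : X.Opens => (V : Set X)) hU
    simpa using this
  rw [hU', Set.inter_iUnion₂]
  refine hS.isCompact_biUnion fun i _ => ?_
  have := (isAffineOpen_genLocus_inf_of_isInvertible hL s i.2).isCompact
  exact this

/-- a scheme covered by affine opens of the form `X_s`, `s` a section of an invertible module,
is quasi-separated -/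
theorem quasiSeparatedSpace_of_cover_genLocus
    (h : ∀ x : X, ∃ (M : X.Modules) (s : Coh.structureModule X ⟶ M), PicF.IsInvertible M ∧
      x ∈ genLocus M s ∧ IsAffineOpen (genLocus M s)) : QuasiSeparatedSpace X := by
  choose M s hM hx haff using h
  refine QuasiSeparatedSpace.of_isOpenCover (U := fun x : X => genLocus (M x) (s x)) ?_ ?_ ?_
  · rw [IsOpenCover, eq_top_iff]
    intro x _
    exact Opens.mem_iSup.2 ⟨x, hx x⟩
  · intro x
    exact isRetrocompact_genLocus (hM x) (s x)
  · intro x
    exact (haff x).isQuasiSeparated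

theorem quasiSeparatedSpace_of_isAmple {L : X.Modules} (hL : IsAmple L) :
    QuasiSeparatedSpace X := by
  obtain ⟨hLinv, _, hamp⟩ := hL
  refine quasiSeparatedSpace_of_cover_genLocus fun x => ?_
  obtain ⟨n, s, hx, haff⟩ := hamp x
  exact ⟨_, s, isInvertible_tensorPow hLinv _, hx, haff⟩

/-- over `X_s`, the section `σ_j(1) = s^j` generates `twistIter O_X M j`. -/
theorem isGenerator_sigmaHom_one {M : X.Modules} (s : Coh.structureModule X ⟶ M) (j : ℕ) :
    IsGenerator (twistIter (Coh.structureModule X) M j) (genLocus M s)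
      ((sigmaHom (Coh.structureModule X) s j).app (genLocus M s)
        (show Γ(Coh.structureModule X, genLocus M s) from (1 : Γ(X, genLocus M s)))) := by
  rw [isGenerator_iff]
  intro V hV
  have h1 := bijective_sigmaHom_app s (Coh.structureModule X) hV j
  have h2 : (fun a : Γ(X, V) => a • (twistIter (Coh.structureModule X) M j).presheaf.map
      (homOfLE hV).op ((sigmaHom (Coh.structureModule X) s j).app (genLocus M s)
        (show Γ(Coh.structureModule X, genLocus M s) from (1 : Γ(X, genLocus M s))))) =
      (fun a : Γ(X, V) => (sigmaHom (Coh.structureModule X) s j).app V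
        (show Γ(Coh.structureModule X, V) from a)) := by
    funext a
    rw [← app_naturality_apply, ← Hom.app_smul]
    congr 1
    have h3 : (Coh.structureModule X).presheaf.map (homOfLE hV).op
      (show Γ(Coh.structureModule X, genLocus M s) from (1 : Γ(X, genLocus M s))) =
      (show Γ(Coh.structureModule X, V) from (1 : Γ(X, V))) :=
      map_one (X.presheaf.map (homOfLE hV).op).hom
    rw [h3]
    exact mul_one a
  rw [h2]
  exact h1

lemma isInvertible_twistIter_unit {M : X.Modules} (hM : PicF.IsInvertible M) (j : ℕ) :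
    PicF.IsInvertible (twistIter (Coh.structureModule X) M j) :=
  isInvertible_of_iso (twistIterUnitIso M j).symm (isInvertible_tensorPow hM j)

/-- **`D(g) ⊆ X_s` is again of the form `X_t`** (`X` qcqs, `M` invertible, `X_s` affine). -/
theorem exists_section_genLocus_eq_basicOpen [CompactSpace X] [QuasiSeparatedSpace X]
    {M : X.Modules} (hM : PicF.IsInvertible M) (s : Coh.structureModule X ⟶ M)
    (g : Γ(X, genLocus M s)) :
    ∃ (j : ℕ) (t : Coh.structureModule X ⟶ tensorPow M (j + 1)),
      genLocus _ t = X.basicOpen g := by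
  have hO : (Coh.structureModule X).IsQuasicoherent :=
    isQuasicoherent_of_isInvertible (isInvertible_structureModule X)
  obtain ⟨j, hj⟩ := exists_extension_sigmaHom_top (Coh.structureModule X) hM s
    (show Γ(Coh.structureModule X, genLocus M s) from g)
  obtain ⟨t'', ht''⟩ := hj j le_rfl
  have h1 : secOn (homOfSec _ t'') (genLocus M s) =
      g • ((sigmaHom (Coh.structureModule X) s j).app (genLocus M s)
        (show Γ(Coh.structureModule X, genLocus M s) from (1 : Γ(X, genLocus M s)))) := by
    rw [secOn_homOfSec, ht'', ← Hom.app_smul]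
    congr 1
    exact (mul_one g).symm
  have h2 := genLocus_inf_eq_basicOpen (homOfSec _ t'') (genLocus M s) _
    (isGenerator_sigmaHom_one s j) g h1
  have h3 := genLocus_mulSec (homOfSec _ t'') s (isInvertible_twistIter_unit hM j) hM
  rw [h2] at h3
  refine ⟨j, mulSec (homOfSec _ t'') s ≫ (twistIterUnitIso M (j + 1)).hom, ?_⟩
  rw [genLocus_comp_iso]
  exact h3

/-- a section of `(L^{⊗ (k+1)})^{⊗ (j+1)}` as a section of a positive tensor power of `L`, with the
same generating locus -/
theorem exists_section_tensorPow_of_tensorPow_tensorPow {L : X.Modules} (k j : ℕ)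
    (t : Coh.structureModule X ⟶ tensorPow (tensorPow L (k + 1)) (j + 1)) :
    ∃ (n : ℕ) (t' : Coh.structureModule X ⟶ tensorPow L (n + 1)),
      genLocus _ t' = genLocus _ t := by
  obtain ⟨n, hn⟩ : ∃ n, (k + 1) * (j + 1) = n + 1 :=
    Nat.exists_eq_succ_of_ne_zero (Nat.mul_ne_zero (Nat.succ_ne_zero _) (Nat.succ_ne_zero _))
  let e : tensorPow (tensorPow L (k + 1)) (j + 1) ≅ tensorPow L (n + 1) :=
    tensorPowMulIso L (k + 1) (j + 1) ≪≫ eqToIso (congrArg (tensorPow L) hn)
  exact ⟨n, t ≫ e.hom, genLocus_comp_iso t e⟩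

/-- **for an ample `L`, the affine opens `X_t` (`t` a section of a positive power of `L`) form a
basis of the topology** -/
theorem exists_affine_genLocus_nbhd_of_isAmple {L : X.Modules} (hL : IsAmple L) (x : X)
    (U : X.Opens) (hxU : x ∈ U) :
    ∃ (n : ℕ) (t : Coh.structureModule X ⟶ tensorPow L (n + 1)),
      x ∈ genLocus _ t ∧ genLocus _ t ≤ U ∧ IsAffineOpen (genLocus _ t) := by
  have hqs := quasiSeparatedSpace_of_isAmple hL
  obtain ⟨hLinv, hc, hamp⟩ := hL
  obtain ⟨k, s, hxs, haff⟩ := hamp x
  obtain ⟨g, hgU, hxg⟩ := haff.exists_basicOpen_le (V := U) ⟨x, hxU⟩ hxs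
  obtain ⟨j, t, ht⟩ := exists_section_genLocus_eq_basicOpen (isInvertible_tensorPow hLinv _) s g
  obtain ⟨n, t', ht'⟩ := exists_section_tensorPow_of_tensorPow_tensorPow k j t
  refine ⟨n, t', ?_, ?_, ?_⟩
  · rw [ht', ht]; exact hxg
  · rw [ht', ht]; exact hgU
  · rw [ht', ht]; exact haff.basicOpen g

end Groth.Agent.Lib.Ample
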