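import Groth.Agent.Lib.Ample.Helper50_Serre
import Groth.Agent.Lib.QCoh.Helper50_Products
import Groth.Agent.Lib.QCoh.FiniteType
import Groth.Agent.Lib.QCoh.TensorPic

/-!
# AMPLE tools (helper50): the counit `f^* f_* G ⟶ G` is an epimorphism when `G` is relatively
generated by sections over the base

Namespace `Groth.Agent.Lib.Ample.Counit`.

* `counit_app_unit_app` : `ε.app (f⁻¹V) (η.app V m) = m`.
* `surjective_counit_app_of_span` , `epi_counit_of_isBasis`.
* `exists_genOnRel_of_isAmple_restrict` : relative form of Serre's theorem over an open `A` with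
  `L|_A` ample.
* `epi_counit_tensorPow_of_cover` : finitely many opens `V i` of `Y` with `L|_{f⁻¹ V i}` ample
  covering the image: `f^* f_* (F ⊗ L^n) ⟶ F ⊗ L^n` is epi for `n ≫ 0`.
-/

universe u

open CategoryTheory MonoidalCategory Opposite TensorProduct AlgebraicGeometry TopologicalSpace

namespace Groth.Agent.Lib.Ample.Counit

open Groth.Agent.Lib.QCoh CohB1 Scheme.Modules Groth.Agent.Lib.Ample

variable {X Y : Scheme.{u}}

/-- the triangle identity on sections: `ε (η m) = m` for `m ∈ Γ(f_* G, V) = Γ(G, f⁻¹ V)`. -/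
lemma counit_app_unit_app (f : X ⟶ Y) (G : X.Modules) (V : Y.Opens)
    (m : Γ((pushforward f).obj G, V)) :
    ((pullbackPushforwardAdjunction f).counit.app G).app (f ⁻¹ᵁ V)
      (((pullbackPushforwardAdjunction f).unit.app ((pushforward f).obj G)).app V m) = m := by
  have h := (pullbackPushforwardAdjunction f).right_triangle_components G
  have h2 := congrArg (fun φ => (Scheme.Modules.Hom.app φ V) m) h
  exact h2

/-- if `Γ(G, W')` is spanned by restrictions of sections over `f⁻¹ V`, the counit is surjective on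
sections over `W'`. -/
lemma surjective_counit_app_of_span (f : X ⟶ Y) (G : X.Modules) (V : Y.Opens) (W' : X.Opens)
    (e : W' ≤ f ⁻¹ᵁ V)
    (h : Submodule.span Γ(X, W')
      (Set.range (fun m : Γ(G, f ⁻¹ᵁ V) => G.presheaf.map (homOfLE e).op m)) = ⊤) :
    Function.Surjective (((pullbackPushforwardAdjunction f).counit.app G).app W') := by
  intro y
  have hy : y ∈ Submodule.span Γ(X, W')
      (Set.range (fun m : Γ(G, f ⁻¹ᵁ V) => G.presheaf.map (homOfLE e).op m)) := h ▸ trivial
  induction hy using Submodule.span_induction with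
  | mem y hy =>
    obtain ⟨m, rfl⟩ := hy
    refine ⟨((Scheme.Modules.pullback f).obj ((pushforward f).obj G)).presheaf.map (homOfLE e).op
      (((pullbackPushforwardAdjunction f).unit.app ((pushforward f).obj G)).app V m), ?_⟩
    have h1 := app_naturality_apply ((pullbackPushforwardAdjunction f).counit.app G) (homOfLE e)
      (((pullbackPushforwardAdjunction f).unit.app ((pushforward f).obj G)).app V m)
    refine h1.trans ?_
    exact congrArg (fun t => G.presheaf.map (homOfLE e).op t) (counit_app_unit_app f G V m)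
  | zero => exact ⟨0, map_zero _⟩
  | add x y _ _ hx hy =>
    obtain ⟨a, rfl⟩ := hx
    obtain ⟨b, rfl⟩ := hy
    exact ⟨a + b, map_add _ _ _⟩
  | smul r x _ hx =>
    obtain ⟨a, rfl⟩ := hx
    exact ⟨r • a, Hom.app_smul _ _ _⟩

/-- the counit is an epimorphism if relatively generated opens form a basis -/
theorem epi_counit_of_isBasis (f : X ⟶ Y) (G : X.Modules) {ι : Type*} (B : ι → X.Opens)
    (hB : Opens.IsBasis (Set.range B)) (V : ι → Y.Opens) (hBV : ∀ i, B i ≤ f ⁻¹ᵁ V i)
    (h : ∀ i, Submodule.span Γ(X, B i)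
      (Set.range (fun m : Γ(G, f ⁻¹ᵁ V i) => G.presheaf.map (homOfLE (hBV i)).op m)) = ⊤) :
    Epi ((pullbackPushforwardAdjunction f).counit.app G) :=
  epi_of_surjective_of_isBasis B hB _
    (fun i => surjective_counit_app_of_span f G (V i) (B i) (hBV i) (h i))

/-- **relative form of Serre's theorem**: `A` an open of `X` with `L|_A` ample. For `n ≫ 0` every
point of `A` has arbitrarily small neighbourhoods `W' ≤ A` over which `F ⊗ L^n` is generated by
its sections over `A`. -/
theorem exists_span_eq_top_of_isAmple_restrict {L : X.Modules} (A : X.Opens)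
    (hA : IsAmple (L.restrict A.ι)) (F : X.Modules) [F.IsQuasicoherent] [F.IsFiniteType] :
    ∃ n₀ : ℕ, ∀ n, n₀ ≤ n → ∀ x ∈ A, ∀ U : X.Opens, x ∈ U →
      ∃ (W' : X.Opens) (hW' : W' ≤ A), x ∈ W' ∧ W' ≤ U ∧
        Submodule.span Γ(X, W') (Set.range (fun m : Γ(tensorMod F (tensorPow L n), A) =>
          (tensorMod F (tensorPow L n)).presheaf.map (homOfLE hW').op m)) = ⊤ := by
  have hqs : QuasiSeparatedSpace (A : Scheme.{u}) := quasiSeparatedSpace_of_isAmple hA
  have : (F.restrict A.ι).IsQuasicoherent := isQuasicoherent_restrict A.ι F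
  have : (F.restrict A.ι).IsFiniteType := isFiniteType_restrict A.ι F
  obtain ⟨n₀, h⟩ := exists_forall_exists_genOn_of_isAmple hA (F.restrict A.ι)
  refine ⟨n₀, fun n hn x hx U hxU => ?_⟩
  obtain ⟨W, hW, hxW, hgen⟩ := h n hn ⟨x, hx⟩
  obtain ⟨g, hgU, hxg⟩ := hW.exists_basicOpen_le (V := A.ι ⁻¹ᵁ U) ⟨⟨x, hx⟩, hxU⟩ hxW
  have hLn : PicF.IsInvertible (tensorPow (L.restrict A.ι) n) := isInvertible_tensorPow hA.1 n
  have : (tensorPow (L.restrict A.ι) n).IsQuasicoherent := isQuasicoherent_of_isInvertible hLn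
  have : (tensorMod (F.restrict A.ι) (tensorPow (L.restrict A.ι) n)).IsQuasicoherent :=
    isQuasicoherent_tensorMod _ _
  have hgen' := hgen.basicOpen hW g
  let θ : (tensorMod F (tensorPow L n)).restrict A.ι ≅
      tensorMod (F.restrict A.ι) (tensorPow (L.restrict A.ι) n) :=
    restrictTensorModIso A.ι F (tensorPow L n) ≪≫
      tensorModCongr (Iso.refl _) (restrictTensorPowIso A.ι L n)
  have hgen'' : GenOn ((tensorMod F (tensorPow L n)).restrict A.ι)
      ((A : Scheme.{u}).basicOpen g) := hgen'.of_iso θ.symm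
  have hle : A.ι ''ᵁ ((A : Scheme.{u}).basicOpen g) ≤ A := by
    rintro _ ⟨y, -, rfl⟩
    exact y.2
  refine ⟨A.ι ''ᵁ ((A : Scheme.{u}).basicOpen g), hle, ⟨⟨x, hx⟩, hxg, rfl⟩, ?_, ?_⟩
  · rintro _ ⟨y, hy, rfl⟩
    exact hgU hy
  · rw [eq_top_iff]
    intro y _
    have hAtop : A ≤ A.ι ''ᵁ (⊤ : (A : Scheme.{u}).Opens) := by
      intro z hz
      exact ⟨⟨z, hz⟩, trivial, rfl⟩
    have key : ∀ z : Γ((tensorMod F (tensorPow L n)).restrict A.ι, (A : Scheme.{u}).basicOpen g),
        z ∈ Submodule.span Γ((A : Scheme.{u}), (A : Scheme.{u}).basicOpen g)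
          (Set.range (resTop ((tensorMod F (tensorPow L n)).restrict A.ι)
            ((A : Scheme.{u}).basicOpen g))) →
        (show Γ(tensorMod F (tensorPow L n), A.ι ''ᵁ ((A : Scheme.{u}).basicOpen g)) from z) ∈
          Submodule.span Γ(X, A.ι ''ᵁ ((A : Scheme.{u}).basicOpen g))
            (Set.range (fun m : Γ(tensorMod F (tensorPow L n), A) =>
              (tensorMod F (tensorPow L n)).presheaf.map (homOfLE hle).op m)) := by
      intro z hz
      induction hz using Submodule.span_induction with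
      | mem z hz =>
        obtain ⟨m', rfl⟩ := hz
        refine Submodule.subset_span
          ⟨(tensorMod F (tensorPow L n)).presheaf.map (homOfLE hAtop).op m', ?_⟩
        exact map_map_apply (tensorMod F (tensorPow L n)) _ _
          (homOfLE (show A.ι ''ᵁ ((A : Scheme.{u}).basicOpen g) ≤
            A.ι ''ᵁ (⊤ : (A : Scheme.{u}).Opens) from fun z ⟨y, _, hy⟩ => ⟨y, trivial, hy⟩)) m'
      | zero => exact Submodule.zero_mem _
      | add x y _ _ hx hy => exact Submodule.add_mem _ hx hy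
      | smul r x _ hx =>
        have e : (show Γ(tensorMod F (tensorPow L n), A.ι ''ᵁ ((A : Scheme.{u}).basicOpen g)) from
            (r • x)) = (show Γ(X, A.ι ''ᵁ ((A : Scheme.{u}).basicOpen g)) from
              (A.ι.appIso ((A : Scheme.{u}).basicOpen g)).inv.hom r) •
              (show Γ(tensorMod F (tensorPow L n), A.ι ''ᵁ ((A : Scheme.{u}).basicOpen g)) from x) :=
          rfl
        have e2 : (A.ι.appIso ((A : Scheme.{u}).basicOpen g)).inv.hom r = r := by
          rw [Scheme.Opens.ι_appIso]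
          rfl
        rw [e, e2]
        exact Submodule.smul_mem _ (show Γ(X, A.ι ''ᵁ ((A : Scheme.{u}).basicOpen g)) from r) hx
    exact key y ((genOn_iff.1 hgen'') y)

/-- **the counit `f^* f_* (F ⊗ L^n) ⟶ F ⊗ L^n` is an epimorphism for `n ≫ 0`**, when finitely many
opens `V i` of `Y` with `L|_{f⁻¹ V i}` ample cover the image of `f` (`F` quasi-coherent of finite
type). -/
theorem epi_counit_tensorPow_of_cover (f : X ⟶ Y) {L : X.Modules} (F : X.Modules)
    [F.IsQuasicoherent] [F.IsFiniteType] {ι : Type*} [Finite ι] (V : ι → Y.Opens)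
    (hcov : ∀ x : X, ∃ i, f.base x ∈ V i)
    (hamp : ∀ i, IsAmple (L.restrict (f ⁻¹ᵁ V i).ι)) :
    ∃ N : ℕ, ∀ n, N ≤ n →
      Epi ((pullbackPushforwardAdjunction f).counit.app (tensorMod F (tensorPow L n))) := by
  classical
  have := Fintype.ofFinite ι
  choose n₀ hn₀ using fun i => exists_span_eq_top_of_isAmple_restrict (f ⁻¹ᵁ V i) (hamp i) F
  refine ⟨Finset.univ.sup n₀, fun n hn => ?_⟩
  let I := {p : ι × X.Opens // ∃ hW' : p.2 ≤ f ⁻¹ᵁ V p.1,
    Submodule.span Γ(X, p.2) (Set.range (fun m : Γ(tensorMod F (tensorPow L n), f ⁻¹ᵁ V p.1) =>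
      (tensorMod F (tensorPow L n)).presheaf.map (homOfLE hW').op m)) = ⊤}
  refine epi_counit_of_isBasis f _ (fun p : I => p.1.2) ?_ (fun p : I => V p.1.1)
    (fun p => p.2.choose) (fun p => p.2.choose_spec)
  rw [Opens.isBasis_iff_nbhd]
  intro U x hxU
  obtain ⟨i, hi⟩ := hcov x
  obtain ⟨W', hW', hxW', hW'U, hspan⟩ :=
    hn₀ i n ((Finset.le_sup (Finset.mem_univ i)).trans hn) x hi U hxU
  exact ⟨W', ⟨⟨(i, W'), hW', hspan⟩, rfl⟩, hxW', hW'U⟩

end Groth.Agent.Lib.Ample.Counit
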