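import Groth.Agent.Lib.Ample.Restrict
import Groth.Agent.Lib.Ample.Helper50_MulSec
import Groth.Agent.Lib.QCoh.TensorPow2

/-!
# AMPLE project (lead): tensor products of ample modules

ns `Groth.Agent.Lib.Ample`.
* `isAmple_tensorMod` : `L` ample, `L'` invertible and covered by the `X_{s'}` (`s'` sections of positive powers of `L'`)
  ⇒ `L ⊗ L'` ample (EGA II 4.5.7; no separatedness needed)
* `isAmple_tensorMod_of_isAmple` : `L`, `L'` ample ⇒ `L ⊗ L'` ample
-/

universe u
open CategoryTheory CategoryTheory.Limits AlgebraicGeometry TopologicalSpace Opposite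

namespace Groth.Agent.Lib.Ample

open Scheme.Modules

variable {X : Scheme.{u}}

theorem isAmple_tensorMod {L L' : X.Modules} (hL : CohB1.IsAmple L) (hL' : PicF.IsInvertible L')
    (h : ∀ x : X, ∃ (n : ℕ) (s' : Coh.structureModule X ⟶ CohB1.tensorPow L' (n + 1)),
      x ∈ CohB1.genLocus _ s') :
    CohB1.IsAmple (CohB1.tensorMod L L') := by
  obtain ⟨hinv, hc, hamp⟩ := hL
  refine ⟨QCoh.isInvertible_tensorMod hinv hL', hc, fun x => ?_⟩
  obtain ⟨n, s, hxs, haff⟩ := hamp x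
  obtain ⟨m, s', hxs'⟩ := h x
  -- powers
  have hLn := QCoh.isInvertible_tensorPow hinv (n + 1)
  have hLm' := QCoh.isInvertible_tensorPow hL' (m + 1)
  have ha := genLocus_secPow s hLn m
  have hb := genLocus_secPow s' hLm' n
  let α := QCoh.tensorPowMulIso L (n + 1) (m + 1)
  let β := QCoh.tensorPowMulIso L' (m + 1) (n + 1) ≪≫
    QCoh.tensorPowEqIso L' (Nat.mul_comm (m + 1) (n + 1))
  let a := secPow s (m + 1) ≫ α.hom
  let b := secPow s' (n + 1) ≫ β.hom
  have ha' : CohB1.genLocus _ a = CohB1.genLocus _ s := (genLocus_comp_iso _ α).trans ha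
  have hb' : CohB1.genLocus _ b = CohB1.genLocus _ s' := (genLocus_comp_iso _ β).trans hb
  have hN : (n + 1) * (m + 1) = ((n + 1) * (m + 1) - 1) + 1 := by
    have : 0 < (n + 1) * (m + 1) := Nat.mul_pos (Nat.succ_pos n) (Nat.succ_pos m)
    omega
  let γ := (QCoh.tensorPowTensorIso L L' ((n + 1) * (m + 1))).symm ≪≫
    QCoh.tensorPowEqIso (CohB1.tensorMod L L') hN
  have hab := genLocus_mulSec a b (QCoh.isInvertible_tensorPow hinv _) (QCoh.isInvertible_tensorPow hL' _)
  have hg : CohB1.genLocus _ (mulSec a b ≫ γ.hom) = CohB1.genLocus _ s ⊓ CohB1.genLocus _ s' := by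
    rw [genLocus_comp_iso _ γ, hab, ha', hb']
  refine ⟨(n + 1) * (m + 1) - 1, mulSec a b ≫ γ.hom, ?_, ?_⟩
  · rw [hg]; exact ⟨hxs, hxs'⟩
  · rw [hg, inf_comm]; exact isAffineOpen_genLocus_inf_of_isInvertible hLm' s' haff

theorem isAmple_tensorMod_of_isAmple {L L' : X.Modules} (hL : CohB1.IsAmple L) (hL' : CohB1.IsAmple L') :
    CohB1.IsAmple (CohB1.tensorMod L L') :=
  isAmple_tensorMod hL hL'.1 (fun x => by
    obtain ⟨n, s', hx, -⟩ := hL'.2.2 x
    exact ⟨n, s', hx⟩)

end Groth.Agent.Lib.Ample
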