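import Groth.Agent.Lib.Ample.Helper50_Counit
import Groth.Agent.Lib.Ample.GlobGenSection
import Groth.Agent.Lib.Ample.Tensor
import Groth.Agent.Lib.QCoh.Helper43_PushQcqs
import Groth.Agent.Lib.QCoh.Helper18_GlobGen
import Groth.Agent.Lib.QCoh.Helper50_Pullback

/-!
# AMPLE tools (helper50): an epimorphic counit gives global generation over affine opens of the base

Namespace `Groth.Agent.Lib.Ample.Counit`.

* `isGloballyGenerated_pullback` : pullbacks of globally generated modules are globally generated.
* `isGloballyGenerated_restrict_of_epi_counit` : `f` qcqs, `F` quasi-coherent, `f^* f_* F ⟶ F` epi,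
  `V` affine open of the base: `F|_{f⁻¹ V}` is globally generated.
-/

universe u

open CategoryTheory CategoryTheory.Limits MonoidalCategory Opposite TensorProduct AlgebraicGeometry
  TopologicalSpace

namespace Groth.Agent.Lib.Ample.Counit

open Groth.Agent.Lib.QCoh CohB1 Scheme.Modules Groth.Agent.Lib.Ample

variable {X Y : Scheme.{u}}

/-- pullbacks of globally generated modules are globally generated -/
theorem isGloballyGenerated_pullback (g : X ⟶ Y) {N : Y.Modules}
    (hN : Curv2.IsGloballyGenerated N) :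
    Curv2.IsGloballyGenerated ((Scheme.Modules.pullback g).obj N) := by
  obtain ⟨ι, p, hp⟩ := hN
  let p₀ : freeModule Y ι ⟶ N := p
  have hp₀ : Epi p₀ := hp
  have h1 : Epi ((Scheme.Modules.pullback g).map p₀) := inferInstance
  have h2 : Epi ((pullbackFreeIso g ι).inv ≫ (Scheme.Modules.pullback g).map p₀) := epi_comp _ _
  exact ⟨ι, (pullbackFreeIso g ι).inv ≫ (Scheme.Modules.pullback g).map p₀, h2⟩

/-- **an epimorphic counit gives global generation over affine opens of the base** -/
theorem isGloballyGenerated_restrict_of_epi_counit (f : X ⟶ Y) [QuasiCompact f] [QuasiSeparated f]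
    (F : X.Modules) [F.IsQuasicoherent]
    (hε : Epi ((pullbackPushforwardAdjunction f).counit.app F)) (V : Y.Opens)
    (hV : IsAffineOpen V) :
    Curv2.IsGloballyGenerated (F.restrict (f ⁻¹ᵁ V).ι) := by
  have hNq : ((pushforward f).obj F).IsQuasicoherent := isQuasicoherent_pushforward_of_qcqs f F
  have hNVq : (((pushforward f).obj F).restrict V.ι).IsQuasicoherent :=
    isQuasicoherent_restrict V.ι _
  have hVaff : IsAffine (V : Scheme.{u}) := hV
  have hgg : Curv2.IsGloballyGenerated (((pushforward f).obj F).restrict V.ι) :=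
    isGloballyGenerated_of_isQuasiAffine _
  have hgg2 := isGloballyGenerated_pullback (f.resLE V (f ⁻¹ᵁ V) le_rfl) hgg
  have hgg3 : Curv2.IsGloballyGenerated
      (((Scheme.Modules.pullback f).obj ((pushforward f).obj F)).restrict (f ⁻¹ᵁ V).ι) :=
    isGloballyGenerated_of_iso_h50
      (pullbackRestrictIso f ((pushforward f).obj F) V (f ⁻¹ᵁ V) le_rfl).symm hgg2
  have hepi : Epi ((restrictFunctor (f ⁻¹ᵁ V).ι).map
      ((pullbackPushforwardAdjunction f).counit.app F)) := inferInstance
  obtain ⟨ι, q, hq⟩ := hgg3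
  let q₀ : freeModule (f ⁻¹ᵁ V : Scheme.{u}) ι ⟶
    ((Scheme.Modules.pullback f).obj ((pushforward f).obj F)).restrict (f ⁻¹ᵁ V).ι := q
  have hq₀ : Epi q₀ := hq
  have h2 : Epi (q₀ ≫ (restrictFunctor (f ⁻¹ᵁ V).ι).map
      ((pullbackPushforwardAdjunction f).counit.app F)) := epi_comp _ _
  exact ⟨ι, q₀ ≫ (restrictFunctor (f ⁻¹ᵁ V).ι).map
      ((pullbackPushforwardAdjunction f).counit.app F), h2⟩

end Groth.Agent.Lib.Ample.Counit
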