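import Groth.Agent.Lib.Ample.Helper50_LocMul

/-!
# AMPLE (B), abstract extension lemma (helper50)

Namespace `Groth.Agent.Lib.Ample`.

A sequence `Φ : ℕ ⥤ X.Modules` of quasi-coherent modules, an open `Xs`, and a basis of affine opens
`U` with functions `f` such that `Xs ⊓ U = D(f)` and each transition map is "multiplication by `f`"
over `U` (`IsLocMul`).  Then
* `exists_map_app_eq_zero` (B1): a section over a quasi-compact open `A` vanishing on `A ⊓ Xs` dies
  in some `Φ.obj n`;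
* `exists_extension` (B2): a section over `A ⊓ Xs`, `A` qcqs, extends to `A` in some `Φ.obj n`.
-/

universe u

open CategoryTheory Opposite AlgebraicGeometry TopologicalSpace

namespace Groth.Agent.Lib.Ample

open Groth.Agent.Lib.QCoh Groth.Agent.Lib.Helper22 Scheme.Modules

variable {X : Scheme.{u}}

/-- local triviality of the sequence `Φ` (with respect to `Xs`) over the affine open `U` -/
def TrivAt (Φ : ℕ ⥤ X.Modules) (Xs U : X.Opens) : Prop :=
  IsAffineOpen U ∧ ∃ f : Γ(X, U), Xs ⊓ U = X.basicOpen f ∧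
    ∀ n : ℕ, IsLocMul (Φ.map (homOfLE (Nat.le_succ n))) U f

/-- the trivializing opens form a basis -/
def HasTrivBasis (Φ : ℕ ⥤ X.Modules) (Xs : X.Opens) : Prop :=
  ∀ (x : X) (W : X.Opens), x ∈ W → ∃ U : X.Opens, x ∈ U ∧ U ≤ W ∧ TrivAt Φ Xs U

variable (Φ : ℕ ⥤ X.Modules) (Xs : X.Opens)

/-- **(B1)** a section over a quasi-compact open vanishing on `A ⊓ Xs` dies in some `Φ.obj n`. -/
theorem exists_map_app_eq_zero (hΦ : HasTrivBasis Φ Xs) (hq : ∀ n, (Φ.obj n).IsQuasicoherent)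
    {A : X.Opens} (hA : IsCompact (A : Set X)) (m : ℕ) (t : Γ(Φ.obj m, A))
    (ht : (Φ.obj m).presheaf.map (homOfLE (inf_le_left : A ⊓ Xs ≤ A)).op t = 0) :
    ∃ (n : ℕ) (h : m ≤ n), ∀ (n' : ℕ) (h' : n ≤ n'),
      (Φ.map (homOfLE (h.trans h'))).app A t = 0 := by
  classical
  obtain ⟨S, hS, hcov⟩ := exists_finite_cover_of_isCompact hA (TrivAt Φ Xs)
    (fun x hx => hΦ x A hx)
  have key : ∀ U : S, ∃ k : ℕ, ∀ (n : ℕ) (h : m ≤ n), k ≤ n - m →
      (Φ.obj n).presheaf.map (homOfLE (hS U.1 U.2).1).op ((Φ.map (homOfLE h)).app A t) = 0 := by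
    intro U
    obtain ⟨hUA, hUaff, f, hf, hloc⟩ := hS U.1 U.2
    have : (Φ.obj m).IsQuasicoherent := hq m
    have hle : X.basicOpen f ≤ A ⊓ Xs := by
      rw [← hf]
      exact le_inf (inf_le_right.trans hUA) inf_le_left
    have h0 : (Φ.obj m).presheaf.map (homOfLE (X.basicOpen_le f)).op
        ((Φ.obj m).presheaf.map (homOfLE hUA).op t) = 0 := by
      rw [map_map_apply _ _ _ (homOfLE (hle.trans inf_le_left)) t,
        ← map_map_apply _ (homOfLE hle) (homOfLE inf_le_left) _ t, ht, map_zero]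
    obtain ⟨k, hk⟩ := exists_pow_smul_eq_zero_of_isAffineOpen (Φ.obj m) hUaff f _ h0
    refine ⟨k, fun n h hkn => ?_⟩
    have hl := isLocMul_map Φ U.1 f hloc m n h
    rw [← app_naturality_apply]
    apply hl.app_eq_zero
    have e1 : n - m = (n - m - k) + k := (Nat.sub_add_cancel hkn).symm
    rw [e1, pow_add, mul_smul, hk, smul_zero]
  choose k hk using key
  refine ⟨m + Finset.univ.sup k, Nat.le_add_right _ _, ?_⟩
  intro n' h'
  refine sections_ext_of_cover (Φ.obj n') (fun U : S => (U : X.Opens)) A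
    (fun U => (hS U.1 U.2).1) hcov _ _ ?_
  intro U
  rw [map_zero]
  apply hk U n' _
  have h1 : k U ≤ Finset.univ.sup k := Finset.le_sup (Finset.mem_univ U)
  omega

lemma map_app_map_app {a b c : ℕ} (h₁ : a ≤ b) (h₂ : b ≤ c) (W : X.Opens)
    (x : Γ(Φ.obj a, W)) :
    (Φ.map (homOfLE h₂)).app W ((Φ.map (homOfLE h₁)).app W x) =
      (Φ.map (homOfLE (h₁.trans h₂))).app W x := by
  have : Φ.map (homOfLE (h₁.trans h₂)) = Φ.map (homOfLE h₁) ≫ Φ.map (homOfLE h₂) := by
    rw [← Φ.map_comp]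
    rfl
  rw [this]
  rfl

/-- **(B2)** a section over `A ⊓ Xs`, `A` quasi-compact quasi-separated, extends to `A` in some
`Φ.obj n`. -/
theorem exists_extension (hΦ : HasTrivBasis Φ Xs) (hq : ∀ n, (Φ.obj n).IsQuasicoherent)
    {A : X.Opens} (hA : IsCompact (A : Set X)) (hA' : IsQuasiSeparated (A : Set X)) (m : ℕ)
    (t' : Γ(Φ.obj m, A ⊓ Xs)) :
    ∃ (n : ℕ) (h : m ≤ n) (t'' : Γ(Φ.obj n, A)),
      (Φ.obj n).presheaf.map (homOfLE (inf_le_left : A ⊓ Xs ≤ A)).op t'' =
        (Φ.map (homOfLE h)).app (A ⊓ Xs) t' := by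
  classical
  obtain ⟨S, hS, hcov⟩ := exists_finite_cover_of_isCompact hA (TrivAt Φ Xs)
    (fun x hx => hΦ x A hx)
  have hUA : ∀ U : S, (U : X.Opens) ≤ A := fun U => (hS U.1 U.2).1
  have hUaff : ∀ U : S, IsAffineOpen (U : X.Opens) := fun U => (hS U.1 U.2).2.1
  choose f hf hloc using fun U : S => (hS U.1 U.2).2.2
  have hD : ∀ U : S, X.basicOpen (f U) ≤ A ⊓ Xs := fun U => by
    rw [← hf U]
    exact le_inf (inf_le_right.trans (hUA U)) inf_le_left
  have : (Φ.obj m).IsQuasicoherent := hq m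
  -- local extensions after multiplying by a power of `f`
  have h2 := fun U : S => exists_pow_smul_eq_map_of_isAffineOpen (Φ.obj m) (hUaff U) (f U)
    ((Φ.obj m).presheaf.map (homOfLE (hD U)).op t')
  choose k y hy using h2
  obtain ⟨K, hK⟩ : ∃ K : ℕ, K = Finset.univ.sup k := ⟨_, rfl⟩
  have hkK : ∀ U : S, k U ≤ K := fun U => hK ▸ Finset.le_sup (Finset.mem_univ U)
  have hy' : ∀ U : S, (Φ.obj m).presheaf.map (homOfLE (X.basicOpen_le (f U))).op
      (f U ^ (K - k U) • y U) =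
      X.presheaf.map (homOfLE (X.basicOpen_le (f U))).op (f U ^ K) •
        (Φ.obj m).presheaf.map (homOfLE (hD U)).op t' := by
    intro U
    rw [Scheme.Modules.map_smul, hy U, map_pow, map_pow, ← mul_smul, ← pow_add,
      Nat.sub_add_cancel (hkK U)]
  -- divide by `f ^ K` in `Φ.obj (m + K)`
  have hl' : ∀ U : S, IsLocMul (Φ.map (homOfLE (Nat.le_add_right m K))) U.1 (f U ^ K) :=
    fun U => (isLocMul_map Φ U.1 (f U) (hloc U) m (m + K) (Nat.le_add_right m K)).of_eq rfl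
      (by rw [Nat.add_sub_cancel_left])
  choose u hu using fun U : S => (hl' U).exists_section (f U ^ (K - k U) • y U)
  have hu' : ∀ U : S, (Φ.obj (m + K)).presheaf.map (homOfLE (X.basicOpen_le (f U))).op (u U) =
      (Φ.map (homOfLE (Nat.le_add_right m K))).app (X.basicOpen (f U))
        ((Φ.obj m).presheaf.map (homOfLE (hD U)).op t') :=
    fun U => hu U _ (X.basicOpen_le (f U)) _ (hy' U)
  -- the differences on overlaps die later in the sequence
  have h5 : ∀ U V : S, ∃ (n : ℕ) (h : m + K ≤ n), ∀ (n' : ℕ) (h' : n ≤ n'),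
      (Φ.map (homOfLE (h.trans h'))).app (U.1 ⊓ V.1)
        ((Φ.obj (m + K)).presheaf.map (homOfLE (inf_le_left : U.1 ⊓ V.1 ≤ U.1)).op (u U) -
          (Φ.obj (m + K)).presheaf.map (homOfLE (inf_le_right : U.1 ⊓ V.1 ≤ V.1)).op (u V)) = 0 := by
    intro U V
    refine exists_map_app_eq_zero Φ Xs hΦ hq (A := U.1 ⊓ V.1) ?_ (m + K) _ ?_
    · exact hA' U.1 V.1 (fun x hx => hUA U hx) U.1.isOpen (hUaff U).isCompact
        (fun x hx => hUA V hx) V.1.isOpen (hUaff V).isCompact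
    · rw [map_sub, sub_eq_zero]
      have hW1 : U.1 ⊓ V.1 ⊓ Xs ≤ X.basicOpen (f U) := by
        rw [← hf U]
        exact le_inf inf_le_right (inf_le_left.trans inf_le_left)
      have hW2 : U.1 ⊓ V.1 ⊓ Xs ≤ X.basicOpen (f V) := by
        rw [← hf V]
        exact le_inf inf_le_right (inf_le_left.trans inf_le_right)
      have hW : U.1 ⊓ V.1 ⊓ Xs ≤ A ⊓ Xs := hW1.trans (hD U)
      have e1 : (Φ.obj (m + K)).presheaf.map
          (homOfLE (inf_le_left : U.1 ⊓ V.1 ⊓ Xs ≤ U.1 ⊓ V.1)).op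
          ((Φ.obj (m + K)).presheaf.map (homOfLE (inf_le_left : U.1 ⊓ V.1 ≤ U.1)).op (u U)) =
          (Φ.map (homOfLE (Nat.le_add_right m K))).app (U.1 ⊓ V.1 ⊓ Xs)
            ((Φ.obj m).presheaf.map (homOfLE hW).op t') := by
        rw [map_map_apply _ _ _ (homOfLE (hW1.trans (X.basicOpen_le (f U)))) (u U),
          ← map_map_apply _ (homOfLE hW1) (homOfLE (X.basicOpen_le (f U))) _ (u U), hu' U,
          ← app_naturality_apply, map_map_apply _ _ _ (homOfLE hW) t']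
      have e2 : (Φ.obj (m + K)).presheaf.map
          (homOfLE (inf_le_left : U.1 ⊓ V.1 ⊓ Xs ≤ U.1 ⊓ V.1)).op
          ((Φ.obj (m + K)).presheaf.map (homOfLE (inf_le_right : U.1 ⊓ V.1 ≤ V.1)).op (u V)) =
          (Φ.map (homOfLE (Nat.le_add_right m K))).app (U.1 ⊓ V.1 ⊓ Xs)
            ((Φ.obj m).presheaf.map (homOfLE hW).op t') := by
        rw [map_map_apply _ _ _ (homOfLE (hW2.trans (X.basicOpen_le (f V)))) (u V),
          ← map_map_apply _ (homOfLE hW2) (homOfLE (X.basicOpen_le (f V))) _ (u V), hu' V,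
          ← app_naturality_apply, map_map_apply _ _ _ (homOfLE hW) t']
      rw [e1, e2]
  choose nn hnn hnn' using h5
  obtain ⟨N, hN⟩ : ∃ N : ℕ, N = (m + K) ⊔ Finset.univ.sup (fun p : S × S => nn p.1 p.2) :=
    ⟨_, rfl⟩
  have hmN : m + K ≤ N := hN ▸ le_sup_left
  have hnN : ∀ U V : S, nn U V ≤ N := fun U V => by
    have : nn U V ≤ Finset.univ.sup (fun p : S × S => nn p.1 p.2) :=
      Finset.le_sup (f := fun p : S × S => nn p.1 p.2) (Finset.mem_univ (U, V))
    exact hN ▸ this.trans le_sup_right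
  -- glue
  have hcompat : ∀ U V : S,
      (Φ.obj N).presheaf.map (homOfLE (inf_le_left : U.1 ⊓ V.1 ≤ U.1)).op
        ((Φ.map (homOfLE hmN)).app U.1 (u U)) =
      (Φ.obj N).presheaf.map (homOfLE (inf_le_right : U.1 ⊓ V.1 ≤ V.1)).op
        ((Φ.map (homOfLE hmN)).app V.1 (u V)) := by
    intro U V
    rw [← app_naturality_apply, ← app_naturality_apply, ← sub_eq_zero, ← map_sub]
    exact hnn' U V N (hnN U V)
  obtain ⟨t'', ht''⟩ := exists_gluing_of_cover (Φ.obj N) (fun U : S => (U : X.Opens)) A hUA hcov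
    (fun U => (Φ.map (homOfLE hmN)).app U.1 (u U)) hcompat
  refine ⟨N, (Nat.le_add_right m K).trans hmN, t'', ?_⟩
  -- check on the cover of `A ⊓ Xs` by the `D(f U)`
  refine sections_ext_of_cover (Φ.obj N) (fun U : S => X.basicOpen (f U)) (A ⊓ Xs) hD ?_ _ _ ?_
  · intro x hx
    obtain ⟨U, hxU⟩ := Opens.mem_iSup.1 (hcov hx.1)
    refine Opens.mem_iSup.2 ⟨U, ?_⟩
    rw [← hf U]
    exact ⟨hx.2, hxU⟩
  · intro U
    rw [map_map_apply _ _ _ (homOfLE ((X.basicOpen_le (f U)).trans (hUA U))) t'',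
      ← map_map_apply _ (homOfLE (X.basicOpen_le (f U))) (homOfLE (hUA U)) _ t'', ht'' U,
      ← app_naturality_apply, hu' U, map_app_map_app, ← app_naturality_apply]

end Groth.Agent.Lib.Ample
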