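import Groth.Agent.Lib.Ample.Helper50_LocalGen
import Groth.Agent.Lib.Ample.Helper50_ExtAbstract
import Groth.Agent.Lib.QCoh.Invertible
import Mathlib.CategoryTheory.Functor.OfSequence

/-!
# AMPLE (B): the extension lemma (EGA I 9.3.1 for modules) (helper50)

Namespace `Groth.Agent.Lib.Ample`.

`L` invertible, `s : O_X ⟶ L`, `F` quasi-coherent, `X_s = genLocus L s`.
* `twistIter F L n` : `F ⊗ L ⊗ ⋯ ⊗ L` (`n` factors `L`, bracketed to the left),
  `twistSeq F s : ℕ ⥤ X.Modules` with transition maps `twistHom _ s` (`x ↦ x ⊗ s`),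
  `sigmaHom F s n : F ⟶ twistIter F L n` (`x ↦ x ⊗ s ⊗ ⋯ ⊗ s`).
* `exists_sigmaHom_app_eq_zero` **(B1)** : `A` quasi-compact open, `t ∈ Γ(F, A)` with
  `t|A ⊓ X_s = 0` ⟹ `σ_n t = 0` for `n ≫ 0`.
* `exists_extension_sigmaHom` **(B2)** : `A` qcqs open, `t' ∈ Γ(F, A ⊓ X_s)` ⟹ for some `n`,
  `σ_n t'` extends to a section of `twistIter F L n` over `A`.
-/

universe u

open CategoryTheory MonoidalCategory Opposite TensorProduct AlgebraicGeometry TopologicalSpace

namespace Groth.Agent.Lib.Ample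

open Groth.Agent.Lib.QCoh CohB1 Scheme.Modules

variable {X : Scheme.{u}}

section LocalForm

variable (G : X.Modules) {L : X.Modules} (s : Coh.structureModule X ⟶ L)

lemma tmulSect_zero_left {V : X.Opens} (l : Γ(L, V)) : tmulSect G L (0 : Γ(G, V)) l = 0 := by
  have h := tmulSect_smul_left (F := G) (0 : Γ(X, V)) (0 : Γ(G, V)) l
  rw [zero_smul, zero_smul] at h
  exact h

/-- local form of `twistHom`: if `s|U = f • e` then `x ⊗ s = (f x) ⊗ e` over `V ≤ U`. -/
lemma twistHom_app_of_eq_smul {U : X.Opens} (e : Γ(L, U)) (f : Γ(X, U))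
    (hs : secOn s U = f • e) {V : X.Opens} (h : V ≤ U) (x : Γ(G, V)) :
    (twistHom G s).app V x = tmulSect G L (X.presheaf.map (homOfLE h).op f • x)
      (L.presheaf.map (homOfLE h).op e) := by
  rw [twistHom_app, ← secOn_res s (homOfLE h), hs, Scheme.Modules.map_smul, tmulSect_smul_right,
    tmulSect_smul_left]

/-- `twistHom G s` is locally multiplication by `f`, where `s|U = f • e`, `e` a generator. -/
theorem isLocMul_twistHom {U : X.Opens} {e : Γ(L, U)} (f : Γ(X, U))
    (hs : secOn s U = f • e) : IsLocMul (twistHom G s) U f := by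
  constructor
  · intro V h x hx
    rw [twistHom_app_of_eq_smul G s e f hs h, hx, tmulSect_zero_left]
  · intro V h y
    refine ⟨tmulSect G L y (L.presheaf.map (homOfLE h).op e), ?_⟩
    intro W hW z hz
    rw [tmulSect_res, hz, map_map_apply L _ _ (homOfLE (hW.trans h)) e,
      twistHom_app_of_eq_smul G s e f hs (hW.trans h)]

end LocalForm

section Seq

variable (F L : X.Modules)

/-- `F ⊗ L ⊗ ⋯ ⊗ L` (`n` factors `L`, bracketed to the left). -/
noncomputable def twistIter : ℕ → X.Modules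
  | 0 => F
  | n + 1 => tensorMod (twistIter n) L

@[simp] lemma twistIter_zero : twistIter F L 0 = F := rfl

@[simp] lemma twistIter_succ (n : ℕ) :
    twistIter F L (n + 1) = tensorMod (twistIter F L n) L := rfl

variable {L}

/-- the sequence `F ⟶ F ⊗ L ⟶ F ⊗ L ⊗ L ⟶ ⋯` of multiplications by `s`. -/
noncomputable def twistSeq (s : Coh.structureModule X ⟶ L) : ℕ ⥤ X.Modules :=
  Functor.ofSequence (X := twistIter F L) (fun n => twistHom (twistIter F L n) s)

@[simp] lemma twistSeq_obj (s : Coh.structureModule X ⟶ L) (n : ℕ) :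
    (twistSeq F s).obj n = twistIter F L n := rfl

lemma twistSeq_map_succ (s : Coh.structureModule X ⟶ L) (n : ℕ) :
    (twistSeq F s).map (homOfLE (Nat.le_succ n)) = twistHom (twistIter F L n) s :=
  Functor.ofSequence_map_homOfLE_succ _ n

/-- multiplication by `s ^ n` : `F ⟶ F ⊗ L ⊗ ⋯ ⊗ L`. -/
noncomputable def sigmaHom (s : Coh.structureModule X ⟶ L) (n : ℕ) : F ⟶ twistIter F L n :=
  (twistSeq F s).map (homOfLE (Nat.zero_le n))

lemma sigmaHom_zero (s : Coh.structureModule X ⟶ L) : sigmaHom F s 0 = 𝟙 F :=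
  (twistSeq F s).map_id 0

lemma sigmaHom_succ (s : Coh.structureModule X ⟶ L) (n : ℕ) :
    sigmaHom F s (n + 1) = sigmaHom F s n ≫ twistHom (twistIter F L n) s := by
  have h1 := (twistSeq F s).map_comp (homOfLE (Nat.zero_le n)) (homOfLE (Nat.le_succ n))
  have h2 := twistSeq_map_succ F s n
  exact h1.trans (congrArg (fun t => (twistSeq F s).map (homOfLE (Nat.zero_le n)) ≫ t) h2)

lemma sigmaHom_comp_map (s : Coh.structureModule X ⟶ L) {m n : ℕ} (h : m ≤ n) :
    sigmaHom F s m ≫ (twistSeq F s).map (homOfLE h) = sigmaHom F s n := by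
  exact ((twistSeq F s).map_comp (homOfLE (Nat.zero_le m)) (homOfLE h)).symm

variable (L) in
/-- the iterated twists of a quasi-coherent module by a quasi-coherent module are quasi-coherent -/
theorem isQuasicoherent_twistIter [F.IsQuasicoherent] [L.IsQuasicoherent] (n : ℕ) :
    (twistIter F L n).IsQuasicoherent := by
  induction n with
  | zero => exact inferInstanceAs F.IsQuasicoherent
  | succ n ih => exact isQuasicoherent_tensorMod _ _

/-- the sequence of twists is locally trivial with respect to `genLocus L s`. -/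
theorem hasTrivBasis_twistSeq (hL : PicF.IsInvertible L) (s : Coh.structureModule X ⟶ L) :
    HasTrivBasis (twistSeq F s) (genLocus L s) := by
  intro x W hxW
  obtain ⟨U, hUaff, hxU, hUW, e, he⟩ := exists_isAffineOpen_isGenerator_of_isInvertible hL x W hxW
  obtain ⟨f, hf⟩ := (he.bijective (le_refl U)).2 (secOn s U)
  have hf' : secOn s U = f • e := by
    have h1 : L.presheaf.map (homOfLE (le_refl U)).op e = e := by
      have h2 : (homOfLE (le_refl U)) = 𝟙 U := rfl
      rw [h2, op_id, L.presheaf.map_id]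
      rfl
    rw [← hf, h1]
  refine ⟨U, hxU, hUW, hUaff, f, ?_, ?_⟩
  · exact genLocus_inf_eq_basicOpen s U e he f hf'
  · intro n
    rw [twistSeq_map_succ]
    exact isLocMul_twistHom _ s f hf'

end Seq

section Main

variable (F : X.Modules) [F.IsQuasicoherent] {L : X.Modules} (hL : PicF.IsInvertible L)
  (s : Coh.structureModule X ⟶ L)

include hL

/-- **(B1) Extension lemma, injectivity part.** `A` a quasi-compact open, `t ∈ Γ(F, A)` vanishing
on `A ⊓ X_s`: then `t ⊗ s^n = 0` in `Γ(F ⊗ L^n, A)` for all `n ≫ 0`. -/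
theorem exists_sigmaHom_app_eq_zero {A : X.Opens} (hA : IsCompact (A : Set X)) (t : Γ(F, A))
    (ht : F.presheaf.map (homOfLE (inf_le_left : A ⊓ genLocus L s ≤ A)).op t = 0) :
    ∃ n₀ : ℕ, ∀ n, n₀ ≤ n → (sigmaHom F s n).app A t = 0 := by
  have hLq : L.IsQuasicoherent := isQuasicoherent_of_isInvertible hL
  obtain ⟨n₀, _, h⟩ := exists_map_app_eq_zero (twistSeq F s) (genLocus L s)
    (hasTrivBasis_twistSeq F hL s) (fun n => isQuasicoherent_twistIter F L n) hA 0 t ht
  exact ⟨n₀, fun n hn => h n hn⟩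

/-- **(B2) Extension lemma, surjectivity part.** `A` a quasi-compact quasi-separated open,
`t' ∈ Γ(F, A ⊓ X_s)`: then for all `n ≫ 0`, `t' ⊗ s^n` extends to a section of `F ⊗ L^n`
over `A`. -/
theorem exists_extension_sigmaHom {A : X.Opens} (hA : IsCompact (A : Set X))
    (hA' : IsQuasiSeparated (A : Set X)) (t' : Γ(F, A ⊓ genLocus L s)) :
    ∃ n₀ : ℕ, ∀ n, n₀ ≤ n → ∃ t'' : Γ(twistIter F L n, A),
      (twistIter F L n).presheaf.map (homOfLE (inf_le_left : A ⊓ genLocus L s ≤ A)).op t'' =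
        (sigmaHom F s n).app (A ⊓ genLocus L s) t' := by
  have hLq : L.IsQuasicoherent := isQuasicoherent_of_isInvertible hL
  obtain ⟨n₀, _, t'', ht''⟩ := exists_extension (twistSeq F s) (genLocus L s)
    (hasTrivBasis_twistSeq F hL s) (fun n => isQuasicoherent_twistIter F L n) hA hA' 0 t'
  refine ⟨n₀, fun n hn => ⟨((twistSeq F s).map (homOfLE hn)).app A t'', ?_⟩⟩
  have h1 := app_naturality_apply ((twistSeq F s).map (homOfLE hn))
    (homOfLE (inf_le_left : A ⊓ genLocus L s ≤ A)) t''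
  refine h1.symm.trans ?_
  have h2 := congrArg (((twistSeq F s).map (homOfLE hn)).app (A ⊓ genLocus L s)) ht''
  refine h2.trans ?_
  exact map_app_map_app (twistSeq F s) (Nat.zero_le n₀) hn _ t'

/-- (B1) for a quasi-compact scheme. -/
theorem exists_sigmaHom_app_top_eq_zero [CompactSpace X] (t : Γ(F, ⊤))
    (ht : F.presheaf.map (homOfLE (le_top : genLocus L s ≤ ⊤)).op t = 0) :
    ∃ n₀ : ℕ, ∀ n, n₀ ≤ n → (sigmaHom F s n).app ⊤ t = 0 := by
  refine exists_sigmaHom_app_eq_zero F hL s (A := ⊤) isCompact_univ t ?_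
  have := map_map_apply F (homOfLE (inf_le_right : ⊤ ⊓ genLocus L s ≤ genLocus L s))
    (homOfLE (le_top : genLocus L s ≤ ⊤)) (homOfLE inf_le_left) t
  rw [← this, ht, map_zero]

/-- (B2) for a quasi-compact quasi-separated scheme. -/
theorem exists_extension_sigmaHom_top [CompactSpace X] [QuasiSeparatedSpace X]
    (t' : Γ(F, genLocus L s)) :
    ∃ n₀ : ℕ, ∀ n, n₀ ≤ n → ∃ t'' : Γ(twistIter F L n, ⊤),
      (twistIter F L n).presheaf.map (homOfLE (le_top : genLocus L s ≤ ⊤)).op t'' =
        (sigmaHom F s n).app (genLocus L s) t' := by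
  have key : ∀ (B : X.Opens) (hB : B = ⊤ ⊓ genLocus L s) (t' : Γ(F, B)),
      ∃ n₀ : ℕ, ∀ n, n₀ ≤ n → ∃ t'' : Γ(twistIter F L n, ⊤),
        (twistIter F L n).presheaf.map (homOfLE (le_top : B ≤ ⊤)).op t'' =
          (sigmaHom F s n).app B t' := by
    rintro _ rfl t'
    exact exists_extension_sigmaHom F hL s (A := ⊤) isCompact_univ isQuasiSeparated_univ t'
  exact key _ (by simp) t'

end Main

end Groth.Agent.Lib.Ample
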