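import Groth.Agent.Lib.Ample.Helper50_TmulSect
import Groth.Agent.Lib.Ample.GenLocus

/-!
# AMPLE (B), part 1 (helper50): local free generators of an invertible module

Namespace `Groth.Agent.Lib.Ample`.

* `IsGenerator L U e` (lead, `GenLocus.lean`): the section `e ∈ Γ(L, U)` generates `L` freely
  over `U` (`a ↦ a • e|V` is bijective `Γ(X, V) → Γ(L, V)` for all `V ≤ U`).
* `bijective_tmulSect_of_isGenerator` : for such `e` and `V ≤ U`, `x ↦ x ⊗ e|V` is a bijection
  `Γ(F, V) → Γ(tensorMod F L, V)`.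
-/

universe u

open CategoryTheory MonoidalCategory Opposite TensorProduct AlgebraicGeometry TopologicalSpace

namespace Groth.Agent.Lib.Ample

open Groth.Agent.Lib.QCoh CohB1

section Alg

variable {R M N : Type*} [CommRing R] [AddCommGroup M] [Module R M] [AddCommGroup N] [Module R N]

/-- If `N` is free of rank one on `e` then `x ↦ x ⊗ e` is a bijection `M → M ⊗ N`. -/
lemma bijective_tmul_of_bijective_smul (e : N) (he : Function.Bijective (fun a : R => a • e)) :
    Function.Bijective (fun x : M => x ⊗ₜ[R] e) := by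
  let φ : R ≃ₗ[R] N := LinearEquiv.ofBijective (LinearMap.toSpanSingleton R N e) he
  let ψ : M ≃ₗ[R] M ⊗[R] N := (TensorProduct.rid R M).symm ≪≫ₗ (LinearEquiv.lTensor M φ)
  have h : (fun x : M => x ⊗ₜ[R] e) = ψ := by
    funext x
    simp [ψ, φ]
  rw [h]
  exact ψ.bijective

end Alg

variable {X : Scheme.{u}}

/-- `IsGenerator` in coercion form -/
lemma IsGenerator.bijective {L : X.Modules} {U : X.Opens} {e : Γ(L, U)} (he : IsGenerator L U e)
    {V : X.Opens} (h : V ≤ U) :
    Function.Bijective (fun a : Γ(X, V) => a • L.presheaf.map (homOfLE h).op e) := he V h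

lemma isGenerator_iff {L : X.Modules} {U : X.Opens} {e : Γ(L, U)} :
    IsGenerator L U e ↔ ∀ (V : X.Opens) (h : V ≤ U),
      Function.Bijective (fun a : Γ(X, V) => a • L.presheaf.map (homOfLE h).op e) := Iff.rfl

lemma IsGenerator.res {L : X.Modules} {U : X.Opens} {e : Γ(L, U)} (he : IsGenerator L U e)
    {U' : X.Opens} (h : U' ≤ U) : IsGenerator L U' (L.presheaf.map (homOfLE h).op e) := by
  rw [isGenerator_iff]
  intro V hV
  have := he.bijective (hV.trans h)
  have e1 : L.presheaf.map (homOfLE hV).op (L.presheaf.map (homOfLE h).op e) =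
      L.presheaf.map (homOfLE (hV.trans h)).op e := map_map_apply L _ _ _ e
  rw [e1]
  exact this

variable (F : X.Modules) {L : X.Modules}

/-- presheaf level: `x ↦ x ⊗ e` is bijective. -/
lemma bijective_pre_tmul {V : X.Opens} (e : Γ(L, V))
    (he : Function.Bijective (fun a : Γ(X, V) => a • e)) :
    Function.Bijective (fun x : ((incl X).obj F).obj (op V) =>
      (x ⊗ₜ[Γ(X, V)] (show (((incl X).obj L).obj (op V) : Type u) from e) :
        (preTensor F L).obj (op V))) :=
  bijective_tmul_of_bijective_smul (R := Γ(X, V)) (M := ((incl X).obj F).obj (op V))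
    (N := ((incl X).obj L).obj (op V)) e he

variable {F}

/-- injectivity of `x ↦ x ⊗ e|V` -/
lemma tmulSect_injective_of_isGenerator {U : X.Opens} {e : Γ(L, U)} (he : IsGenerator L U e)
    {V : X.Opens} (hV : V ≤ U) (x x' : Γ(F, V))
    (h : tmulSect F L x (L.presheaf.map (homOfLE hV).op e) =
      tmulSect F L x' (L.presheaf.map (homOfLE hV).op e)) : x = x' := by
  -- locally equal
  have key : ∀ p : V, ∃ (W : X.Opens) (hW : W ≤ V), p.1 ∈ W ∧
      F.presheaf.map (homOfLE hW).op x = F.presheaf.map (homOfLE hW).op x' := by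
    intro p
    obtain ⟨W, hW, hpW, hy⟩ := exists_nbhd_eq_of_WX (tensorUnit F L) (WX_tensorUnit F L)
      ((show (((incl X).obj F).obj (op V) : Type u) from x) ⊗ₜ[Γ(X, V)]
        (show (((incl X).obj L).obj (op V) : Type u) from L.presheaf.map (homOfLE hV).op e))
      ((show (((incl X).obj F).obj (op V) : Type u) from x') ⊗ₜ[Γ(X, V)]
        (show (((incl X).obj L).obj (op V) : Type u) from L.presheaf.map (homOfLE hV).op e))
      h p.1 p.2
    refine ⟨W, hW, hpW, ?_⟩
    have hb := bijective_pre_tmul F (L := L) (V := W)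
      (L.presheaf.map (homOfLE hW).op (L.presheaf.map (homOfLE hV).op e))
      (by
        have := he.bijective (hW.trans hV)
        have e1 : L.presheaf.map (homOfLE hW).op (L.presheaf.map (homOfLE hV).op e) =
          L.presheaf.map (homOfLE (hW.trans hV)).op e := map_map_apply L _ _ _ e
        rw [e1]
        exact this)
    exact hb.1 hy
  choose W hW hpW hx using key
  refine sections_ext_of_cover F W V hW ?_ x x' hx
  intro p hp
  exact Opens.mem_iSup.2 ⟨⟨p, hp⟩, hpW ⟨p, hp⟩⟩

/-- surjectivity of `x ↦ x ⊗ e|V` -/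
lemma tmulSect_surjective_of_isGenerator {U : X.Opens} {e : Γ(L, U)} (he : IsGenerator L U e)
    {V : X.Opens} (hV : V ≤ U) (z : Γ(tensorMod F L, V)) :
    ∃ x : Γ(F, V), tmulSect F L x (L.presheaf.map (homOfLE hV).op e) = z := by
  -- local preimages
  have key : ∀ p : V, ∃ (W : X.Opens) (hW : W ≤ V), p.1 ∈ W ∧ ∃ x : Γ(F, W),
      tmulSect F L x (L.presheaf.map (homOfLE (hW.trans hV)).op e) =
        (tensorMod F L).presheaf.map (homOfLE hW).op z := by
    intro p
    obtain ⟨W, hW, hpW, y, hy⟩ := exists_nbhd_preimage_of_WX (tensorUnit F L)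
      (WX_tensorUnit F L) (V := V) z p.1 p.2
    refine ⟨W, hW, hpW, ?_⟩
    have hb := bijective_pre_tmul F (L := L) (V := W)
      (L.presheaf.map (homOfLE (hW.trans hV)).op e) (he.bijective (hW.trans hV))
    obtain ⟨x, rfl⟩ := hb.2 y
    exact ⟨x, hy⟩
  choose W hW hpW x hx using key
  have hcov : V ≤ iSup W := by
    intro p hp
    exact Opens.mem_iSup.2 ⟨⟨p, hp⟩, hpW ⟨p, hp⟩⟩
  -- the local preimages agree on overlaps
  have hcompat : ∀ p q : V,
      F.presheaf.map (homOfLE (inf_le_left : W p ⊓ W q ≤ W p)).op (x p) =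
        F.presheaf.map (homOfLE (inf_le_right : W p ⊓ W q ≤ W q)).op (x q) := by
    intro p q
    have hle : W p ⊓ W q ≤ U := inf_le_left.trans ((hW p).trans hV)
    apply tmulSect_injective_of_isGenerator he hle
    have h1 := congrArg ((tensorMod F L).presheaf.map
      (homOfLE (inf_le_left : W p ⊓ W q ≤ W p)).op) (hx p)
    have h2 := congrArg ((tensorMod F L).presheaf.map
      (homOfLE (inf_le_right : W p ⊓ W q ≤ W q)).op) (hx q)
    have hleV : W p ⊓ W q ≤ V := inf_le_left.trans (hW p)
    rw [tmulSect_res, map_map_apply L _ _ (homOfLE hle) e,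
      map_map_apply (tensorMod F L) _ _ (homOfLE hleV) z] at h1 h2
    exact h1.trans h2.symm
  obtain ⟨x₀, hx₀⟩ := exists_gluing_of_cover F W V hW hcov x hcompat
  refine ⟨x₀, ?_⟩
  refine sections_ext_of_cover (tensorMod F L) W V hW hcov _ _ ?_
  intro p
  rw [tmulSect_res, hx₀ p, map_map_apply L _ _ (homOfLE ((hW p).trans hV)) e]
  exact hx p

/-- **`x ↦ x ⊗ e|V` is a bijection `Γ(F, V) → Γ(F ⊗ L, V)`** for a free generator `e` of `L`
over `U ≥ V`. -/
theorem bijective_tmulSect_of_isGenerator {U : X.Opens} {e : Γ(L, U)} (he : IsGenerator L U e)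
    {V : X.Opens} (hV : V ≤ U) :
    Function.Bijective (fun x : Γ(F, V) => tmulSect F L x (L.presheaf.map (homOfLE hV).op e)) :=
  ⟨fun x x' h => tmulSect_injective_of_isGenerator he hV x x' h,
    fun z => tmulSect_surjective_of_isGenerator he hV z⟩

end Groth.Agent.Lib.Ample
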