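import Groth.Agent.Lib.Ample.Helper50_TwistIso
import Groth.Agent.Lib.QCoh.Helper50_AffineDict
import Groth.Prelude.Def_Curv2

/-!
# AMPLE (C) tools (helper50): generation by global sections over an open

Namespace `Groth.Agent.Lib.Ample`.

* `GenOn G W` : restrictions of global sections span `Γ(G, W)` over `Γ(X, W)`.
* `GenOn.of_iso`, `GenOn.basicOpen`, `surjective_canonicalFreeHom_app_of_genOn`,
  `isGloballyGenerated_of_genOn` (a cover by affine opens `W i` with `GenOn G (W i)`).
* `exists_genOn_twistIter` : by the extension lemma, `G ⊗ M^k` is generated by global sections over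
  the affine `X_s` for `k ≫ 0`.
-/

universe u

open CategoryTheory MonoidalCategory Opposite TensorProduct AlgebraicGeometry TopologicalSpace

namespace Groth.Agent.Lib.Ample

open Groth.Agent.Lib.QCoh CohB1 Scheme.Modules Groth.Agent.Lib.Helper22

variable {X : Scheme.{u}}

/-- restriction of global sections to `W`, as a function -/
noncomputable abbrev resTop (G : X.Modules) (W : X.Opens) (t : Γ(G, ⊤)) : Γ(G, W) :=
  G.presheaf.map (homOfLE (le_top : W ≤ ⊤)).op t

/-- `G` is generated over `W` by its global sections. -/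
def GenOn (G : X.Modules) (W : X.Opens) : Prop :=
  Submodule.span Γ(X, W) (Set.range (resTop G W)) = ⊤

lemma genOn_iff {G : X.Modules} {W : X.Opens} :
    GenOn G W ↔ ∀ y : Γ(G, W), y ∈ Submodule.span Γ(X, W) (Set.range (resTop G W)) := by
  unfold GenOn
  rw [eq_top_iff]
  constructor
  · intro h y
    exact h trivial
  · intro h y _
    exact h y

/-- a linear-on-sections morphism maps the span of restricted global sections into the same -/
lemma app_mem_span {G G' : X.Modules} (θ : G ⟶ G') (W : X.Opens) (y : Γ(G, W))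
    (hy : y ∈ Submodule.span Γ(X, W) (Set.range (resTop G W))) :
    θ.app W y ∈ Submodule.span Γ(X, W) (Set.range (resTop G' W)) := by
  induction hy using Submodule.span_induction with
  | mem y hy =>
    obtain ⟨t, rfl⟩ := hy
    refine Submodule.subset_span ⟨θ.app ⊤ t, ?_⟩
    exact (app_naturality_apply θ (homOfLE (le_top : W ≤ ⊤)) t).symm
  | zero => rw [map_zero]; exact Submodule.zero_mem _
  | add x y _ _ hx hy => rw [map_add]; exact Submodule.add_mem _ hx hy
  | smul a x _ hx => rw [Hom.app_smul]; exact Submodule.smul_mem _ a hx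

lemma GenOn.of_iso {G G' : X.Modules} (θ : G ≅ G') {W : X.Opens} (h : GenOn G W) :
    GenOn G' W := by
  rw [genOn_iff] at h ⊢
  intro y
  have h1 := app_mem_span θ.hom W (θ.inv.app W y) (h _)
  have h2 : θ.hom.app W (θ.inv.app W y) = y := by
    have : (θ.inv ≫ θ.hom).app W y = y := by rw [θ.inv_hom_id]; rfl
    exact this
  rw [h2] at h1
  exact h1

/-- the canonical map from the free module on global sections is surjective on sections over `W`
if `G` is generated over `W` by global sections -/
lemma surjective_canonicalFreeHom_app_of_genOn {G : X.Modules} {W : X.Opens} (h : GenOn G W) :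
    Function.Surjective ((canonicalFreeHom G).app W) := by
  rw [genOn_iff] at h
  intro y
  have hy := h y
  induction hy using Submodule.span_induction with
  | mem y hy =>
    obtain ⟨t, rfl⟩ := hy
    obtain ⟨z, hz⟩ := canonicalFreeHom_app_top_surjective G t
    refine ⟨(freeModule X Γ(G, ⊤)).presheaf.map (homOfLE (le_top : W ≤ ⊤)).op z, ?_⟩
    rw [app_naturality_apply, hz]
  | zero => exact ⟨0, map_zero _⟩
  | add x y _ _ hx hy =>
    obtain ⟨a, rfl⟩ := hx
    obtain ⟨b, rfl⟩ := hy
    exact ⟨a + b, map_add _ _ _⟩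
  | smul r x _ hx =>
    obtain ⟨a, rfl⟩ := hx
    exact ⟨r • a, Hom.app_smul _ _ _⟩

/-- restrictions of elements of the span stay in the span -/
lemma res_mem_span {G : X.Modules} {W V : X.Opens} (hVW : V ≤ W) (y : Γ(G, W))
    (hy : y ∈ Submodule.span Γ(X, W) (Set.range (resTop G W))) :
    G.presheaf.map (homOfLE hVW).op y ∈ Submodule.span Γ(X, V) (Set.range (resTop G V)) := by
  induction hy using Submodule.span_induction with
  | mem y hy =>
    obtain ⟨t, rfl⟩ := hy
    refine Submodule.subset_span ⟨t, ?_⟩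
    exact (map_map_apply G _ _ _ t).symm
  | zero => rw [map_zero]; exact Submodule.zero_mem _
  | add x y _ _ hx hy => rw [map_add]; exact Submodule.add_mem _ hx hy
  | smul a x _ hx => rw [Scheme.Modules.map_smul]; exact Submodule.smul_mem _ _ hx

/-- generation by global sections passes to basic opens of an affine open (`G` quasi-coherent) -/
theorem GenOn.basicOpen {G : X.Modules} [G.IsQuasicoherent] {W : X.Opens} (hW : IsAffineOpen W)
    (h : GenOn G W) (g : Γ(X, W)) : GenOn G (X.basicOpen g) := by
  rw [genOn_iff] at h ⊢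
  intro y
  obtain ⟨n, x, hx⟩ := exists_pow_smul_eq_map_of_isAffineOpen G hW g y
  have hu : IsUnit (X.presheaf.map (homOfLE (X.basicOpen_le g)).op g) :=
    RingedSpace.isUnit_res_basicOpen X.toRingedSpace g
  obtain ⟨u, hu'⟩ := hu.pow n
  have h1 := res_mem_span (X.basicOpen_le g) x (h x)
  rw [hx] at h1
  have h2 := Submodule.smul_mem _ (↑u⁻¹ : Γ(X, X.basicOpen g)) h1
  rw [← hu', ← mul_smul, Units.inv_mul, one_smul] at h2
  exact h2

/-- **a quasi-coherent module generated by global sections over each member of an affine open cover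
is globally generated.** -/
theorem isGloballyGenerated_of_genOn {G : X.Modules} [G.IsQuasicoherent] {ι : Type*}
    (W : ι → X.Opens) (hW : ∀ i, IsAffineOpen (W i)) (hcov : ∀ x : X, ∃ i, x ∈ W i)
    (h : ∀ i, GenOn G (W i)) : Curv2.IsGloballyGenerated G := by
  have key : Epi (canonicalFreeHom G) := by
    refine epi_of_surjective_of_isBasis (fun p : (Σ i, Γ(X, W i)) => X.basicOpen p.2) ?_ _ ?_
    · rw [Opens.isBasis_iff_nbhd]
      intro U x hxU
      obtain ⟨i, hxi⟩ := hcov x
      obtain ⟨f, hfU, hxf⟩ := (hW i).exists_basicOpen_le (V := U) ⟨x, hxU⟩ hxi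
      exact ⟨_, ⟨⟨i, f⟩, rfl⟩, hxf, hfU⟩
    · rintro ⟨i, g⟩
      exact surjective_canonicalFreeHom_app_of_genOn ((h i).basicOpen (hW i) g)
  exact ⟨Γ(G, ⊤), canonicalFreeHom G, key⟩

/-- **by the extension lemma, `G ⊗ M^{⊗ k}` is generated by global sections over `X_s` for
`k ≫ 0`** (`X` qcqs, `M` invertible, `G` quasi-coherent with `Γ(G, X_s)` finite). -/
theorem exists_genOn_twistIter [CompactSpace X] [QuasiSeparatedSpace X] (G : X.Modules)
    [G.IsQuasicoherent] {M : X.Modules} (hM : PicF.IsInvertible M)
    (s : Coh.structureModule X ⟶ M)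
    (hfin : Module.Finite Γ(X, genLocus M s) Γ(G, genLocus M s)) :
    ∃ k₀ : ℕ, ∀ k, k₀ ≤ k → GenOn (twistIter G M k) (genLocus M s) := by
  classical
  obtain ⟨S, hS⟩ := hfin.fg_top
  have h1 := fun t : S => exists_extension_sigmaHom_top G hM s t.1
  choose k₀ hk₀ using h1
  refine ⟨Finset.univ.sup k₀, fun k hk => ?_⟩
  rw [genOn_iff]
  intro y
  obtain ⟨x, rfl⟩ := (bijective_sigmaHom_app s G (le_refl _) k).2 y
  have hx : x ∈ Submodule.span Γ(X, genLocus M s) (S : Set Γ(G, genLocus M s)) := by
    rw [hS]; trivial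
  induction hx using Submodule.span_induction with
  | mem x hx =>
    obtain ⟨t'', ht''⟩ := hk₀ ⟨x, hx⟩ k ((Finset.le_sup (Finset.mem_univ _)).trans hk)
    exact Submodule.subset_span ⟨t'', ht''⟩
  | zero => rw [map_zero]; exact Submodule.zero_mem _
  | add x y _ _ hx hy => rw [map_add]; exact Submodule.add_mem _ hx hy
  | smul a x _ hx => rw [Hom.app_smul]; exact Submodule.smul_mem _ a hx

end Groth.Agent.Lib.Ample
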