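import Groth.Agent.Lib.Ample.Helper50_TwistIso

/-!
# AMPLE tools (helper50): generators of tensor powers; affineness of `X_s ⊓ V`

Namespace `Groth.Agent.Lib.Ample`.

* `isGenerator_one` : `1` generates `O_X` over any open.
* `IsGenerator.exists_tensorPow` : a generator of `L` over `V` gives generators of all `L^{⊗ n}`.
* `isAffineOpen_genLocus_inf_of_isGenerator` : `V` affine with `M|V` free on a generator ⟹ `X_s ⊓ V` affine.
* `exists_isAffineOpen_isGenerator_tensorPow` : small affine opens trivializing all powers of `L`.
-/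

universe u

open CategoryTheory MonoidalCategory Opposite TensorProduct AlgebraicGeometry TopologicalSpace

namespace Groth.Agent.Lib.Ample

open Groth.Agent.Lib.QCoh CohB1 Scheme.Modules

variable {X : Scheme.{u}}

/-- `1` generates the structure sheaf over every open -/
lemma isGenerator_one (V : X.Opens) :
    IsGenerator (Coh.structureModule X) V
      (show Γ(Coh.structureModule X, V) from (1 : Γ(X, V))) := by
  rw [isGenerator_iff]
  intro W hW
  have h : (fun a : Γ(X, W) => a • (Coh.structureModule X).presheaf.map (homOfLE hW).op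
      (show Γ(Coh.structureModule X, V) from (1 : Γ(X, V)))) =
      (fun a : Γ(X, W) => (show Γ(Coh.structureModule X, W) from a)) := by
    funext a
    have h1 : (Coh.structureModule X).presheaf.map (homOfLE hW).op
      (show Γ(Coh.structureModule X, V) from (1 : Γ(X, V))) =
      (show Γ(Coh.structureModule X, W) from (1 : Γ(X, W))) :=
      map_one (X.presheaf.map (homOfLE hW).op).hom
    rw [h1]
    exact mul_one a
  rw [h]
  exact Function.bijective_id

/-- a generator of `L` over `V` induces generators of all tensor powers of `L` over `V` -/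
theorem IsGenerator.exists_tensorPow {L : X.Modules} {V : X.Opens} {e : Γ(L, V)}
    (he : IsGenerator L V e) (n : ℕ) :
    ∃ eₙ : Γ(tensorPow L n, V), IsGenerator (tensorPow L n) V eₙ := by
  induction n with
  | zero => exact ⟨_, isGenerator_one V⟩
  | succ n ih =>
    obtain ⟨eₙ, heₙ⟩ := ih
    exact ⟨_, heₙ.tmul he⟩

/-- `X_s ⊓ V` is affine if `V` is affine and `M` is free on a generator over `V` -/
theorem isAffineOpen_genLocus_inf_of_isGenerator {M : X.Modules} (s : Coh.structureModule X ⟶ M) {V : X.Opens}
    (hV : IsAffineOpen V) {e : Γ(M, V)} (he : IsGenerator M V e) :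
    IsAffineOpen (genLocus M s ⊓ V) := by
  obtain ⟨f, hf⟩ := (he.bijective (le_refl V)).2 (secOn s V)
  have hid : M.presheaf.map (homOfLE (le_refl V)).op e = e := by
    have h2 : (homOfLE (le_refl V)) = 𝟙 V := rfl
    rw [h2, op_id, M.presheaf.map_id]
    rfl
  rw [hid] at hf
  rw [genLocus_inf_eq_basicOpen s V e he f hf.symm]
  exact hV.basicOpen f

theorem isAffineOpen_genLocus_of_le_of_isGenerator {M : X.Modules} (s : Coh.structureModule X ⟶ M)
    {V : X.Opens} (hV : IsAffineOpen V) {e : Γ(M, V)} (he : IsGenerator M V e)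
    (hle : genLocus M s ≤ V) : IsAffineOpen (genLocus M s) := by
  have := isAffineOpen_genLocus_inf_of_isGenerator s hV he
  rwa [inf_eq_left.2 hle] at this

/-- small affine opens trivializing `L` (hence all its tensor powers) -/
theorem exists_isAffineOpen_forall_isGenerator_tensorPow {L : X.Modules}
    (hL : PicF.IsInvertible L) (x : X) (W : X.Opens) (hxW : x ∈ W) :
    ∃ (V : X.Opens) (_ : IsAffineOpen V) (_ : x ∈ V) (_ : V ≤ W),
      ∀ n : ℕ, ∃ eₙ : Γ(tensorPow L n, V), IsGenerator (tensorPow L n) V eₙ := by
  obtain ⟨V, hVaff, hxV, hVW, e, he⟩ := exists_isAffineOpen_isGenerator_of_isInvertible hL x W hxW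
  exact ⟨V, hVaff, hxV, hVW, fun n => he.exists_tensorPow n⟩

end Groth.Agent.Lib.Ample
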