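import Groth.Agent.Lib.Ample.Helper50_MulSec
import Groth.Prelude.Def_SecTwist

/-!
# Bridge between the prelude's `SecTwist` vocabulary and helper50's `tmulSect` / `mulSec` (lead)

ns `Groth.Agent.Lib.Ample`.
* `tmul_eq_tmulSect : SecTwist.tmul M N U m n = tmulSect M N m n` (rfl)
* `val_eq_secOn : SecTwist.val s U = secOn s U`
* `tmulHom_eq_mulSec : SecTwist.tmulHom a b = mulSec a b`
* `powHom_eq_secPow : SecTwist.powHom s n = secPow s n`
* `genLocus_tmulHom` (= S15745), `genLocus_powHom`
-/

universe u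
open CategoryTheory CategoryTheory.Limits AlgebraicGeometry TopologicalSpace Opposite

namespace Groth.Agent.Lib.Ample

open Scheme.Modules

variable {X : Scheme.{u}}

theorem tmul_eq_tmulSect (M N : X.Modules) (U : X.Opens) (m : Γ(M, U)) (n : Γ(N, U)) :
    SecTwist.tmul M N U m n = tmulSect M N m n := rfl

theorem val_eq_secOn {L : X.Modules} (s : Coh.structureModule X ⟶ L) (U : X.Opens) :
    SecTwist.val s U = secOn s U := (secOn_eq s U).symm

theorem tmulHom_eq_mulSec {M N : X.Modules} (a : Coh.structureModule X ⟶ M)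
    (b : Coh.structureModule X ⟶ N) : SecTwist.tmulHom a b = mulSec a b := by
  apply hom_ext_secOf
  rw [← secOn_top, ← secOn_top, ← val_eq_secOn, SecTwist.val_tmulHom, secOn_mulSec]
  have h1 := val_eq_secOn a ⊤
  have h2 := val_eq_secOn b ⊤
  exact (congrArg₂ (fun p q => SecTwist.tmul M N ⊤ p q) h1 h2).trans
    (tmul_eq_tmulSect M N ⊤ (secOn a ⊤) (secOn b ⊤))

theorem powHom_eq_secPow {L : X.Modules} (s : Coh.structureModule X ⟶ L) :
    ∀ n : ℕ, SecTwist.powHom s n = secPow s n
  | 0 => rfl
  | n + 1 => by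
    change SecTwist.tmulHom (SecTwist.powHom s n) s = mulSec (secPow s n) s
    rw [tmulHom_eq_mulSec, powHom_eq_secPow s n]

theorem genLocus_tmulHom {L L' : X.Modules} (hL : PicF.IsInvertible L) (hL' : PicF.IsInvertible L')
    (f : Coh.structureModule X ⟶ L) (g : Coh.structureModule X ⟶ L') :
    CohB1.genLocus (CohB1.tensorMod L L') (SecTwist.tmulHom f g) =
      CohB1.genLocus L f ⊓ CohB1.genLocus L' g := by
  rw [tmulHom_eq_mulSec]
  exact genLocus_mulSec f g hL hL'

theorem genLocus_powHom {L : X.Modules} (hL : PicF.IsInvertible L) (s : Coh.structureModule X ⟶ L)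
    (n : ℕ) : CohB1.genLocus _ (SecTwist.powHom s (n + 1)) = CohB1.genLocus L s := by
  rw [powHom_eq_secPow]
  exact genLocus_secPow s hL n

end Groth.Agent.Lib.Ample
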