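import Groth.Agent.Lib.Ample.Helper50_TwistIso
import Groth.Agent.Lib.Ample.SecTwistBridge

/-!
# AMPLE tools (helper50): the prelude's `SecTwist.twist` in terms of `sigmaHom`

Namespace `Groth.Agent.Lib.Ample`.

* `shf_map_app_unit` : naturality of the sheafification unit on sections.
* `tensorModAssoc_hom_app_tmulSect` : the associator on pure tensors.
* `twistIterIso_hom_app_sigmaHom` :
  `(twistIterIso F L n).hom (σ_n t) = SecTwist.twist s n F U t`.
-/

universe u

open CategoryTheory MonoidalCategory Opposite TensorProduct AlgebraicGeometry TopologicalSpace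

namespace Groth.Agent.Lib.Ample

open Groth.Agent.Lib.QCoh CohB1 Scheme.Modules

variable {X : Scheme.{u}}

/-- naturality of the sheafification unit, on sections -/
lemma shf_map_app_unit {P Q : PM X} (φ : P ⟶ Q) (V : X.Opens) (p : P.obj (op V)) :
    ((incl X).map ((shf X).map φ)).app (op V) (((shfAdj X).unit.app P).app (op V) p) =
      ((shfAdj X).unit.app Q).app (op V) (φ.app (op V) p) := by
  have h := (shfAdj X).unit.naturality φ
  have h2 := congrArg (fun k => k.app (op V)) h
  have h3 := congr($h2 p)
  exact h3.symm

/-- the associator on pure tensors -/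
lemma tensorModAssoc_hom_app_tmulSect (M N K : X.Modules) {V : X.Opens} (x : Γ(M, V))
    (y : Γ(N, V)) (z : Γ(K, V)) :
    (tensorModAssoc M N K).hom.app V (tmulSect (tensorMod M N) K (tmulSect M N x y) z) =
      tmulSect M (tensorMod N K) x (tmulSect N K y z) := by
  -- the three pure tensors in the presheaf tensor products
  let x' : (((incl X).obj M).obj (op V) : Type u) := x
  let y' : (((incl X).obj N).obj (op V) : Type u) := y
  let z' : (((incl X).obj K).obj (op V) : Type u) := z
  let w : ((((incl X).obj M ⊗ (incl X).obj N) ⊗ (incl X).obj K).obj (op V) : Type u) :=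
    (x' ⊗ₜ[Γ(X, V)] y') ⊗ₜ[Γ(X, V)] z'
  let w' : (((incl X).obj M ⊗ ((incl X).obj N ⊗ (incl X).obj K)).obj (op V) : Type u) :=
    x' ⊗ₜ[Γ(X, V)] (y' ⊗ₜ[Γ(X, V)] z')
  let e₁ := shfWhiskerRightIso ((incl X).obj M ⊗ (incl X).obj N) ((incl X).obj K)
  let e₂ := (shf X).mapIso (α_ ((incl X).obj M) ((incl X).obj N) ((incl X).obj K))
  let e₃ := shfWhiskerLeftIso ((incl X).obj M) ((incl X).obj N ⊗ (incl X).obj K)
  -- step A
  have hA : ((incl X).map e₁.hom).app (op V)
      (((shfAdj X).unit.app (((incl X).obj M ⊗ (incl X).obj N) ⊗ (incl X).obj K)).app (op V) w) =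
      tmulSect (tensorMod M N) K (tmulSect M N x y) z :=
    shf_map_app_unit ((shfAdj X).unit.app ((incl X).obj M ⊗ (incl X).obj N) ▷
      (incl X).obj K) V w
  -- step B
  have hB : ((incl X).map e₂.hom).app (op V)
      (((shfAdj X).unit.app (((incl X).obj M ⊗ (incl X).obj N) ⊗ (incl X).obj K)).app (op V) w) =
      ((shfAdj X).unit.app ((incl X).obj M ⊗ ((incl X).obj N ⊗ (incl X).obj K))).app (op V) w' :=
    shf_map_app_unit (α_ ((incl X).obj M) ((incl X).obj N) ((incl X).obj K)).hom V w
  -- step C
  have hC : ((incl X).map e₃.hom).app (op V)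
      (((shfAdj X).unit.app ((incl X).obj M ⊗ ((incl X).obj N ⊗ (incl X).obj K))).app (op V) w') =
      tmulSect M (tensorMod N K) x (tmulSect N K y z) :=
    shf_map_app_unit ((incl X).obj M ◁
      (shfAdj X).unit.app ((incl X).obj N ⊗ (incl X).obj K)) V w'
  have h1 : ((incl X).map e₁.inv).app (op V)
      (tmulSect (tensorMod M N) K (tmulSect M N x y) z) =
      ((shfAdj X).unit.app (((incl X).obj M ⊗ (incl X).obj N) ⊗ (incl X).obj K)).app (op V) w := by
    rw [← hA]
    have := congrArg (fun k => ((incl X).map k).app (op V)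
      (((shfAdj X).unit.app (((incl X).obj M ⊗ (incl X).obj N) ⊗ (incl X).obj K)).app (op V) w))
      e₁.hom_inv_id
    exact this
  have s2 := congrArg (fun t => ((incl X).map e₃.hom).app (op V)
    (((incl X).map e₂.hom).app (op V) t)) h1
  have s3 := congrArg (fun t => ((incl X).map e₃.hom).app (op V) t) hB
  exact s2.trans (s3.trans hC)

/-- the inverse right unitor on sections: `t ↦ t ⊗ 1` -/
lemma tensorModRightUnitor_inv_app (F : X.Modules) (U : X.Opens) (t : Γ(F, U)) :
    (tensorModRightUnitor F).inv.app U t =
      tmulSect F (Coh.structureModule X) t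
        (show Γ(Coh.structureModule X, U) from (1 : Γ(X, U))) := by
  have h := twistHom_app F (𝟙 (Coh.structureModule X)) U t
  have h1 : twistHom F (𝟙 (Coh.structureModule X)) = (tensorModRightUnitor F).inv := by
    unfold twistHom
    rw [tensorModMap_id, Category.comp_id]
  have h2 : secOn (𝟙 (Coh.structureModule X)) U =
      (show Γ(Coh.structureModule X, U) from (1 : Γ(X, U))) := by
    rw [secOn_eq]
    rfl
  rw [h1, h2] at h
  exact h

/-- **bridge** : `σ_n(t)` corresponds to the prelude's `t ⊗ s^{⊗ n}` under `twistIterIso`. -/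
theorem twistIterIso_hom_app_sigmaHom (F : X.Modules) {L : X.Modules}
    (s : Coh.structureModule X ⟶ L) (n : ℕ) (U : X.Opens) (t : Γ(F, U)) :
    (twistIterIso F L n).hom.app U ((sigmaHom F s n).app U t) = SecTwist.twist s n F U t := by
  induction n with
  | zero =>
    rw [sigmaHom_zero]
    exact tensorModRightUnitor_inv_app F U t
  | succ k ih =>
    have e0 : (sigmaHom F s (k + 1)).app U t =
        tmulSect (twistIter F L k) L ((sigmaHom F s k).app U t) (secOn s U) := by
      rw [sigmaHom_succ]
      exact twistHom_app (twistIter F L k) s U _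
    have e1 : (twistIterIso F L (k + 1)).hom.app U
        (tmulSect (twistIter F L k) L ((sigmaHom F s k).app U t) (secOn s U)) =
        tmulSect F (tensorMod (tensorPow L k) L) t
          (tmulSect (tensorPow L k) L (SecTwist.pow s k U) (secOn s U)) := by
      have h2 : (twistIterIso F L (k + 1)).hom.app U
          (tmulSect (twistIter F L k) L ((sigmaHom F s k).app U t) (secOn s U)) =
          (tensorModAssoc F (tensorPow L k) L).hom.app U
            ((tensorModMap (twistIterIso F L k).hom (𝟙 L)).app U
              (tmulSect (twistIter F L k) L ((sigmaHom F s k).app U t) (secOn s U))) := rfl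
      have h3 := tensorModMap_app_tmulSect (twistIterIso F L k).hom (𝟙 L)
        ((sigmaHom F s k).app U t) (secOn s U)
      have h4 : tmulSect (tensorMod F (tensorPow L k)) L
          ((twistIterIso F L k).hom.app U ((sigmaHom F s k).app U t))
          ((𝟙 L : L ⟶ L).app U (secOn s U)) =
          tmulSect (tensorMod F (tensorPow L k)) L
            (tmulSect F (tensorPow L k) t (SecTwist.pow s k U)) (secOn s U) := by
        rw [ih]
        rfl
      exact h2.trans ((congrArg (fun y => (tensorModAssoc F (tensorPow L k) L).hom.app U y)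
        (h3.trans h4)).trans
        (tensorModAssoc_hom_app_tmulSect F (tensorPow L k) L t (SecTwist.pow s k U) (secOn s U)))
    have e2 : SecTwist.twist s (k + 1) F U t =
        tmulSect F (tensorMod (tensorPow L k) L) t
          (tmulSect (tensorPow L k) L (SecTwist.pow s k U) (secOn s U)) := by
      have h5 : SecTwist.pow s (k + 1) U =
          tmulSect (tensorPow L k) L (SecTwist.pow s k U) (secOn s U) := by
        change SecTwist.tmul (tensorPow L k) L U (SecTwist.pow s k U) (SecTwist.val s U) = _
        rw [val_eq_secOn]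
        rfl
      change tmulSect F (tensorPow L (k + 1)) t (SecTwist.pow s (k + 1) U) = _
      rw [h5]
      rfl
    exact (congrArg (fun y => (twistIterIso F L (k + 1)).hom.app U y) e0).trans (e1.trans e2.symm)

end Groth.Agent.Lib.Ample
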