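import Groth.Agent.Lib.QCoh.Helper50_QAffIdeal
import Groth.Agent.Lib.Ample.Helper50_SecTwist
import Groth.Agent.Lib.Ample.Helper50_FreeGen
import Groth.Agent.Lib.Ample.Helper50_MulSec
import Groth.Agent.Lib.Ample.Affine

/-!
# Sections of `I ⊗ M` as sections of `M` (helper50)

`I` an ideal sheaf, `M` an invertible module.  ns `Groth.Agent.Lib.Ample.IdealTwist`.

* `idealTwistHom I M : I ⊗ M ⟶ M`, `idealTwistHom_app_tmulSect : a ⊗ m ↦ a • m`
* `genLocus_le_of_support` : sections of `M` coming from `I ⊗ M` have generating locus disjoint from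
  the support of `I`
* `isAmple_of_forall_fg_ideal` (= S2326)
-/

universe u

open CategoryTheory CategoryTheory.Limits MonoidalCategory Opposite TensorProduct AlgebraicGeometry
  TopologicalSpace

namespace Groth.Agent.Lib.Ample.IdealTwist

open Groth.Agent.Lib.QCoh CohB1 Scheme.Modules Groth.Agent.Lib.Ample
open Groth.Agent.Lib.QCoh.FTIdeal

variable {X : Scheme.{u}}

/-- the braiding on pure tensors -/
lemma tensorModBraiding_hom_app_tmulSect (M N : X.Modules) {V : X.Opens} (x : Γ(M, V))
    (y : Γ(N, V)) :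
    (tensorModBraiding M N).hom.app V (tmulSect M N x y) = tmulSect N M y x :=
  shf_map_app_unit (β_ ((incl X).obj M) ((incl X).obj N)).hom V
    ((show (((incl X).obj M).obj (op V) : Type u) from x) ⊗ₜ[Γ(X, V)]
      (show (((incl X).obj N).obj (op V) : Type u) from y))

/-- the right unitor on pure tensors -/
lemma tensorModRightUnitor_hom_app_tmulSect (F : X.Modules) {V : X.Opens} (t : Γ(F, V))
    (r : Γ(X, V)) :
    (tensorModRightUnitor F).hom.app V
      (tmulSect F (Coh.structureModule X) t (show Γ(Coh.structureModule X, V) from r)) = r • t := by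
  have h1 : tmulSect F (Coh.structureModule X) t (show Γ(Coh.structureModule X, V) from r) =
      (tensorModRightUnitor F).inv.app V (r • t) := by
    rw [tensorModRightUnitor_inv_app, tmulSect_smul_left, ← tmulSect_smul_right]
    congr 1
    exact (mul_one r).symm
  rw [h1]
  have h2 : (tensorModRightUnitor F).inv ≫ (tensorModRightUnitor F).hom = 𝟙 _ :=
    (tensorModRightUnitor F).inv_hom_id
  have h3 := congrArg (fun φ => φ.app V (r • t)) h2
  exact h3

variable (I : X.IdealSheafData) (M : X.Modules)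

/-- the multiplication map `I ⊗ M ⟶ M` -/
noncomputable def idealTwistHom : tensorMod (ClSub.idealMod I) M ⟶ M :=
  tensorModMap (ClSub.idealModι I) (𝟙 M) ≫ (tensorModBraiding _ _).hom ≫
    (tensorModRightUnitor M).hom

lemma idealTwistHom_app_tmulSect {V : X.Opens} (a : Γ(ClSub.idealMod I, V)) (m : Γ(M, V)) :
    (idealTwistHom I M).app V (tmulSect (ClSub.idealMod I) M a m) =
      (show Γ(X, V) from (ClSub.idealModι I).app V a) • m := by
  unfold idealTwistHom
  have h1 := tensorModMap_app_tmulSect (ClSub.idealModι I) (𝟙 M) a m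
  have h2 := tensorModBraiding_hom_app_tmulSect (Coh.structureModule X) M
    ((ClSub.idealModι I).app V a) m
  have h3 := tensorModRightUnitor_hom_app_tmulSect M m
    (show Γ(X, V) from (ClSub.idealModι I).app V a)
  change (tensorModRightUnitor M).hom.app V ((tensorModBraiding _ _).hom.app V
    ((tensorModMap (ClSub.idealModι I) (𝟙 M)).app V (tmulSect (ClSub.idealMod I) M a m))) = _
  rw [h1]
  exact (congrArg ((tensorModRightUnitor M).hom.app V) h2).trans h3

variable {I M}

/-- **sections of `M` coming from `I ⊗ M` have generating locus disjoint from the support of `I`** -/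
theorem genLocus_le_of_support (hM : PicF.IsInvertible M) {V : X.Opens}
    (hsupp : (I.support : Set X) = (V : Set X)ᶜ)
    (σ : Coh.structureModule X ⟶ tensorMod (ClSub.idealMod I) M) :
    genLocus M (σ ≫ idealTwistHom I M) ≤ V := by
  intro y hy
  by_contra hyV
  have hys : y ∈ I.support := by
    change y ∈ (I.support : Set X)
    rw [hsupp]; exact hyV
  obtain ⟨U, hyU, e, he⟩ := exists_isGenerator_of_isInvertible hM y
  obtain ⟨W, hW, hyW, hWU⟩ := exists_isAffineOpen_mem_and_subset (x := y) (U := U) hyU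
  obtain ⟨a, ha⟩ := (bijective_tmulSect_of_isGenerator (F := ClSub.idealMod I) he hWU).2
    (secOn σ W)
  have hs : resSec M (le_top : W ≤ ⊤) (secOf (σ ≫ idealTwistHom I M)) =
      (show Γ(X, W) from (ClSub.idealModι I).app W a) • M.presheaf.map (homOfLE hWU).op e := by
    change secOn (σ ≫ idealTwistHom I M) W = _
    rw [secOn_comp, ← ha]
    exact idealTwistHom_app_tmulSect I M a _
  have h1 := genLocus_inf_eq_basicOpen (σ ≫ idealTwistHom I M) W _ (he.res hWU) _ hs
  have hyb : y ∈ X.basicOpen (show Γ(X, W) from (ClSub.idealModι I).app W a) := by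
    rw [← h1]; exact ⟨hy, hyW⟩
  rw [Scheme.IdealSheafData.mem_support_iff_of_mem (U := ⟨W, hW⟩) hyW,
    Scheme.mem_zeroLocus_iff] at hys
  refine hys _ ?_ hyb
  rw [idealModι_app_eq I ⟨W, hW⟩ a]
  exact Subtype.property _

/-- `I ⊗ M ⟶ M` is surjective on stalks at points near which `I` is the unit ideal -/
lemma stalkMap_idealTwistHom_surjective (hM : PicF.IsInvertible M) {V : X.Opens}
    (htop : ∀ (W : X.Opens) (hW : IsAffineOpen W), W ≤ V → I.ideal ⟨W, hW⟩ = ⊤) (x : X)
    (hx : x ∈ V) : Function.Surjective (stalkMap (idealTwistHom I M) x) := by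
  intro mx
  obtain ⟨W₀, hxW₀, m, rfl⟩ := TopCat.Presheaf.exists_germ_eq M.presheaf mx
  obtain ⟨U, hxU, e, he⟩ := exists_isGenerator_of_isInvertible hM x
  obtain ⟨W, hW, hxW, hWle⟩ := exists_isAffineOpen_mem_and_subset (x := x) (U := W₀ ⊓ V ⊓ U)
    ⟨⟨hxW₀, hx⟩, hxU⟩
  have hWW₀ : W ≤ W₀ := fun z hz => (hWle hz).1.1
  have hWV : W ≤ V := fun z hz => (hWle hz).1.2
  have hWU : W ≤ U := fun z hz => (hWle hz).2
  obtain ⟨c, hc⟩ := (he.bijective hWU).2 (M.presheaf.map (homOfLE hWW₀).op m)
  have hcI : c ∈ I.ideal ⟨W, hW⟩ := by rw [htop W hW hWV]; trivial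
  set a := (EffCartier74.idealModΓEquivIdeal I ⟨W, hW⟩).symm ⟨c, hcI⟩ with ha_def
  have ha : (show Γ(X, W) from (ClSub.idealModι I).app W a) = c := by
    have := idealModι_app_eq I ⟨W, hW⟩ a
    rw [ha_def, LinearEquiv.apply_symm_apply] at this
    exact this
  refine ⟨(tensorMod (ClSub.idealMod I) M).presheaf.germ W x hxW
    (tmulSect (ClSub.idealMod I) M a (M.presheaf.map (homOfLE hWU).op e)), ?_⟩
  rw [stalkMap_germ, idealTwistHom_app_tmulSect, ha]
  have hc' : c • M.presheaf.map (homOfLE hWU).op e = M.presheaf.map (homOfLE hWW₀).op m := hc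
  rw [hc']
  exact TopCat.Presheaf.germ_res_apply M.presheaf (homOfLE hWW₀) x hxW m

open Groth.Agent.Lib.Ample.SpanGen in
/-- if `I ⊗ M` is globally generated (`M` invertible, `I` with support `Vᶜ`, `V` affine, and `I` the
unit ideal on `V`), every point of `V` lies in an affine `X_s ≤ V`, `s` a global section of `M` -/
theorem exists_affine_genLocus (hM : PicF.IsInvertible M) {ι : Type u}
    (p : freeModule X ι ⟶ tensorMod (ClSub.idealMod I) M) [Epi p]
    {V : X.Opens} (hV : IsAffineOpen V) (hsupp : (I.support : Set X) = (V : Set X)ᶜ)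
    (htop : ∀ (W : X.Opens) (hW : IsAffineOpen W), W ≤ V → I.ideal ⟨W, hW⟩ = ⊤) (x : X)
    (hx : x ∈ V) :
    ∃ s : Coh.structureModule X ⟶ M, x ∈ genLocus M s ∧ IsAffineOpen (genLocus M s) := by
  let t : ι → (Coh.structureModule X ⟶ M) :=
    fun i => (SheafOfModules.ιFree (R := X.ringCatSheaf) i ≫ p) ≫ idealTwistHom I M
  have hspanJ := span_germ_eq_top_of_epi_free p x
  have hsurj := stalkMap_idealTwistHom_surjective hM htop x hx
  have hspan : Submodule.span (X.presheaf.stalk x) (Set.range fun i : ι =>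
      stalkMap (t i) x (germOne x)) = ⊤ := by
    have h1 : Submodule.map (stalkMapₗ (idealTwistHom I M) x)
        (Submodule.span (X.presheaf.stalk x) (Set.range fun i : ι =>
          stalkMap (SheafOfModules.ιFree i ≫ p) x (germOne x))) = ⊤ := by
      rw [hspanJ, Submodule.map_top, LinearMap.range_eq_top]
      exact hsurj
    rw [Submodule.map_span, ← Set.range_comp] at h1
    rw [← h1]
    congr 2
    funext i
    have e3 : (stalkFunctor X x).map (t i) =
        (stalkFunctor X x).map (SheafOfModules.ιFree i ≫ p) ≫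
          (stalkFunctor X x).map (idealTwistHom I M) :=
      (stalkFunctor X x).map_comp _ _
    exact (ConcreteCategory.congr_hom e3 (germOne x)).trans (ConcreteCategory.comp_apply _ _ _)
  obtain ⟨i, hi⟩ := exists_mem_genLocus_of_span_eq_top hM t x hspan
  refine ⟨t i, hi, ?_⟩
  have hle : genLocus M (t i) ≤ V :=
    genLocus_le_of_support hM hsupp (SheafOfModules.ιFree (R := X.ringCatSheaf) i ≫ p)
  have h2 := isAffineOpen_genLocus_inf_of_isInvertible hM (t i) hV
  rwa [inf_eq_left.mpr hle] at h2

/-- **ampleness from global generation of twists of finite type ideals** (EGA II 4.5.2 (c') ⟹ (a)) -/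
theorem isAmple_of_forall_fg_ideal [CompactSpace X] [QuasiSeparatedSpace X] {L : X.Modules}
    (hL : PicF.IsInvertible L)
    (h : ∀ I : X.IdealSheafData, (∀ V : X.affineOpens, (I.ideal V).FG) →
      ∃ (n k : ℕ) (p : FlatMod.freeMod X k ⟶
        tensorMod (ClSub.idealMod I) (tensorPow L (n + 1))), Epi p) :
    IsAmple L := by
  refine ⟨hL, inferInstance, fun x => ?_⟩
  obtain ⟨V, hV, hxV, -⟩ := exists_isAffineOpen_mem_and_subset (x := x) (U := ⊤) trivial
  obtain ⟨I, hfg, hsupp, htop⟩ := exists_fg_ideal_support_eq_compl V hV.isCompact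
  obtain ⟨n, k, p, hp⟩ := h I hfg
  let e := Sigma.reindex (Equiv.ulift : ULift.{u} (Fin k) ≃ Fin k)
    (fun _ : Fin k => Coh.structureModule X)
  let p' : freeModule X (ULift.{u} (Fin k)) ⟶
      tensorMod (ClSub.idealMod I) (tensorPow L (n + 1)) := e.hom ≫ p
  have hp' : Epi p' := epi_comp _ _
  obtain ⟨s, hxs, haff⟩ := exists_affine_genLocus (isInvertible_tensorPow hL (n + 1)) p' hV hsupp
    htop x hxV
  exact ⟨n, s, hxs, haff⟩

end Groth.Agent.Lib.Ample.IdealTwist
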