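import Groth.Agent.Lib.QCoh.Helper50_FlatBC
import Groth.Agent.Lib.Helper22.QCohLoc

/-!
# AMPLE (B), abstract part (helper50): morphisms which are locally "multiplication by `f`"

Namespace `Groth.Agent.Lib.Ample`.

* `IsLocMul τ U f` : over the open `U`, the morphism `τ : G ⟶ G'` is multiplication by
  `f ∈ Γ(X, U)` up to a local isomorphism `G|U ≅ G'|U` (stated through its two consequences).
* `IsLocMul.id`, `IsLocMul.comp`, `isLocMul_map` (for a sequence `Φ : ℕ ⥤ X.Modules`).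
-/

universe u

open CategoryTheory Opposite AlgebraicGeometry TopologicalSpace

namespace Groth.Agent.Lib.Ample

open Groth.Agent.Lib.QCoh Scheme.Modules

variable {X : Scheme.{u}}

/-- Over `U`, the morphism `τ` is "multiplication by `f`" up to a local isomorphism:
(1) sections killed by `f` are killed by `τ`; (2) every section `y` of `G` over `V ≤ U` has a
"quotient by `f`" `u` in `G'`: whenever `y|W = f • z` then `u|W = τ z`. -/
def IsLocMul {G G' : X.Modules} (τ : G ⟶ G') (U : X.Opens) (f : Γ(X, U)) : Prop :=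
  (∀ (V : X.Opens) (h : V ≤ U) (x : Γ(G, V)),
      X.presheaf.map (homOfLE h).op f • x = 0 → τ.app V x = 0) ∧
  (∀ (V : X.Opens) (h : V ≤ U) (y : Γ(G, V)), ∃ u : Γ(G', V),
      ∀ (W : X.Opens) (hW : W ≤ V) (z : Γ(G, W)),
        G.presheaf.map (homOfLE hW).op y = X.presheaf.map (homOfLE (hW.trans h)).op f • z →
        G'.presheaf.map (homOfLE hW).op u = τ.app W z)

lemma IsLocMul.id (G : X.Modules) (U : X.Opens) : IsLocMul (𝟙 G) U (1 : Γ(X, U)) := by
  constructor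
  · intro V h x hx
    rw [map_one, one_smul] at hx
    rw [hx]
    rfl
  · intro V h y
    refine ⟨y, ?_⟩
    intro W hW z hz
    rw [map_one, one_smul] at hz
    exact hz

lemma IsLocMul.comp {G G' G'' : X.Modules} {τ : G ⟶ G'} {τ' : G' ⟶ G''} {U : X.Opens}
    {f f' : Γ(X, U)} (hτ : IsLocMul τ U f) (hτ' : IsLocMul τ' U f') :
    IsLocMul (τ ≫ τ') U (f * f') := by
  constructor
  · intro V h x hx
    rw [map_mul, mul_smul] at hx
    have h1 := hτ.1 V h _ hx
    rw [Hom.app_smul] at h1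
    exact hτ'.1 V h _ h1
  · intro V h y
    obtain ⟨u, hu⟩ := hτ.2 V h y
    obtain ⟨u', hu'⟩ := hτ'.2 V h u
    refine ⟨u', ?_⟩
    intro W hW z hz
    rw [map_mul, mul_smul] at hz
    have h1 := hu W hW _ hz
    rw [Hom.app_smul] at h1
    exact hu' W hW _ h1

lemma IsLocMul.of_eq {G G' : X.Modules} {τ τ' : G ⟶ G'} {U : X.Opens} {f f' : Γ(X, U)}
    (hτ : IsLocMul τ U f) (h1 : τ = τ') (h2 : f = f') : IsLocMul τ' U f' := by
  subst h1 h2
  exact hτ

/-- iterating along a sequence -/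
lemma isLocMul_map (Φ : ℕ ⥤ X.Modules) (U : X.Opens) (f : Γ(X, U))
    (h : ∀ n : ℕ, IsLocMul (Φ.map (homOfLE (Nat.le_succ n))) U f) (m n : ℕ) (hmn : m ≤ n) :
    IsLocMul (Φ.map (homOfLE hmn)) U (f ^ (n - m)) := by
  induction n, hmn using Nat.le_induction with
  | base =>
    refine (IsLocMul.id (Φ.obj m) U).of_eq ?_ ?_
    · exact (Φ.map_id m).symm
    · rw [Nat.sub_self, pow_zero]
  | succ n hmn ih =>
    refine (ih.comp (h n)).of_eq ?_ ?_
    · rw [← Φ.map_comp]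
      rfl
    · rw [Nat.succ_sub hmn, pow_succ]

lemma IsLocMul.app_eq_zero {G G' : X.Modules} {τ : G ⟶ G'} {U : X.Opens} {f : Γ(X, U)}
    (hτ : IsLocMul τ U f) (x : Γ(G, U)) (hx : f • x = 0) : τ.app U x = 0 := by
  apply hτ.1 U le_rfl x
  have : X.presheaf.map (homOfLE (le_refl U)).op f = f := by
    have h1 : (homOfLE (le_refl U)) = 𝟙 U := rfl
    rw [h1, op_id, X.presheaf.map_id]
    rfl
  rw [this]
  exact hx

lemma IsLocMul.exists_section {G G' : X.Modules} {τ : G ⟶ G'} {U : X.Opens} {f : Γ(X, U)}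
    (hτ : IsLocMul τ U f) (y : Γ(G, U)) : ∃ u : Γ(G', U),
      ∀ (W : X.Opens) (hW : W ≤ U) (z : Γ(G, W)),
        G.presheaf.map (homOfLE hW).op y = X.presheaf.map (homOfLE hW).op f • z →
        G'.presheaf.map (homOfLE hW).op u = τ.app W z :=
  hτ.2 U le_rfl y

/-- finite subcovers of a quasi-compact open from a local existence statement -/
lemma exists_finite_cover_of_isCompact {A : X.Opens} (hA : IsCompact (A : Set X))
    (P : X.Opens → Prop) (hP : ∀ x ∈ A, ∃ U : X.Opens, x ∈ U ∧ U ≤ A ∧ P U) :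
    ∃ S : Finset X.Opens, (∀ U ∈ S, U ≤ A ∧ P U) ∧ A ≤ ⨆ U : S, (U : X.Opens) := by
  classical
  choose U hxU hUA hPU using hP
  obtain ⟨t, ht⟩ := hA.elim_finite_subcover (fun x : A => ((U x.1 x.2 : X.Opens) : Set X))
    (fun x => (U x.1 x.2).isOpen) (fun y hy => Set.mem_iUnion.2 ⟨⟨y, hy⟩, hxU y hy⟩)
  refine ⟨t.image (fun x : A => U x.1 x.2), ?_, ?_⟩
  · intro V hV
    obtain ⟨x, -, rfl⟩ := Finset.mem_image.1 hV
    exact ⟨hUA _ _, hPU _ _⟩
  · intro y hy
    obtain ⟨x, hx⟩ := Set.mem_iUnion.1 (ht hy)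
    obtain ⟨hxt, hyx⟩ := Set.mem_iUnion.1 hx
    exact Opens.mem_iSup.2 ⟨⟨U x.1 x.2, Finset.mem_image.2 ⟨x, hxt, rfl⟩⟩, hyx⟩

end Groth.Agent.Lib.Ample
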