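import Groth.Agent.Lib.Ample.Helper50_Avoid
import Groth.Agent.Lib.QCoh.Helper74_LocFreeRank

/-!
# AMPLE tools (helper50): sections of `E ⊗ L^{⊗ kn}` generating at finitely many points

Namespace `Groth.Agent.Lib.Ample.Avoid`.

* `isGenerator_sigmaHom` : over `V ≤ X_s`, `σ_j(e)` generates `twistIter F M j` if `e` generates `F`.
* `exists_section_genLocus_eq_of_isGenerator` : `X` qcqs, `M` invertible, `F` quasi-coherent with a
  generator over `X_s`: for `j ≫ 0` a global section of `twistIter F M j` has `X_s ≤` its locus.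
* `exists_section_generating_of_finite` : `L` ample, `E` invertible, `Z` finite: there is `n` such
  that for all `k ≥ 1` some section of `E ⊗ L^{⊗ kn}` generates at all points of `Z`.
-/

universe u

open CategoryTheory MonoidalCategory Opposite TensorProduct AlgebraicGeometry TopologicalSpace

namespace Groth.Agent.Lib.Ample.Avoid

open Groth.Agent.Lib.QCoh CohB1 Scheme.Modules Groth.Agent.Lib.Ample

variable {X : Scheme.{u}}

/-- over `V ≤ X_s`, the section `σ_j(e) = e ⊗ s^j` generates `twistIter F M j` when `e` generates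
`F` over `V`. -/
theorem isGenerator_sigmaHom {M F : X.Modules} (s : Coh.structureModule X ⟶ M) {V : X.Opens}
    (hV : V ≤ genLocus M s) {e : Γ(F, V)} (he : IsGenerator F V e) (j : ℕ) :
    IsGenerator (twistIter F M j) V ((sigmaHom F s j).app V e) := by
  rw [isGenerator_iff]
  intro W hW
  have h1 := bijective_sigmaHom_app s F (hW.trans hV) j
  have h2 : (fun a : Γ(X, W) => a • (twistIter F M j).presheaf.map
      (homOfLE hW).op ((sigmaHom F s j).app V e)) =
      (fun y : Γ(F, W) => (sigmaHom F s j).app W y) ∘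
        (fun a : Γ(X, W) => a • F.presheaf.map (homOfLE hW).op e) := by
    funext a
    change _ = (sigmaHom F s j).app W (a • F.presheaf.map (homOfLE hW).op e)
    rw [← app_naturality_apply, ← Hom.app_smul]
  rw [h2]
  exact h1.comp (he.bijective hW)

/-- **extension of a local generator** : for `j ≫ 0` some global section of `twistIter F M j`
generates over `X_s`. -/
theorem exists_section_le_genLocus_of_isGenerator [CompactSpace X] [QuasiSeparatedSpace X]
    {M F : X.Modules} [F.IsQuasicoherent] (hM : PicF.IsInvertible M)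
    (s : Coh.structureModule X ⟶ M) {e : Γ(F, genLocus M s)}
    (he : IsGenerator F (genLocus M s) e) :
    ∃ j₀ : ℕ, ∀ j, j₀ ≤ j → ∃ t : Coh.structureModule X ⟶ twistIter F M j,
      genLocus M s ≤ genLocus _ t := by
  obtain ⟨j₀, hj₀⟩ := exists_extension_sigmaHom_top F hM s e
  refine ⟨j₀, fun j hj => ?_⟩
  obtain ⟨t'', ht''⟩ := hj₀ j hj
  refine ⟨homOfSec _ t'', ?_⟩
  have h1 : secOn (homOfSec _ t'') (genLocus M s) =
      (1 : Γ(X, genLocus M s)) • ((sigmaHom F s j).app (genLocus M s) e) := by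
    rw [secOn_homOfSec, ht'', one_smul]
  have h2 := genLocus_inf_eq_basicOpen (homOfSec _ t'') (genLocus M s) _
    (isGenerator_sigmaHom s le_rfl he j) 1 h1
  rw [X.basicOpen_of_isUnit isUnit_one] at h2
  exact inf_eq_right.mp h2

/-- **sections generating at finitely many points** -/
theorem exists_section_generating_of_finite {L : X.Modules} (hL : IsAmple L) {E : X.Modules}
    (hE : PicF.IsInvertible E) (Z : Set X) (hZ : Z.Finite) :
    ∃ n : ℕ, ∀ k : ℕ, 1 ≤ k → ∃ s : Coh.structureModule X ⟶ tensorMod E (tensorPow L (k * n)),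
      Z ⊆ genLocus (tensorMod E (tensorPow L (k * n))) s := by
  have hqs := quasiSeparatedSpace_of_isAmple hL
  have hc : CompactSpace X := hL.2.1
  have hinv : PicF.IsInvertible L := hL.1
  have hEq : E.IsQuasicoherent := isQuasicoherent_of_isInvertible hE
  -- an affine neighbourhood of `Z`
  obtain ⟨n₁, t₁, hZ₁, -, haff₁⟩ := exists_affine_genLocus_of_finite hL Z hZ ⊤ (fun _ _ => trivial)
  -- `E` is trivial on a smaller neighbourhood `U₂`
  obtain ⟨U₂, hZU₂, -, ⟨φ⟩⟩ := exists_triv_of_finite_subset_affine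
    (isFinLocFreeOfRank_one_iff_isInvertible.2 hE) hZ haff₁ hZ₁
  obtain ⟨e, he⟩ := exists_isGenerator_of_iso U₂ (φ ≪≫ freeModOneIso _)
  -- a smaller neighbourhood of the form `X_t`
  obtain ⟨m, t, hZt, htU, -⟩ := exists_affine_genLocus_of_finite hL Z hZ U₂ hZU₂
  have hM : PicF.IsInvertible (tensorPow L (m + 1)) := isInvertible_tensorPow hinv _
  obtain ⟨j₀, hj₀⟩ := exists_section_le_genLocus_of_isGenerator hM t (he.mono htU)
  refine ⟨(m + 1) * (j₀ + 1), fun k hk => ?_⟩
  have hj : j₀ ≤ k * (j₀ + 1) := by nlinarith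
  obtain ⟨s₀, hs₀⟩ := hj₀ (k * (j₀ + 1)) hj
  have hexp : (m + 1) * (k * (j₀ + 1)) = k * ((m + 1) * (j₀ + 1)) := by ring
  let γ : twistIter E (tensorPow L (m + 1)) (k * (j₀ + 1)) ≅
      tensorMod E (tensorPow L (k * ((m + 1) * (j₀ + 1)))) :=
    twistIterIso E (tensorPow L (m + 1)) (k * (j₀ + 1)) ≪≫
      tensorModCongr (Iso.refl E) (Ample.tensorPowMulIso L (m + 1) (k * (j₀ + 1)) ≪≫
        eqToIso (congrArg (tensorPow L) hexp))
  refine ⟨s₀ ≫ γ.hom, ?_⟩
  rw [genLocus_comp_iso]
  exact fun z hz => hs₀ (hZt hz)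

end Groth.Agent.Lib.Ample.Avoid
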