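import Groth.Agent.Lib.Ample.Helper50_VABase
import Groth.Prelude.Def_RelProj

/-!
# AMPLE (helper50): quasi-projective versus H-quasi-projective

Namespace `Groth.Agent.Lib.Ample.VA`.

* `locallyOfFiniteType_toSpec` : `P^n_R ⟶ Spec R` is locally of finite type.
* `isRelAmple_of_isRelVeryAmplePn` : very ample (projective-space form) ⟹ relatively ample.
* `isHQuasiProjective_of_arrow_iso`.
* `isHQuasiProjective_restrict_of_isQuasiProjective` : quasi-projective ⟹ H-quasi-projective over
  affine opens of the base.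
* `isQuasiProjective_of_isHQuasiProjective`.
-/

universe u

open CategoryTheory CategoryTheory.Limits AlgebraicGeometry TopologicalSpace Opposite

namespace Groth.Agent.Lib.Ample.VA

open Groth.Agent.Lib.QCoh CohB1 Scheme.Modules Groth.Agent.Lib.Ample

theorem finiteType_polyGrading (n : ℕ) (R : Type u) [CommRing R] :
    Algebra.FiniteType (CohB1.polyGrading n R 0) (MvPolynomial (Fin (n + 1)) R) := by
  classical
  refine ⟨⟨Finset.univ.image MvPolynomial.X, ?_⟩⟩
  rw [eq_top_iff]
  intro p _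
  clear ‹p ∈ ⊤›
  induction p using MvPolynomial.induction_on with
  | C a =>
    have : (MvPolynomial.C a : MvPolynomial (Fin (n+1)) R) =
        algebraMap (CohB1.polyGrading n R 0) _
          ⟨MvPolynomial.C a, MvPolynomial.isHomogeneous_C _ a⟩ := rfl
    rw [this]
    exact Subalgebra.algebraMap_mem _ _
  | add p q hp hq => exact add_mem hp hq
  | mul_X p i hp => exact mul_mem hp (Algebra.subset_adjoin (by simp))

theorem surjective_algebraMap_polyGrading (n : ℕ) (R : Type u) [CommRing R] :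
    Function.Surjective (algebraMap R (CohB1.polyGrading n R 0)) := by
  rintro ⟨x, hx⟩
  have hx' : x ∈ (1 : Submodule R (MvPolynomial (Fin (n + 1)) R)) := by
    rw [← MvPolynomial.homogeneousSubmodule_zero]
    exact hx
  obtain ⟨a, ha⟩ := Submodule.mem_one.1 hx'
  exact ⟨a, Subtype.ext ha⟩

instance locallyOfFiniteType_toSpec (n : ℕ) (R : Type u) [CommRing R] :
    LocallyOfFiniteType (CohB1.ProjSpace.toSpec n R) := by
  have h1 := finiteType_polyGrading n R
  have h2 : LocallyOfFiniteType (Proj.toSpecZero (CohB1.polyGrading n R)) := inferInstance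
  have h3 : LocallyOfFiniteType
      (Spec.map (CommRingCat.ofHom (algebraMap R (CohB1.polyGrading n R 0)))) := by
    rw [HasRingHomProperty.Spec_iff (P := @LocallyOfFiniteType)]
    exact RingHom.FiniteType.of_surjective _ (surjective_algebraMap_polyGrading n R)
  unfold CohB1.ProjSpace.toSpec
  exact MorphismProperty.comp_mem @LocallyOfFiniteType _ _ h2 h3

instance quasiCompact_toSpec (n : ℕ) (R : Type u) [CommRing R] :
    QuasiCompact (CohB1.ProjSpace.toSpec n R) := by
  have h1 := finiteType_polyGrading n R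
  have h2 : QuasiCompact (Proj.toSpecZero (CohB1.polyGrading n R)) := inferInstance
  have h3 : QuasiCompact
      (Spec.map (CommRingCat.ofHom (algebraMap R (CohB1.polyGrading n R 0)))) := inferInstance
  unfold CohB1.ProjSpace.toSpec
  exact MorphismProperty.comp_mem @QuasiCompact _ _ h2 h3

/-- very ample (projective-space form) ⟹ relatively ample -/
theorem isRelAmple_of_isRelVeryAmplePn {X S : Scheme.{u}} (f : X ⟶ S) [QuasiCompact f]
    {L : X.Modules} (h : RelAmple.IsRelVeryAmplePn f L) : RelAmple.IsRelAmple f L := by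
  refine ⟨inferInstance, fun V => ?_⟩
  have h' := isRelVeryAmplePn_restrict_base f h V.1
  have : IsAffine ((V.1 : S.Opens) : Scheme.{u}) := V.2
  exact isAmple_of_isRelVeryAmplePn' (f ∣_ V.1) h'

theorem isHQuasiProjective_of_arrow_iso {X₁ S₁ X₂ S₂ : Scheme.{u}} {f₁ : X₁ ⟶ S₁} {f₂ : X₂ ⟶ S₂}
    (e : Arrow.mk f₁ ≅ Arrow.mk f₂) (h : RelProj.IsHQuasiProjective f₁) :
    RelProj.IsHQuasiProjective f₂ := by
  obtain ⟨n, i, himm, hqc, hi⟩ := h
  have hw : e.hom.left ≫ f₂ = f₁ ≫ e.hom.right := e.hom.w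
  let G : CohB1.ProjSpaceOver n S₁ ⟶ CohB1.ProjSpaceOver n S₂ :=
    pullback.map (CohB1.ProjSpace.toSpec n (ULift.{u} ℤ)) (specULiftZIsTerminal.from S₁)
      (CohB1.ProjSpace.toSpec n (ULift.{u} ℤ)) (specULiftZIsTerminal.from S₂) (𝟙 _) e.hom.right (𝟙 _)
      (by simp) (specULiftZIsTerminal.hom_ext _ _)
  have hr : IsIso e.hom.right := inferInstance
  have hG : IsIso G := pullback.map_isIso _ _ _ _ _ _ _ _ _
  have hsnd : G ≫ CohB1.ProjSpaceOver.toBase n S₂ =
      CohB1.ProjSpaceOver.toBase n S₁ ≫ e.hom.right := pullback.lift_snd _ _ _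
  refine ⟨n, inv e.hom.left ≫ i ≫ G, inferInstance, inferInstance, ?_⟩
  rw [Category.assoc, Category.assoc, hsnd, ← Category.assoc i, hi, ← hw, IsIso.inv_hom_id_assoc]

theorem isQuasiProjective_of_isHQuasiProjective {X S : Scheme.{u}} {f : X ⟶ S}
    (h : RelProj.IsHQuasiProjective f) : RelProj.IsQuasiProjective f := by
  obtain ⟨n, i, himm, hqc, hi⟩ := h
  have h1 : LocallyOfFiniteType (CohB1.ProjSpaceOver.toBase n S) :=
    MorphismProperty.pullback_snd _ _ (locallyOfFiniteType_toSpec n _)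
  have h2 : QuasiCompact (CohB1.ProjSpaceOver.toBase n S) := by
    exact MorphismProperty.pullback_snd _ _ (quasiCompact_toSpec n _)
  have hlft : LocallyOfFiniteType f := by
    rw [← hi]
    infer_instance
  have hqcf : QuasiCompact f := by
    rw [← hi]
    infer_instance
  refine ⟨hlft, hqcf, (Scheme.Modules.pullback i).obj (Twist.twistOver n S 1), ?_⟩
  exact isRelAmple_of_isRelVeryAmplePn f ⟨n, i, himm, hi, ⟨Iso.refl _⟩⟩

/-- quasi-projective ⟹ H-quasi-projective over the affine opens of the base -/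
theorem isHQuasiProjective_restrict_of_isQuasiProjective {X S : Scheme.{u}} (g : X ⟶ S)
    (h : RelProj.IsQuasiProjective g) (V : S.Opens) (hV : IsAffineOpen V) :
    RelProj.IsHQuasiProjective (g ∣_ V) := by
  obtain ⟨hlft, hqc, L, hL⟩ := h
  have hA := hL.2 ⟨V, hV⟩
  obtain ⟨n₀, hn⟩ := isRelVeryAmplePn_tensorPow_of_isAmple (g ∣_ V) hA
  obtain ⟨m, i, himm, hi, -⟩ := hn n₀ le_rfl
  refine ⟨m, i, himm, ?_, hi⟩
  have h0 : IsSeparated (CohB1.ProjSpaceOver.toBase m (V : Scheme.{u})) :=
    MorphismProperty.pullback_snd _ _ (isSeparated_toSpec m)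
  have h1 : QuasiCompact (i ≫ CohB1.ProjSpaceOver.toBase m (V : Scheme.{u})) := by
    have h2 : i ≫ CohB1.ProjSpaceOver.toBase m (V : Scheme.{u}) = g ∣_ V := hi
    rw [h2]
    infer_instance
  exact QuasiCompact.of_comp i (CohB1.ProjSpaceOver.toBase m (V : Scheme.{u}))

end Groth.Agent.Lib.Ample.VA
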