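import Groth.Agent.Lib.Ample.Helper50_Basis
import Groth.Agent.Lib.Ample.Helper50_GenOn

/-!
# AMPLE tools (helper50): Serre's theorem for an ample `L`, in `GenOn` form

Namespace `Groth.Agent.Lib.Ample`.

* `isGloballyGenerated_of_iso_h50`.
* `exists_forall_exists_genOn_of_isAmple` : `X` qcqs, `L` ample, `F` quasi-coherent of finite type:
  for `n ≫ 0` every point has an affine neighbourhood over which `F ⊗ L^n` is generated by global
  sections.
* `exists_mem_genLocus_of_genOn` : an invertible module generated over `V ∋ x` by global sections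
  (and free on a generator over `V`) has a global section generating it at `x`.
* `exists_forall_mem_genLocus_of_isAmple` : for `N` invertible and `n ≫ 0`, every point lies in the
  generating locus of a global section of `N ⊗ L^n`.
-/

universe u

open CategoryTheory MonoidalCategory Opposite TensorProduct AlgebraicGeometry TopologicalSpace

namespace Groth.Agent.Lib.Ample

open Groth.Agent.Lib.QCoh CohB1 Scheme.Modules

variable {X : Scheme.{u}}

theorem isGloballyGenerated_of_iso_h50 {G G' : X.Modules} (θ : G ≅ G')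
    (h : Curv2.IsGloballyGenerated G) : Curv2.IsGloballyGenerated G' := by
  obtain ⟨ι, p, hp⟩ := h
  let p₀ : freeModule X ι ⟶ G := p
  have hp₀ : Epi p₀ := hp
  have h2 : Epi (p₀ ≫ θ.hom) := epi_comp _ _
  exact ⟨ι, p₀ ≫ θ.hom, h2⟩

/-- **Serre's theorem, local form**: for `n ≫ 0`, `F ⊗ L^n` is generated by global sections over an
affine neighbourhood of every point. -/
theorem exists_forall_exists_genOn_of_isAmple [QuasiSeparatedSpace X] {L : X.Modules}
    (hL : IsAmple L) (F : X.Modules) [F.IsQuasicoherent] [F.IsFiniteType] :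
    ∃ n₀ : ℕ, ∀ n, n₀ ≤ n → ∀ x : X, ∃ W : X.Opens, IsAffineOpen W ∧ x ∈ W ∧
      GenOn (tensorMod F (tensorPow L n)) W := by
  classical
  obtain ⟨hLinv, hc, hamp⟩ := hL
  have hLq : L.IsQuasicoherent := isQuasicoherent_of_isInvertible hLinv
  choose n s hx haff using hamp
  obtain ⟨T, hT⟩ := isCompact_univ.elim_finite_subcover
    (fun x : X => ((genLocus _ (s x) : X.Opens) : Set X))
    (fun x => (genLocus _ (s x)).isOpen)
    (fun y _ => Set.mem_iUnion.2 ⟨y, hx y⟩)
  have key : ∀ x : X, ∃ N : ℕ, ∀ m, N ≤ m →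
      GenOn (tensorMod F (tensorPow L m)) (genLocus _ (s x)) := by
    intro x
    have hM : PicF.IsInvertible (tensorPow L (n x + 1)) := isInvertible_tensorPow hLinv _
    have h1 : ∀ r : ℕ, ∃ k₀ : ℕ, ∀ k, k₀ ≤ k →
        GenOn (tensorMod F (tensorPow L (r + (n x + 1) * k))) (genLocus _ (s x)) := by
      intro r
      have hLr : PicF.IsInvertible (tensorPow L r) := isInvertible_tensorPow hLinv _
      have hLrq : (tensorPow L r).IsQuasicoherent := isQuasicoherent_of_isInvertible hLr
      have hLrt : (tensorPow L r).IsFiniteType := isFiniteType_of_isInvertible hLr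
      have hGq : (tensorMod F (tensorPow L r)).IsQuasicoherent := isQuasicoherent_tensorMod _ _
      have hGt : (tensorMod F (tensorPow L r)).IsFiniteType := isFiniteType_tensorMod _ _
      obtain ⟨k₀, hk₀⟩ := exists_genOn_twistIter (tensorMod F (tensorPow L r)) hM (s x)
        (finite_Γ_of_isAffineOpen (haff x) _)
      exact ⟨k₀, fun k hk => (hk₀ k hk).of_iso (twistIterPowIso F L r (n x + 1) k)⟩
    choose k₀ hk₀ using h1
    refine ⟨(n x + 1) * (Finset.range (n x + 1)).sup k₀, fun m hm => ?_⟩
    have hr : m % (n x + 1) < n x + 1 := Nat.mod_lt _ (Nat.succ_pos _)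
    have hk : (Finset.range (n x + 1)).sup k₀ ≤ m / (n x + 1) := by
      rw [Nat.le_div_iff_mul_le (Nat.succ_pos _), mul_comm]
      exact hm
    have hk' : k₀ (m % (n x + 1)) ≤ m / (n x + 1) :=
      (Finset.le_sup (Finset.mem_range.2 hr)).trans hk
    have h2 := hk₀ (m % (n x + 1)) (m / (n x + 1)) hk'
    rw [Nat.mod_add_div] at h2
    exact h2
  choose N hN using key
  refine ⟨T.sup N, fun m hm y => ?_⟩
  obtain ⟨x, hx'⟩ := Set.mem_iUnion.1 (hT (Set.mem_univ y))
  obtain ⟨hxT, hy⟩ := Set.mem_iUnion.1 hx'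
  exact ⟨_, haff x, hy, hN x m ((Finset.le_sup hxT).trans hm)⟩

/-- an invertible module generated over `V ∋ x` by global sections, and free on a generator
over `V`, has a global section generating it at `x` -/
theorem exists_mem_genLocus_of_genOn {N : X.Modules} {V : X.Opens} {e : Γ(N, V)}
    (he : IsGenerator N V e) (h : GenOn N V) (x : X) (hx : x ∈ V) :
    ∃ t : Γ(N, ⊤), x ∈ genLocus N (homOfSec N t) := by
  have hid : N.presheaf.map (homOfLE (le_refl V)).op e = e := by
    have h2 : (homOfLE (le_refl V)) = 𝟙 V := rfl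
    rw [h2, op_id, N.presheaf.map_id]
    rfl
  have hbij : Function.Bijective (fun a : Γ(X, V) => a • e) := by
    have := he.bijective (le_refl V)
    rwa [hid] at this
  have key : ∀ y : Γ(N, V), y ∈ Submodule.span Γ(X, V) (Set.range (resTop N V)) →
      ∀ f : Γ(X, V), y = f • e → x ∈ X.basicOpen f →
        ∃ t : Γ(N, ⊤), x ∈ genLocus N (homOfSec N t) := by
    intro y hy
    induction hy using Submodule.span_induction with
    | mem y hy =>
      obtain ⟨t, rfl⟩ := hy
      intro f hf hxf
      refine ⟨t, ?_⟩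
      have h1 := genLocus_inf_eq_basicOpen (homOfSec N t) V e he f (by
        rw [secOf_homOfSec]; exact hf)
      have : x ∈ genLocus N (homOfSec N t) ⊓ V := by rw [h1]; exact hxf
      exact this.1
    | zero =>
      intro f hf hxf
      have : f = 0 := hbij.1 (by simp only [zero_smul]; exact hf.symm)
      rw [this, Scheme.basicOpen_zero] at hxf
      exact absurd hxf (by simp)
    | add y₁ y₂ _ _ ih₁ ih₂ =>
      intro f hf hxf
      obtain ⟨f₁, hf₁⟩ := hbij.2 y₁
      obtain ⟨f₂, hf₂⟩ := hbij.2 y₂
      have : f = f₁ + f₂ := hbij.1 (by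
        simp only [add_smul]
        rw [← hf]
        exact congrArg₂ (· + ·) hf₁.symm hf₂.symm)
      rw [this] at hxf
      rcases X.basicOpen_add_le f₁ f₂ hxf with h' | h'
      · exact ih₁ f₁ hf₁.symm h'
      · exact ih₂ f₂ hf₂.symm h'
    | smul a y _ ih =>
      intro f hf hxf
      obtain ⟨f', hf'⟩ := hbij.2 y
      have : f = a * f' := hbij.1 (by
        simp only [mul_smul]
        rw [← hf]
        exact congrArg (a • ·) hf'.symm)
      rw [this, Scheme.basicOpen_mul] at hxf
      exact ih f' hf'.symm hxf.2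
  rw [genOn_iff] at h
  refine key e (h e) 1 (one_smul _ e).symm ?_
  rw [Scheme.basicOpen_of_isUnit _ isUnit_one]
  exact hx

/-- for `L` ample and `N` invertible, for `n ≫ 0` every point lies in the generating locus of
a global section of `N ⊗ L^n` -/
theorem exists_forall_mem_genLocus_of_isAmple [QuasiSeparatedSpace X] {L : X.Modules}
    (hL : IsAmple L) {N : X.Modules} (hN : PicF.IsInvertible N) :
    ∃ n₀ : ℕ, ∀ n, n₀ ≤ n → ∀ x : X, ∃ t : Γ(tensorMod N (tensorPow L n), ⊤),
      x ∈ genLocus _ (homOfSec (tensorMod N (tensorPow L n)) t) := by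
  have hNq : N.IsQuasicoherent := isQuasicoherent_of_isInvertible hN
  have hNt : N.IsFiniteType := isFiniteType_of_isInvertible hN
  obtain ⟨n₀, h⟩ := exists_forall_exists_genOn_of_isAmple hL N
  refine ⟨n₀, fun n hn x => ?_⟩
  obtain ⟨W, hW, hxW, hgen⟩ := h n hn x
  have hG : PicF.IsInvertible (tensorMod N (tensorPow L n)) :=
    isInvertible_tensorMod hN (isInvertible_tensorPow hL.1 n)
  have hGq : (tensorMod N (tensorPow L n)).IsQuasicoherent := isQuasicoherent_of_isInvertible hG
  obtain ⟨U, -, hxU, hUW, e, he⟩ := exists_isAffineOpen_isGenerator_of_isInvertible hG x W hxW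
  obtain ⟨g, hgU, hxg⟩ := hW.exists_basicOpen_le (V := U) ⟨x, hxU⟩ hxW
  exact exists_mem_genLocus_of_genOn (he.res hgU) (hgen.basicOpen hW g) x hxg

end Groth.Agent.Lib.Ample
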