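import Groth.Agent.Lib.Ample.Helper50_IdealTwist
import Groth.Agent.Lib.Ample.Helper50_CounitGG
import Groth.Agent.Lib.Ample.Helper50_Serre
import Groth.Agent.Lib.QCoh.TensorPic
import Groth.Agent.Lib.QCoh.TensorRestrict

/-!
# Relative ampleness from epimorphic counits on twisted finite type ideals (helper50)

EGA II 4.6.8.  ns `Groth.Agent.Lib.Ample.RelIdeal`.
-/

universe u

open CategoryTheory CategoryTheory.Limits MonoidalCategory Opposite TensorProduct AlgebraicGeometry
  TopologicalSpace

namespace Groth.Agent.Lib.Ample.RelIdeal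

open Groth.Agent.Lib.QCoh CohB1 Scheme.Modules Groth.Agent.Lib.Ample
open Groth.Agent.Lib.QCoh.FTIdeal Groth.Agent.Lib.Ample.IdealTwist
open Groth.Agent.Lib.QCoh.SubExt Groth.Agent.Lib.QCoh.QAffIdeal

variable {X : Scheme.{u}}

/-- variant of `isAmple_of_forall_fg_ideal` with an arbitrary generating family -/
theorem isAmple_of_forall_fg_ideal' [CompactSpace X] [QuasiSeparatedSpace X] {L : X.Modules}
    (hL : PicF.IsInvertible L)
    (h : ∀ I : X.IdealSheafData, (∀ V : X.affineOpens, (I.ideal V).FG) →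
      ∃ n : ℕ, Curv2.IsGloballyGenerated (tensorMod (ClSub.idealMod I) (tensorPow L (n + 1)))) :
    IsAmple L := by
  refine ⟨hL, inferInstance, fun x => ?_⟩
  obtain ⟨V, hV, hxV, -⟩ := exists_isAffineOpen_mem_and_subset (x := x) (U := ⊤) trivial
  obtain ⟨I, hfg, hsupp, htop⟩ := exists_fg_ideal_support_eq_compl V hV.isCompact
  obtain ⟨n, ι, p, hp⟩ := h I hfg
  let p' : freeModule X ι ⟶ tensorMod (ClSub.idealMod I) (tensorPow L (n + 1)) := p
  have hp' : Epi p' := hp
  obtain ⟨s, hxs, haff⟩ := exists_affine_genLocus (isInvertible_tensorPow hL (n + 1)) p' hV hsupp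
    htop x hxV
  exact ⟨n, s, hxs, haff⟩

variable {Y : Scheme.{u}}

/-- **EGA II 4.6.8, (c') ⟹ (a)**: relative ampleness from epimorphic counits on twisted ideals of
finite type -/
theorem isRelAmple_of_forall_ideal [CompactSpace X] [QuasiSeparatedSpace X] (f : X ⟶ Y)
    [QuasiCompact f] [QuasiSeparated f] (L : X.Modules) (hL : PicF.IsInvertible L)
    (h : ∀ (J : X.Modules) (i : J ⟶ Coh.structureModule X), Mono i → J.IsQuasicoherent →
      J.IsFiniteType → ∃ n : ℕ, 0 < n ∧
        Epi ((pullbackPushforwardAdjunction f).counit.app (tensorMod J (tensorPow L n)))) :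
    RelAmple.IsRelAmple f L := by
  refine ⟨inferInstance, fun V => ?_⟩
  set U : X.Opens := f ⁻¹ᵁ V.1 with hU
  have hUc : IsCompact (U : Set X) := f.isCompact_preimage V.2.isCompact
  have : CompactSpace (U : Scheme.{u}) := isCompact_iff_compactSpace.mp hUc
  have : QuasiSeparatedSpace (U : Scheme.{u}) := quasiSeparatedSpace_of_quasiSeparated U.ι
  have hLU : PicF.IsInvertible (L.restrict U.ι) := isInvertible_restrict U.ι hL
  have hLq : L.IsQuasicoherent := isQuasicoherent_of_isInvertible hL
  refine isAmple_of_forall_fg_ideal' hLU fun I' hI' => ?_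
  have hG_ft : (ClSub.idealMod I').IsFiniteType := isFiniteType_idealMod I' hI'
  let i₀ : ClSub.idealMod I' ⟶ (Coh.structureModule X).restrict U.ι :=
    ClSub.idealModι I' ≫ (restrictUnitIso U.ι).inv
  have hmono₀ : Mono (ClSub.idealModι I') := by
    unfold ClSub.idealModι
    exact equalizer.ι_mono
  have hi₀ : Mono i₀ := mono_comp _ _
  obtain ⟨J, j, e, hmono, hq, hft, -⟩ := master_qcqs U hUc (Coh.structureModule X)
    (ClSub.idealMod I') i₀
  obtain ⟨n, hn, hepi⟩ := h J j hmono hq hft
  obtain ⟨m, rfl⟩ : ∃ m, n = m + 1 := ⟨n - 1, by omega⟩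
  have hPq : (tensorPow L (m + 1)).IsQuasicoherent :=
    isQuasicoherent_of_isInvertible (isInvertible_tensorPow hL (m + 1))
  have hTq : (tensorMod J (tensorPow L (m + 1))).IsQuasicoherent := isQuasicoherent_tensorMod _ _
  have hgg := Counit.isGloballyGenerated_restrict_of_epi_counit f
    (tensorMod J (tensorPow L (m + 1))) hepi V.1 V.2
  refine ⟨m, isGloballyGenerated_of_iso_h50 ?_ hgg⟩
  exact restrictTensorModIso U.ι J (tensorPow L (m + 1)) ≪≫
    tensorModCongr e (restrictTensorPowIso U.ι L (m + 1))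

end Groth.Agent.Lib.Ample.RelIdeal
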