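import Groth.Agent.Lib.Ample.Helper50_CounitGG
import Groth.Agent.S9691

/-!
# AMPLE tools (helper50): `L ⊗ L'` is relatively ample when `L` is and a power of `L'` is
relatively generated

Namespace `Groth.Agent.Lib.Ample.Counit`.
-/

universe u

open CategoryTheory CategoryTheory.Limits MonoidalCategory Opposite TensorProduct AlgebraicGeometry
  TopologicalSpace

namespace Groth.Agent.Lib.Ample.Counit

open Groth.Agent.Lib.QCoh CohB1 Scheme.Modules Groth.Agent.Lib.Ample

variable {X Y : Scheme.{u}}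

theorem isRelAmple_tensorMod_of_epi_counit (f : X ⟶ Y) (L L' : X.Modules)
    (hL : RelAmple.IsRelAmple f L) (hL' : PicF.IsInvertible L') (n : ℕ) (hn : 0 < n)
    (hepi : Epi ((pullbackPushforwardAdjunction f).counit.app (tensorPow L' n))) :
    RelAmple.IsRelAmple f (tensorMod L L') := by
  have hqc : QuasiCompact f := hL.1
  have hsep : IsSeparated f := Groth.Agent.S9691.result f L hL
  have hLn : PicF.IsInvertible (tensorPow L' n) := isInvertible_tensorPow hL' n
  have hLnq : (tensorPow L' n).IsQuasicoherent := isQuasicoherent_of_isInvertible hLn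
  refine ⟨hqc, fun V => ?_⟩
  have hgg := isGloballyGenerated_restrict_of_epi_counit f (tensorPow L' n) hepi V.1 V.2
  have hinvA : PicF.IsInvertible (L'.restrict (f ⁻¹ᵁ V.1).ι) := isInvertible_restrict _ hL'
  obtain ⟨m, rfl⟩ : ∃ m, n = m + 1 := Nat.exists_eq_succ_of_ne_zero hn.ne'
  have hinvAn : PicF.IsInvertible ((tensorPow L' (m + 1)).restrict (f ⁻¹ᵁ V.1).ι) :=
    isInvertible_restrict _ hLn
  have key : IsAmple (tensorMod (L.restrict (f ⁻¹ᵁ V.1).ι) (L'.restrict (f ⁻¹ᵁ V.1).ι)) := by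
    refine isAmple_tensorMod (hL.2 V) hinvA fun x => ?_
    obtain ⟨t, ht⟩ := exists_mem_genLocus_of_isGloballyGenerated hinvAn hgg x
    refine ⟨m, t ≫ (restrictTensorPowIso (f ⁻¹ᵁ V.1).ι L' (m + 1)).hom, ?_⟩
    rw [genLocus_comp_iso]
    exact ht
  exact isAmple_of_iso (restrictTensorModIso (f ⁻¹ᵁ V.1).ι L L').symm key

end Groth.Agent.Lib.Ample.Counit
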