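import Groth.Agent.Lib.Ample.Helper50_Extension

/-!
# AMPLE (B), part (i) (helper50): multiplication by `s` is an isomorphism over `genLocus L s`

Namespace `Groth.Agent.Lib.Ample`.

* `isGenerator_secOn_of_le_genLocus` : over `V ≤ genLocus L s`, `s|V` is a generator of `L`.
* `bijective_twistHom_app`, `bijective_sigmaHom_app` : `x ↦ x ⊗ s` and `x ↦ x ⊗ s^n` are bijective
  on sections over opens `V ≤ genLocus L s`.
* `isIso_restrict_twistHom`, `isIso_restrict_sigmaHom`.
-/

universe u

open CategoryTheory MonoidalCategory Opposite TensorProduct AlgebraicGeometry TopologicalSpace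

namespace Groth.Agent.Lib.Ample

open Groth.Agent.Lib.QCoh CohB1 Scheme.Modules

variable {X : Scheme.{u}} {L : X.Modules} (s : Coh.structureModule X ⟶ L)

/-- `a • s|V = s(a)` -/
lemma smul_secOn (V : X.Opens) (a : Γ(X, V)) :
    a • secOn s V = s.app V (show Γ(Coh.structureModule X, V) from a) :=
  (app_apply s V a).symm

/-- over its generating locus, the section `s` is a generator of `L`. -/
theorem isGenerator_secOn_of_le_genLocus {V : X.Opens} (hV : V ≤ genLocus L s) :
    IsGenerator L V (secOn s V) := by
  rw [isGenerator_iff]
  intro W hW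
  have h1 : Function.Bijective (s.app W) := (le_genLocus_iff' L s V).1 hV W hW
  have h2 : (fun a : Γ(X, W) => a • L.presheaf.map (homOfLE hW).op (secOn s V)) =
      (fun a : Γ(X, W) => s.app W (show Γ(Coh.structureModule X, W) from a)) := by
    funext a
    rw [secOn_res s (homOfLE hW)]
    exact smul_secOn s W a
  rw [h2]
  exact h1

variable (G : X.Modules)

/-- `x ↦ x ⊗ s` is bijective on sections over opens contained in `genLocus L s`. -/
theorem bijective_twistHom_app {V : X.Opens} (hV : V ≤ genLocus L s) :
    Function.Bijective ((twistHom G s).app V) := by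
  have he := isGenerator_secOn_of_le_genLocus s hV
  have h1 := bijective_tmulSect_of_isGenerator (F := G) he (le_refl V)
  have h2 : (fun x : Γ(G, V) => tmulSect G L x
      (L.presheaf.map (homOfLE (le_refl V)).op (secOn s V))) =
      (fun x : Γ(G, V) => (twistHom G s).app V x) := by
    funext x
    rw [secOn_res s (homOfLE (le_refl V)), twistHom_app]
  rw [h2] at h1
  exact h1

/-- `x ↦ x ⊗ s^n` is bijective on sections over opens contained in `genLocus L s`. -/
theorem bijective_sigmaHom_app (F : X.Modules) {V : X.Opens} (hV : V ≤ genLocus L s) (n : ℕ) :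
    Function.Bijective ((sigmaHom F s n).app V) := by
  induction n with
  | zero =>
    rw [sigmaHom_zero]
    exact Function.bijective_id
  | succ n ih =>
    rw [sigmaHom_succ]
    exact (bijective_twistHom_app s (twistIter F L n) hV).comp ih

instance isIso_restrict_twistHom :
    IsIso ((restrictFunctor (genLocus L s).ι).map (twistHom G s)) :=
  (isIso_restrict_iff_bijective _ _).2 (fun _ hV => bijective_twistHom_app s G hV)

instance isIso_restrict_sigmaHom (F : X.Modules) (n : ℕ) :
    IsIso ((restrictFunctor (genLocus L s).ι).map (sigmaHom F s n)) :=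
  (isIso_restrict_iff_bijective _ _).2 (fun _ hV => bijective_sigmaHom_app s F hV n)

end Groth.Agent.Lib.Ample
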