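import Groth.Agent.Lib.Ample.GlobGenSection

/-!
# Base point freeness from a stalkwise spanning family (helper50)

`exists_mem_genLocus_of_span_eq_top` : the body of lead's `exists_mem_genLocus_of_isGloballyGenerated`
with the spanning hypothesis exposed.   ns `Groth.Agent.Lib.Ample.SpanGen`.
-/

universe u
open CategoryTheory CategoryTheory.Limits AlgebraicGeometry TopologicalSpace Opposite

namespace Groth.Agent.Lib.Ample.SpanGen

open Scheme.Modules Groth.Agent.Lib.QCoh Groth.Agent.Lib.Ample

variable {X : Scheme.{u}}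

/-- if the germs at `x` of the sections `t i` span the stalk of the invertible module `L`, then `x`
lies in the generating locus of some `t i` -/
theorem exists_mem_genLocus_of_span_eq_top {L : X.Modules} (hL : PicF.IsInvertible L) {ι : Type*}
    (t : ι → (Coh.structureModule X ⟶ L)) (x : X)
    (hspan : Submodule.span (X.presheaf.stalk x) (Set.range fun i : ι =>
      stalkMap (t i) x (germOne x)) = ⊤) :
    ∃ i, x ∈ CohB1.genLocus L (t i) := by
  obtain ⟨U, hxU, e, he⟩ := exists_isGenerator_of_isInvertible hL x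
  obtain ⟨ε, hε⟩ : ∃ ε : L.presheaf.stalk x, ε = L.presheaf.germ U x hxU e := ⟨_, rfl⟩
  -- coefficients of the sections `t i`
  have hc : ∀ i : ι, ∃ c : Γ(X, U), resSec L (le_top : U ≤ ⊤) (secOf (t i)) = c • e :=
    fun i => exists_eq_smul_of_isGenerator he _
  choose c hc using hc
  by_contra hcon
  have hcon : ∀ i, x ∉ CohB1.genLocus L (t i) := fun i hi => hcon ⟨i, hi⟩
  -- all the `c i` are non-units at `x`
  have hnu : ∀ i, X.presheaf.germ U x hxU (c i) ∈ IsLocalRing.maximalIdeal (X.presheaf.stalk x) := by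
    intro i
    rw [IsLocalRing.mem_maximalIdeal, mem_nonunits_iff]
    intro hu
    have h1 : x ∈ X.basicOpen (c i) := (X.mem_basicOpen (c i) x hxU).2 hu
    have h2 := genLocus_inf_eq_basicOpen (t i) U e he (c i) (hc i)
    rw [← h2] at h1
    exact hcon _ h1.1
  have hg : ∀ i, stalkMap (t i) x (germOne x) = X.presheaf.germ U x hxU (c i) • ε := by
    intro i
    have e1 := stalkMap_germOne (t i) x
    have e2 : L.presheaf.germ ⊤ x trivial (secOf (t i)) =
        L.presheaf.germ U x hxU (resSec L (le_top : U ≤ ⊤) (secOf (t i))) :=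
      (TopCat.Presheaf.germ_res_apply L.presheaf (homOfLE (le_top : U ≤ ⊤)) x hxU _).symm
    have e3 : L.presheaf.germ U x hxU (resSec L (le_top : U ≤ ⊤) (secOf (t i))) =
        L.presheaf.germ U x hxU (c i • e) := congrArg _ (hc i)
    have e4 := germ_smul L x U hxU (c i) e
    rw [hε]
    exact e1.trans (e2.trans (e3.trans e4))
  have key : ∀ y ∈ Submodule.span (X.presheaf.stalk x) (Set.range fun i : ι =>
      stalkMap (t i) x (germOne x)),
      ∃ a ∈ IsLocalRing.maximalIdeal (X.presheaf.stalk x), y = a • ε := by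
    intro y hy
    induction hy using Submodule.span_induction with
    | mem y hy =>
      obtain ⟨i, rfl⟩ := hy
      exact ⟨_, hnu i, hg i⟩
    | zero => exact ⟨0, Ideal.zero_mem _, (zero_smul _ _).symm⟩
    | add y z _ _ hy hz =>
      obtain ⟨a, ha, rfl⟩ := hy
      obtain ⟨b, hb, rfl⟩ := hz
      exact ⟨a + b, Ideal.add_mem _ ha hb, (add_smul _ _ _).symm⟩
    | smul r y _ hy =>
      obtain ⟨a, ha, rfl⟩ := hy
      exact ⟨r * a, Ideal.mul_mem_left _ r ha, (mul_smul _ _ _).symm⟩
  obtain ⟨a, ha, hεa⟩ := key ε (hspan ▸ Submodule.mem_top)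
  have hu : IsUnit (1 - a) := IsLocalRing.isUnit_one_sub_self_of_mem_nonunits a ha
  have hε0 : ε = 0 := by
    have h1 : (1 - a) • ε = 0 := by rw [sub_smul, one_smul, ← hεa, sub_self]
    obtain ⟨v, hv⟩ := hu
    have h2 := congrArg (fun t => (↑v⁻¹ : X.presheaf.stalk x) • t) h1
    simp only [smul_zero] at h2
    rw [← hv, ← mul_smul, Units.inv_mul, one_smul] at h2
    exact h2
  -- so `e` vanishes near `x`, contradicting that it is a free generator
  have h0 : L.presheaf.germ U x hxU e = L.presheaf.germ U x hxU 0 := by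
    rw [map_zero, ← hε]; exact hε0
  obtain ⟨W, hxW, iU, iV, hW⟩ := TopCat.Presheaf.germ_eq L.presheaf x hxU hxU _ _ h0
  have hWU : W ≤ U := iU.le
  have h1 : resSec L hWU e = 0 := by
    have : iU = homOfLE hWU := Subsingleton.elim _ _
    subst this
    exact hW.trans (map_zero _)
  have h2 : (1 : Γ(X, W)) = 0 := by
    apply (he W hWU).1
    change (1 : Γ(X, W)) • resSec L hWU e = (0 : Γ(X, W)) • resSec L hWU e
    rw [h1, smul_zero, smul_zero]
  have h3 := congrArg (X.presheaf.germ W x hxW) h2
  rw [map_one, map_zero] at h3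
  exact one_ne_zero h3

end Groth.Agent.Lib.Ample.SpanGen
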