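import Groth.Agent.Lib.Ample.Helper50_FreeGen
import Groth.Agent.Lib.Helper48.InvGen

/-!
# A module with a tensor inverse is invertible (helper50)

ns `Groth.Agent.Lib.Ample.TensorInv`.  If `L ⊗ N ≅ O_X` then `L` is locally free of rank one.
No quasi-coherence is assumed.
-/

set_option autoImplicit false
universe u

open CategoryTheory MonoidalCategory Opposite TensorProduct AlgebraicGeometry TopologicalSpace

namespace Groth.Agent.Lib.Ample.TensorInv

open Groth.Agent.Lib.QCoh CohB1 Groth.Agent.Lib.Ample

variable {X : Scheme.{u}} {L N : X.Modules} (e : tensorMod L N ≅ Coh.structureModule X)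

/-- the pairing `Γ(L, V) × Γ(N, V) → Γ(X, V)` given by `e` -/
noncomputable def pairing (V : X.Opens) (l : Γ(L, V)) (n : Γ(N, V)) : Γ(X, V) :=
  e.hom.app V (tmulSect L N l n)

lemma pairing_add_left (V : X.Opens) (l l' : Γ(L, V)) (n : Γ(N, V)) :
    pairing e V (l + l') n = pairing e V l n + pairing e V l' n := by
  unfold pairing
  rw [tmulSect_add_left]
  exact map_add (e.hom.app V).hom _ _

lemma pairing_add_right (V : X.Opens) (l : Γ(L, V)) (n n' : Γ(N, V)) :
    pairing e V l (n + n') = pairing e V l n + pairing e V l n' := by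
  unfold pairing
  rw [tmulSect_add_right]
  exact map_add (e.hom.app V).hom _ _

lemma pairing_smul_left (V : X.Opens) (a : Γ(X, V)) (l : Γ(L, V)) (n : Γ(N, V)) :
    pairing e V (a • l) n = a * pairing e V l n := by
  unfold pairing
  rw [tmulSect_smul_left]
  exact Scheme.Modules.Hom.app_smul e.hom a _

lemma pairing_smul_right (V : X.Opens) (a : Γ(X, V)) (l : Γ(L, V)) (n : Γ(N, V)) :
    pairing e V l (a • n) = a * pairing e V l n := by
  unfold pairing
  rw [tmulSect_smul_right]
  exact Scheme.Modules.Hom.app_smul e.hom a _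

lemma pairing_res {V W : X.Opens} (h : W ≤ V) (l : Γ(L, V)) (n : Γ(N, V)) :
    pairing e W (L.presheaf.map (homOfLE h).op l) (N.presheaf.map (homOfLE h).op n) =
      X.presheaf.map (homOfLE h).op (pairing e V l n) := by
  unfold pairing
  rw [← tmulSect_res]
  exact Lift74.app_naturality_apply' e.hom (homOfLE h) _


/-- the linear map `Γ(L,V) ⊗ Γ(N,V) → Γ(L,V)`, `m ⊗ n' ↦ ⟨l, n'⟩ • m` -/
noncomputable def contract (V : X.Opens) (l : Γ(L, V)) :
    (preTensor L N).obj (op V) →ₗ[Γ(X, V)] ((incl X).obj L).obj (op V) :=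
  TensorProduct.lift (LinearMap.mk₂ Γ(X, V)
    (fun (m : ((incl X).obj L).obj (op V)) (n' : ((incl X).obj N).obj (op V)) =>
      (pairing e V l (show Γ(N, V) from n')) • m)
    (fun m m' n' => smul_add _ m m')
    (fun c m n' => smul_comm _ c m)
    (fun m n' n'' => by
      have := pairing_add_right e V l (show Γ(N, V) from n') (show Γ(N, V) from n'')
      change (pairing e V l ((show Γ(N, V) from n') + (show Γ(N, V) from n''))) • m = _
      rw [this, add_smul])
    (fun c m n' => by
      have := pairing_smul_right e V c l (show Γ(N, V) from n')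
      change (pairing e V l (c • (show Γ(N, V) from n'))) • m = _
      rw [this, mul_smul]))

lemma contract_tmul (V : X.Opens) (l : Γ(L, V)) (m : Γ(L, V)) (n' : Γ(N, V)) :
    contract e V l ((show (((incl X).obj L).obj (op V) : Type u) from m) ⊗ₜ[Γ(X, V)]
      (show (((incl X).obj N).obj (op V) : Type u) from n')) =
      (show (((incl X).obj L).obj (op V) : Type u) from (pairing e V l n') • m) := by
  exact TensorProduct.lift.tmul _ _


lemma hom_app_injective (V : X.Opens) : Function.Injective (e.hom.app V) := by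
  intro a b hab
  have h1 : ∀ c : Γ(tensorMod L N, V), e.inv.app V (e.hom.app V c) = c := by
    intro c
    have := congrArg (fun φ => (Scheme.Modules.Hom.app φ V) c) e.hom_inv_id
    exact this
  rw [← h1 a, ← h1 b, hab]

/-- **key**: sections `l`, `n` over `W` with `⟨l, n⟩ = 1`: then `l` freely generates `L` over `W` -/
theorem isGenerator_of_pairing_eq_one {W : X.Opens} (l : Γ(L, W)) (n : Γ(N, W))
    (h : pairing e W l n = 1) : IsGenerator L W l := by
  rw [isGenerator_iff]
  intro V hV
  have hV1 : pairing e V (L.presheaf.map (homOfLE hV).op l) (N.presheaf.map (homOfLE hV).op n) = 1 := by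
    rw [pairing_res, h, map_one]
  constructor
  · intro r r' hrr
    have := congrArg (fun m => pairing e V m (N.presheaf.map (homOfLE hV).op n)) hrr
    simp only [pairing_smul_left, hV1, mul_one] at this
    exact this
  · intro m
    refine ⟨pairing e V m (N.presheaf.map (homOfLE hV).op n), ?_⟩
    set r := pairing e V m (N.presheaf.map (homOfLE hV).op n) with hr
    set lV := L.presheaf.map (homOfLE hV).op l with hlV
    set nV := N.presheaf.map (homOfLE hV).op n with hnV
    have htm : tmulSect L N (r • lV) nV = tmulSect L N m nV := by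
      apply hom_app_injective e V
      change pairing e V (r • lV) nV = pairing e V m nV
      rw [pairing_smul_left, hV1, mul_one]
    have key : ∀ p : V, ∃ (W' : X.Opens) (hW' : W' ≤ V), p.1 ∈ W' ∧
        L.presheaf.map (homOfLE hW').op (r • lV) = L.presheaf.map (homOfLE hW').op m := by
      intro p
      obtain ⟨W', hW', hpW', hy⟩ := exists_nbhd_eq_of_WX (tensorUnit L N) (WX_tensorUnit L N)
        ((show (((incl X).obj L).obj (op V) : Type u) from (r • lV)) ⊗ₜ[Γ(X, V)]
          (show (((incl X).obj N).obj (op V) : Type u) from nV))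
        ((show (((incl X).obj L).obj (op V) : Type u) from m) ⊗ₜ[Γ(X, V)]
          (show (((incl X).obj N).obj (op V) : Type u) from nV))
        htm p.1 p.2
      refine ⟨W', hW', hpW', ?_⟩
      have h2 := congrArg (contract e W' (L.presheaf.map (homOfLE hW').op lV)) hy
      have h3 : pairing e W' (L.presheaf.map (homOfLE hW').op lV)
          (N.presheaf.map (homOfLE hW').op nV) = 1 := by
        rw [pairing_res, hV1, map_one]
      have h4 := contract_tmul e W' (L.presheaf.map (homOfLE hW').op lV)
        (L.presheaf.map (homOfLE hW').op (r • lV)) (N.presheaf.map (homOfLE hW').op nV)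
      have h5 := contract_tmul e W' (L.presheaf.map (homOfLE hW').op lV)
        (L.presheaf.map (homOfLE hW').op m) (N.presheaf.map (homOfLE hW').op nV)
      rw [h3, one_smul] at h4 h5
      exact h4.symm.trans (h2.trans h5)
    choose W' hW' hpW' hx using key
    refine sections_ext_of_cover L W' V hW' ?_ _ _ hx
    intro p hp
    exact Opens.mem_iSup.2 ⟨⟨p, hp⟩, hpW' ⟨p, hp⟩⟩


lemma hom_app_inv_app (V : X.Opens) (c : Γ(Coh.structureModule X, V)) :
    e.hom.app V (e.inv.app V c) = c := by
  have := congrArg (fun φ => (Scheme.Modules.Hom.app φ V) c) e.inv_hom_id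
  exact this

/-- the function attached to an element of the presheaf tensor product -/
noncomputable def fnOfPre (V : X.Opens) (y : (preTensor L N).obj (op V)) : Γ(X, V) :=
  e.hom.app V (show Γ(tensorMod L N, V) from (tensorUnit L N).app (op V) y)

lemma fnOfPre_zero (V : X.Opens) : fnOfPre e V 0 = 0 := by
  unfold fnOfPre
  have h1 : (tensorUnit L N).app (op V) 0 = 0 := map_zero ((tensorUnit L N).app (op V)).hom
  rw [h1]
  exact map_zero (e.hom.app V).hom

lemma fnOfPre_add (V : X.Opens) (y y' : (preTensor L N).obj (op V)) :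
    fnOfPre e V (y + y') = fnOfPre e V y + fnOfPre e V y' := by
  unfold fnOfPre
  have h1 : (tensorUnit L N).app (op V) (y + y') =
      (tensorUnit L N).app (op V) y + (tensorUnit L N).app (op V) y' :=
    map_add ((tensorUnit L N).app (op V)).hom _ _
  rw [h1]
  exact map_add (e.hom.app V).hom _ _

lemma fnOfPre_tmul (V : X.Opens) (l : Γ(L, V)) (n : Γ(N, V)) :
    fnOfPre e V ((show (((incl X).obj L).obj (op V) : Type u) from l) ⊗ₜ[Γ(X, V)]
      (show (((incl X).obj N).obj (op V) : Type u) from n)) = pairing e V l n := rfl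

/-- near every point there are sections with `⟨l, n⟩ = 1` -/
theorem exists_pairing_eq_one (x : X) :
    ∃ (W : X.Opens) (_ : x ∈ W) (l : Γ(L, W)) (n : Γ(N, W)), pairing e W l n = 1 := by
  set z : Γ(tensorMod L N, ⊤) :=
    e.inv.app ⊤ (show Γ(Coh.structureModule X, ⊤) from (1 : Γ(X, ⊤))) with hz
  obtain ⟨W₀, hW₀, hxW₀, y, hy⟩ := exists_nbhd_preimage_of_WX (tensorUnit L N)
    (WX_tensorUnit L N) (V := ⊤) z x trivial
  have h1 : fnOfPre e W₀ y = 1 := by
    unfold fnOfPre
    have h2 : (show Γ(tensorMod L N, W₀) from (tensorUnit L N).app (op W₀) y) =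
        (tensorMod L N).presheaf.map (homOfLE hW₀).op z := hy
    rw [h2, Lift74.app_naturality_apply' e.hom (homOfLE hW₀) z, hz, hom_app_inv_app]
    exact map_one (X.presheaf.map (homOfLE hW₀).op).hom
  have key : ∀ y : (preTensor L N).obj (op W₀),
      IsUnit (X.presheaf.germ W₀ x hxW₀ (fnOfPre e W₀ y)) →
      ∃ (W : X.Opens) (_ : x ∈ W) (l : Γ(L, W)) (n : Γ(N, W)), pairing e W l n = 1 := by
    intro y
    induction y using TensorProduct.induction_on with
    | zero =>
      intro hu
      exfalso
      have hu' : IsUnit (X.presheaf.germ W₀ x hxW₀ (0 : Γ(X, W₀))) := by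
        rw [← fnOfPre_zero e W₀]; exact hu
      rw [map_zero] at hu'
      exact not_isUnit_zero hu'
    | tmul l n =>
      intro hu
      have hu2 : IsUnit (X.presheaf.germ W₀ x hxW₀
          (pairing e W₀ (show Γ(L, W₀) from l) (show Γ(N, W₀) from n))) := hu
      set f := pairing e W₀ (show Γ(L, W₀) from l) (show Γ(N, W₀) from n) with hf
      have hxW : x ∈ X.basicOpen f := (Scheme.mem_basicOpen _ _ _ hxW₀).2 hu2
      have hle : X.basicOpen f ≤ W₀ := X.basicOpen_le f
      have hunit : IsUnit (X.presheaf.map (homOfLE hle).op f) :=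
        RingedSpace.isUnit_res_basicOpen _ f
      refine ⟨X.basicOpen f, hxW, L.presheaf.map (homOfLE hle).op (show Γ(L, W₀) from l),
        ((hunit.unit⁻¹ : (Γ(X, X.basicOpen f))ˣ) : Γ(X, X.basicOpen f)) •
          N.presheaf.map (homOfLE hle).op (show Γ(N, W₀) from n), ?_⟩
      rw [pairing_smul_right, pairing_res, ← hf]
      exact IsUnit.val_inv_mul hunit
    | add y₁ y₂ ih₁ ih₂ =>
      intro hu
      have hu' : IsUnit (X.presheaf.germ W₀ x hxW₀ (fnOfPre e W₀ y₁ + fnOfPre e W₀ y₂)) := by
        rw [← fnOfPre_add e W₀]; exact hu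
      rw [map_add] at hu'
      rcases IsLocalRing.isUnit_or_isUnit_of_isUnit_add hu' with h | h
      · exact ih₁ h
      · exact ih₂ h
  apply key y
  rw [h1, map_one]
  exact isUnit_one

include e in
/-- **a module with a tensor inverse is invertible** -/
theorem isInvertible_of_tensorMod_iso : PicF.IsInvertible L := by
  refine Groth.Agent.Lib.Helper48.InvGen.isInvertible_of_isGenerator L fun x => ?_
  obtain ⟨W, hxW, l, n, h⟩ := exists_pairing_eq_one e x
  exact ⟨W, hxW, l, isGenerator_of_pairing_eq_one e l n h⟩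

end Groth.Agent.Lib.Ample.TensorInv
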