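import Groth.Agent.Lib.QCoh.TensorQCoh
import Groth.Agent.Lib.QCoh.Helper50_FlatBC

/-!
# AMPLE (B), part 0 (helper50): pure tensors of sections in `tensorMod F L`

Namespace `Groth.Agent.Lib.Ample`.

* `tmulSect F L V x l : Γ(tensorMod F L, V)` : the image of `x ⊗ₜ l` under the sheafification unit.
* bilinearity, balancedness over `Γ(X, V)`, compatibility with restriction.
* `WX` unpacked over opens: `exists_nbhd_eq_of_WX`, `exists_nbhd_preimage_of_WX`.
-/

universe u

open CategoryTheory MonoidalCategory Opposite TensorProduct AlgebraicGeometry TopologicalSpace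

namespace Groth.Agent.Lib.Ample

open Groth.Agent.Lib.QCoh CohB1

variable {X : Scheme.{u}}

section WXUnpack

/-- locally injective, unpacked -/
lemma exists_nbhd_eq_of_WX {P Q : PM X} (g : P ⟶ Q) (hg : WX X g) {V : X.Opens}
    (y y' : P.obj (op V)) (h : g.app (op V) y = g.app (op V) y') (p : X) (hp : p ∈ V) :
    ∃ (W : X.Opens) (hW : W ≤ V), p ∈ W ∧
      P.map (homOfLE hW).op y = P.map (homOfLE hW).op y' := by
  have h1 : Presheaf.IsLocallyInjective _ (abMap g) := hg.1
  have h2 := h1.equalizerSieve_mem (X := op V) y y' h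
  obtain ⟨W, i, hi, hpW⟩ := h2 p hp
  exact ⟨W, i.le, hpW, hi⟩

/-- locally surjective, unpacked -/
lemma exists_nbhd_preimage_of_WX {P Q : PM X} (g : P ⟶ Q) (hg : WX X g) {V : X.Opens}
    (z : Q.obj (op V)) (p : X) (hp : p ∈ V) :
    ∃ (W : X.Opens) (hW : W ≤ V), p ∈ W ∧
      ∃ y : P.obj (op W), g.app (op W) y = Q.map (homOfLE hW).op z := by
  have h1 : Presheaf.IsLocallySurjective _ (abMap g) := hg.2
  have h2 := h1.imageSieve_mem (U := V) z
  obtain ⟨W, i, hi, hpW⟩ := h2 p hp
  obtain ⟨y, hy⟩ := hi
  exact ⟨W, i.le, hpW, y, hy⟩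

end WXUnpack

section Tmul

variable (F L : X.Modules)

/-- the presheaf tensor product of the underlying presheaves of modules -/
noncomputable abbrev preTensor : PM X := (incl X).obj F ⊗ (incl X).obj L

/-- the sheafification unit of the presheaf tensor product -/
noncomputable abbrev tensorUnit : preTensor F L ⟶ (incl X).obj (tensorMod F L) :=
  (shfAdj X).unit.app (preTensor F L)

lemma WX_tensorUnit : WX X (tensorUnit F L) := WX_unit _

/-- pure tensors in the presheaf tensor product, then the sheafification unit -/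
noncomputable def tmulPre {V : X.Opens} (x : ((incl X).obj F).obj (op V))
    (l : ((incl X).obj L).obj (op V)) : ((incl X).obj (tensorMod F L)).obj (op V) :=
  (tensorUnit F L).app (op V) (x ⊗ₜ[Γ(X, V)] l)

variable {F L} in
lemma tmulPre_add_left {V : X.Opens} (x x' : ((incl X).obj F).obj (op V))
    (l : ((incl X).obj L).obj (op V)) :
    tmulPre F L (x + x') l = tmulPre F L x l + tmulPre F L x' l := by
  unfold tmulPre
  rw [TensorProduct.add_tmul]
  exact map_add ((tensorUnit F L).app (op V)).hom _ _

variable {F L} in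
lemma tmulPre_add_right {V : X.Opens} (x : ((incl X).obj F).obj (op V))
    (l l' : ((incl X).obj L).obj (op V)) :
    tmulPre F L x (l + l') = tmulPre F L x l + tmulPre F L x l' := by
  unfold tmulPre
  rw [TensorProduct.tmul_add]
  exact map_add ((tensorUnit F L).app (op V)).hom _ _

variable {F L} in
lemma tmulPre_smul_left {V : X.Opens} (a : Γ(X, V)) (x : ((incl X).obj F).obj (op V))
    (l : ((incl X).obj L).obj (op V)) :
    tmulPre F L (a • x) l = a • tmulPre F L x l := by
  unfold tmulPre
  rw [← TensorProduct.smul_tmul']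
  exact ((tensorUnit F L).app (op V)).hom.map_smul a _

variable {F L} in
lemma tmulPre_smul_right {V : X.Opens} (a : Γ(X, V)) (x : ((incl X).obj F).obj (op V))
    (l : ((incl X).obj L).obj (op V)) :
    tmulPre F L x (a • l) = a • tmulPre F L x l := by
  rw [← tmulPre_smul_left]
  unfold tmulPre
  rw [TensorProduct.smul_tmul]

variable {F L} in
lemma tmulPre_res {V W : X.Opens} (i : W ⟶ V) (x : ((incl X).obj F).obj (op V))
    (l : ((incl X).obj L).obj (op V)) :
    ((incl X).obj (tensorMod F L)).map i.op (tmulPre F L x l) =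
      tmulPre F L (((incl X).obj F).map i.op x) (((incl X).obj L).map i.op l) := by
  unfold tmulPre
  have nat := (tensorUnit F L).naturality i.op
  have h := congr($nat (x ⊗ₜ[Γ(X, V)] l))
  exact h.symm

/-- the pure tensor `x ⊗ l` as a section of `tensorMod F L` -/
noncomputable def tmulSect {V : X.Opens} (x : Γ(F, V)) (l : Γ(L, V)) : Γ(tensorMod F L, V) :=
  tmulPre F L x l

variable {F L}

lemma tmulSect_add_left {V : X.Opens} (x x' : Γ(F, V)) (l : Γ(L, V)) :
    tmulSect F L (x + x') l = tmulSect F L x l + tmulSect F L x' l :=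
  tmulPre_add_left _ _ _

lemma tmulSect_add_right {V : X.Opens} (x : Γ(F, V)) (l l' : Γ(L, V)) :
    tmulSect F L x (l + l') = tmulSect F L x l + tmulSect F L x l' :=
  tmulPre_add_right _ _ _

lemma tmulSect_smul_left {V : X.Opens} (a : Γ(X, V)) (x : Γ(F, V)) (l : Γ(L, V)) :
    tmulSect F L (a • x) l = a • tmulSect F L x l :=
  tmulPre_smul_left a _ _

lemma tmulSect_smul_right {V : X.Opens} (a : Γ(X, V)) (x : Γ(F, V)) (l : Γ(L, V)) :
    tmulSect F L x (a • l) = a • tmulSect F L x l :=
  tmulPre_smul_right a _ _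

lemma tmulSect_res {V W : X.Opens} (i : W ⟶ V) (x : Γ(F, V)) (l : Γ(L, V)) :
    (tensorMod F L).presheaf.map i.op (tmulSect F L x l) =
      tmulSect F L (F.presheaf.map i.op x) (L.presheaf.map i.op l) :=
  tmulPre_res i _ _

end Tmul

end Groth.Agent.Lib.Ample
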