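import Groth.Agent.Lib.Ample.Helper50_FreeGen

/-!
# AMPLE (B), part 2 (helper50): multiplication by a section `F ⟶ F ⊗ L`

Namespace `Groth.Agent.Lib.Ample`.

* `secOn s V : Γ(L, V)` : the section over `V` of a global section `s : O_X ⟶ L`.
* `twistHom F s : F ⟶ tensorMod F L`, `x ↦ x ⊗ s`; by definition
  `(tensorModRightUnitor F).inv ≫ tensorModMap (𝟙 F) s`.
* `twistHom_app : (twistHom F s).app V x = tmulSect F L x (secOn s V)`.
-/

universe u

open CategoryTheory MonoidalCategory Opposite TensorProduct AlgebraicGeometry TopologicalSpace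

namespace Groth.Agent.Lib.Ample

open Groth.Agent.Lib.QCoh CohB1

variable {X : Scheme.{u}}

/-- the section over `V` of a global section `s : O_X ⟶ L` (restriction of lead's `secOf s`) -/
noncomputable def secOn {L : X.Modules} (s : Coh.structureModule X ⟶ L) (V : X.Opens) : Γ(L, V) :=
  L.presheaf.map (homOfLE (le_top : V ≤ ⊤)).op (secOf s)

lemma secOn_eq {L : X.Modules} (s : Coh.structureModule X ⟶ L) (V : X.Opens) :
    secOn s V = s.app V (show Γ(Coh.structureModule X, V) from (1 : Γ(X, V))) :=
  (app_oneSec s V).symm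

lemma secOn_res {L : X.Modules} (s : Coh.structureModule X ⟶ L) {V W : X.Opens} (i : W ⟶ V) :
    L.presheaf.map i.op (secOn s V) = secOn s W :=
  map_map_apply L _ _ _ _

lemma secOn_top {L : X.Modules} (s : Coh.structureModule X ⟶ L) : secOn s ⊤ = secOf s := by
  unfold secOn
  have : (homOfLE (le_top : (⊤ : X.Opens) ≤ ⊤)) = 𝟙 _ := rfl
  rw [this, op_id, L.presheaf.map_id]
  rfl

/-- multiplication by a global section of `L` : `F ⟶ F ⊗ L`. -/
noncomputable def twistHom (F : X.Modules) {L : X.Modules} (s : Coh.structureModule X ⟶ L) :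
    F ⟶ tensorMod F L :=
  (tensorModRightUnitor F).inv ≫ tensorModMap (𝟙 F) s

/-- the presheaf-level version of `twistHom` -/
noncomputable def twistPre (F : X.Modules) {L : X.Modules} (s : Coh.structureModule X ⟶ L) :
    (incl X).obj F ⟶ preTensor F L :=
  (ρ_ ((incl X).obj F)).inv ≫
    ((incl X).obj F ◁ (show 𝟙_ (PM X) ⟶ (incl X).obj L from (incl X).map s))

lemma twistPre_app (F : X.Modules) {L : X.Modules} (s : Coh.structureModule X ⟶ L)
    (V : X.Opens) (x : ((incl X).obj F).obj (op V)) :
    (twistPre F s).app (op V) x =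
      x ⊗ₜ[Γ(X, V)] (show (((incl X).obj L).obj (op V) : Type u) from secOn s V) := by
  rw [secOn_eq]
  rfl

lemma incl_map_shfCounitIso_inv (F : X.Modules) :
    (incl X).map (shfCounitIso X F).inv = (shfAdj X).unit.app ((incl X).obj F) := by
  have h : (shfAdj X).unit.app ((incl X).obj F) ≫ ((incl X).mapIso (shfCounitIso X F)).hom =
      𝟙 _ := (shfAdj X).right_triangle_components F
  have h4 : (shfAdj X).unit.app ((incl X).obj F) =
      𝟙 _ ≫ ((incl X).mapIso (shfCounitIso X F)).inv := (Iso.eq_comp_inv _).2 h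
  exact (h4.trans (Category.id_comp _)).symm

lemma twistHom_eq (F : X.Modules) {L : X.Modules} (s : Coh.structureModule X ⟶ L) :
    twistHom F s = (shfCounitIso X F).inv ≫ (shf X).map (twistPre F s) := by
  have e0 : (incl X).map (𝟙 F) = 𝟙 ((incl X).obj F) := (incl X).map_id F
  have e1 : ((incl X).map (𝟙 F) ⊗ₘ
      (show 𝟙_ (PM X) ⟶ (incl X).obj L from (incl X).map s)) =
      (incl X).obj F ◁ (show 𝟙_ (PM X) ⟶ (incl X).obj L from (incl X).map s) :=
    (congrArg (fun t => t ⊗ₘ (show 𝟙_ (PM X) ⟶ (incl X).obj L from (incl X).map s)) e0).trans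
      (id_tensorHom _ _)
  have e2 : twistHom F s = ((shfCounitIso X F).inv ≫ (shf X).map (ρ_ ((incl X).obj F)).inv) ≫
      (shf X).map ((incl X).map (𝟙 F) ⊗ₘ
        (show 𝟙_ (PM X) ⟶ (incl X).obj L from (incl X).map s)) := rfl
  have e3 : (shf X).map (twistPre F s) = (shf X).map (ρ_ ((incl X).obj F)).inv ≫
      (shf X).map ((incl X).obj F ◁ (show 𝟙_ (PM X) ⟶ (incl X).obj L from (incl X).map s)) :=
    (shf X).map_comp _ _
  refine e2.trans ((Category.assoc _ _ _).trans ?_)
  refine congrArg (fun t => (shfCounitIso X F).inv ≫ t) ?_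
  refine Eq.trans ?_ e3.symm
  exact congrArg (fun t => (shf X).map (ρ_ ((incl X).obj F)).inv ≫ (shf X).map t) e1

lemma incl_map_twistHom (F : X.Modules) {L : X.Modules} (s : Coh.structureModule X ⟶ L) :
    (incl X).map (twistHom F s) = twistPre F s ≫ tensorUnit F L := by
  have h1 := twistHom_eq F s
  have h2 : (incl X).map (twistHom F s) = (incl X).map (shfCounitIso X F).inv ≫
      (incl X).map ((shf X).map (twistPre F s)) :=
    (congrArg (fun t => (incl X).map t) h1).trans ((incl X).map_comp _ _)
  have h3 := (shfAdj X).unit.naturality (twistPre F s)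
  refine h2.trans ?_
  refine Eq.trans ?_ h3.symm
  exact congrArg (fun t => t ≫ (incl X).map ((shf X).map (twistPre F s)))
    (incl_map_shfCounitIso_inv F)

/-- **`twistHom` on sections**: `x ↦ x ⊗ s|V`. -/
lemma twistHom_app (F : X.Modules) {L : X.Modules} (s : Coh.structureModule X ⟶ L)
    (V : X.Opens) (x : Γ(F, V)) :
    (twistHom F s).app V x = tmulSect F L x (secOn s V) := by
  have h := incl_map_twistHom F s
  have h2 := congrArg (fun φ => φ.app (op V)) h
  have h3 := congr($h2 (show (((incl X).obj F).obj (op V) : Type u) from x))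
  refine h3.trans ?_
  have h4 := twistPre_app F s V x
  exact congrArg ((tensorUnit F L).app (op V)) h4

end Groth.Agent.Lib.Ample
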