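import Groth.Agent.Lib.Ample.Helper50_Basis
import Mathlib.AlgebraicGeometry.QuasiAffine

/-!
# AMPLE (lead): an invertible module whose `X_{μ_j}` are quasi-affine and cover `X` is ample

ns `Groth.Agent.Lib.Ample`.
* `isAmple_of_cover_isQuasiAffine`
-/

universe u
open CategoryTheory AlgebraicGeometry TopologicalSpace Opposite

namespace Groth.Agent.Lib.Ample

open Groth.Agent.Lib.QCoh CohB1 Scheme.Modules

variable {X : Scheme.{u}}

/-- **EGA II 4.5.2-type criterion**: `X` qcqs, `M` invertible, sections `μ_j` of `M` with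
`X = ⋃ X_{μ_j}` and every `X_{μ_j}` quasi-affine. Then `M` is ample. -/
theorem isAmple_of_cover_isQuasiAffine [CompactSpace X] [QuasiSeparatedSpace X] {M : X.Modules}
    (hM : PicF.IsInvertible M) {ι : Type*} (μ : ι → (Coh.structureModule X ⟶ M))
    (hcov : ∀ x : X, ∃ j, x ∈ genLocus M (μ j))
    (hqa : ∀ j, (genLocus M (μ j)).toScheme.IsQuasiAffine) : IsAmple M := by
  refine ⟨hM, inferInstance, fun x => ?_⟩
  obtain ⟨j, hx⟩ := hcov x
  have := hqa j
  obtain ⟨_, ⟨r', hr', rfl⟩, hxr, -⟩ := Opens.isBasis_iff_nbhd.mp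
    (Scheme.IsQuasiAffine.isBasis_basicOpen (genLocus M (μ j)).toScheme)
    (show (⟨x, hx⟩ : (genLocus M (μ j)).toScheme) ∈
      (⊤ : (genLocus M (μ j)).toScheme.Opens) from trivial)
  obtain ⟨g, rfl⟩ : ∃ g : Γ(X, genLocus M (μ j)), (genLocus M (μ j)).topIso.inv g = r' :=
    ⟨(genLocus M (μ j)).topIso.hom r', by
      exact congrArg (fun k => k.hom r') (genLocus M (μ j)).topIso.hom_inv_id⟩
  have himg := Scheme.Opens.ι_image_basicOpen_topIso_inv (U := genLocus M (μ j)) g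
  obtain ⟨k, t, ht⟩ := exists_section_genLocus_eq_basicOpen hM (μ j) g
  refine ⟨k, t, ?_, ?_⟩
  · rw [ht, ← himg]
    exact ⟨⟨x, hx⟩, hxr, rfl⟩
  · rw [ht, ← himg]
    exact hr'.image_of_isOpenImmersion _

end Groth.Agent.Lib.Ample
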