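import Groth.Agent.Lib.Ample.Helper50_VASections
import Groth.Agent.Lib.Proj.VeryAmpleConverse
import Mathlib.AlgebraicGeometry.ProjectiveSpectrum.Proper
import Groth.Agent.Lib.Helper56.RelAmpleB

/-!
# AMPLE (helper50): very ampleness (projective-space form) and change of the base to an open

Namespace `Groth.Agent.Lib.Ample.VA`.

* `isSeparated_toSpec` : `P^n_ℤ ⟶ Spec ℤ` is separated.
* `quasiSeparatedSpace_of_isRelVeryAmplePn` : the source of an immersion into `P^n_Y`, `Y` affine, is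
  quasi-separated.
* `isAmple_of_isRelVeryAmplePn'` : lead's converse without the quasi-separatedness hypothesis.
* `isRelVeryAmplePn_restrict_base` : very ampleness restricts to opens of the base.
* `isAmple_of_isAmple_tensorPow_succ` : `L^{⊗ (k+1)}` ample ⟹ `L` ample.
-/

universe u

open CategoryTheory CategoryTheory.Limits AlgebraicGeometry TopologicalSpace Opposite

namespace Groth.Agent.Lib.Ample.VA

open Groth.Agent.Lib.QCoh CohB1 Scheme.Modules Groth.Agent.Lib.Ample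

instance isSeparated_toSpec (n : ℕ) : IsSeparated (CohB1.ProjSpace.toSpec n (ULift.{u} ℤ)) := by
  unfold CohB1.ProjSpace.toSpec
  exact MorphismProperty.comp_mem @IsSeparated _ _ (Proj.isSeparated _) inferInstance

theorem quasiSeparatedSpace_of_isRelVeryAmplePn {X Y : Scheme.{u}} [IsAffine Y] (q : X ⟶ Y)
    {M : X.Modules} (h : RelAmple.IsRelVeryAmplePn q M) : QuasiSeparatedSpace X := by
  obtain ⟨n, i, hi, -, -⟩ := h
  have h0 : IsSeparated (pullback.snd (CohB1.ProjSpace.toSpec n (ULift.{u} ℤ))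
      (specULiftZIsTerminal.from Y)) :=
    MorphismProperty.pullback_snd _ _ (isSeparated_toSpec n)
  have h0q : QuasiSeparated (pullback.snd (CohB1.ProjSpace.toSpec n (ULift.{u} ℤ))
      (specULiftZIsTerminal.from Y)) := inferInstance
  have h1 : QuasiSeparatedSpace (CohB1.ProjSpaceOver n Y) :=
    @quasiSeparatedSpace_of_quasiSeparated _ _
      (pullback.snd (CohB1.ProjSpace.toSpec n (ULift.{u} ℤ)) (specULiftZIsTerminal.from Y))
      inferInstance h0q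
  exact quasiSeparatedSpace_of_quasiSeparated i

theorem isAmple_of_isRelVeryAmplePn' {X Y : Scheme.{u}} [IsAffine Y] (q : X ⟶ Y) [QuasiCompact q]
    {M : X.Modules} (h : RelAmple.IsRelVeryAmplePn q M) : CohB1.IsAmple M := by
  have := quasiSeparatedSpace_of_isRelVeryAmplePn q h
  exact Groth.Agent.Lib.Proj.VeryAmpleConverse.isAmple_of_isRelVeryAmplePn q h

theorem isAmple_of_isAmple_tensorPow_succ {X : Scheme.{u}} {L : X.Modules}
    (hL : PicF.IsInvertible L) (k : ℕ) (h : IsAmple (tensorPow L (k + 1))) : IsAmple L := by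
  refine ⟨hL, h.2.1, fun x => ?_⟩
  obtain ⟨m, s, hx, haff⟩ := h.2.2 x
  obtain ⟨n', t', ht'⟩ := exists_section_tensorPow_of_tensorPow_tensorPow k m s
  exact ⟨n', t', ht' ▸ hx, ht' ▸ haff⟩

/-- **very ampleness restricts to opens of the base** -/
theorem isRelVeryAmplePn_restrict_base {X S : Scheme.{u}} (f : X ⟶ S) {M : X.Modules}
    (h : RelAmple.IsRelVeryAmplePn f M) (D : S.Opens) :
    RelAmple.IsRelVeryAmplePn (f ∣_ D) (M.restrict (f ⁻¹ᵁ D).ι) := by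
  obtain ⟨n, i, hi, hf, ⟨e⟩⟩ := h
  -- the open immersion `P^n_D ⟶ P^n_S`
  let g : CohB1.ProjSpaceOver n D ⟶ CohB1.ProjSpaceOver n S :=
    pullback.map (CohB1.ProjSpace.toSpec n (ULift.{u} ℤ)) (specULiftZIsTerminal.from (D : Scheme.{u}))
      (CohB1.ProjSpace.toSpec n (ULift.{u} ℤ)) (specULiftZIsTerminal.from S) (𝟙 _) D.ι (𝟙 _)
      (by simp) (specULiftZIsTerminal.hom_ext _ _)
  have hcomm : ((f ⁻¹ᵁ D).ι ≫ i ≫ pullback.fst (CohB1.ProjSpace.toSpec n (ULift.{u} ℤ))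
      (specULiftZIsTerminal.from S)) ≫ CohB1.ProjSpace.toSpec n (ULift.{u} ℤ) =
      (f ∣_ D) ≫ specULiftZIsTerminal.from (D : Scheme.{u}) := specULiftZIsTerminal.hom_ext _ _
  let i' : ((f ⁻¹ᵁ D : X.Opens) : Scheme.{u}) ⟶ CohB1.ProjSpaceOver n D :=
    pullback.lift _ _ hcomm
  have hfst : g ≫ pullback.fst (CohB1.ProjSpace.toSpec n (ULift.{u} ℤ))
      (specULiftZIsTerminal.from S) = pullback.fst (CohB1.ProjSpace.toSpec n (ULift.{u} ℤ))
      (specULiftZIsTerminal.from (D : Scheme.{u})) :=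
    (pullback.lift_fst _ _ _).trans (Category.comp_id _)
  have hsnd : g ≫ pullback.snd (CohB1.ProjSpace.toSpec n (ULift.{u} ℤ))
      (specULiftZIsTerminal.from S) = pullback.snd (CohB1.ProjSpace.toSpec n (ULift.{u} ℤ))
      (specULiftZIsTerminal.from (D : Scheme.{u})) ≫ D.ι := pullback.lift_snd _ _ _
  have hi'fst : i' ≫ pullback.fst (CohB1.ProjSpace.toSpec n (ULift.{u} ℤ))
      (specULiftZIsTerminal.from (D : Scheme.{u})) = (f ⁻¹ᵁ D).ι ≫ i ≫
        pullback.fst (CohB1.ProjSpace.toSpec n (ULift.{u} ℤ)) (specULiftZIsTerminal.from S) :=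
    pullback.lift_fst _ _ _
  have hi'snd : i' ≫ pullback.snd (CohB1.ProjSpace.toSpec n (ULift.{u} ℤ))
      (specULiftZIsTerminal.from (D : Scheme.{u})) = f ∣_ D := pullback.lift_snd _ _ _
  have hi'g : i' ≫ g = (f ⁻¹ᵁ D).ι ≫ i := by
    apply pullback.hom_ext
    · calc (i' ≫ g) ≫ pullback.fst _ _ = i' ≫ (g ≫ pullback.fst _ _) := Category.assoc _ _ _
        _ = i' ≫ pullback.fst _ _ := congrArg (i' ≫ ·) hfst
        _ = (f ⁻¹ᵁ D).ι ≫ i ≫ pullback.fst _ _ := hi'fst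
        _ = ((f ⁻¹ᵁ D).ι ≫ i) ≫ pullback.fst _ _ := (Category.assoc _ _ _).symm
    · calc (i' ≫ g) ≫ pullback.snd _ _ = i' ≫ (g ≫ pullback.snd _ _) := Category.assoc _ _ _
        _ = i' ≫ (pullback.snd _ _ ≫ D.ι) := congrArg (i' ≫ ·) hsnd
        _ = (i' ≫ pullback.snd _ _) ≫ D.ι := (Category.assoc _ _ _).symm
        _ = (f ∣_ D) ≫ D.ι := congrArg (· ≫ D.ι) hi'snd
        _ = (f ⁻¹ᵁ D).ι ≫ f := morphismRestrict_ι f D
        _ = (f ⁻¹ᵁ D).ι ≫ (i ≫ pullback.snd _ _) := congrArg ((f ⁻¹ᵁ D).ι ≫ ·) hf.symm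
        _ = ((f ⁻¹ᵁ D).ι ≫ i) ≫ pullback.snd _ _ := (Category.assoc _ _ _).symm
  have himm : IsImmersion (i' ≫ g) := by
    rw [hi'g]
    infer_instance
  have hi' : IsImmersion i' := IsImmersion.of_comp i' g
  refine ⟨n, i', hi', hi'snd, ⟨?_⟩⟩
  refine (restrictFunctorIsoPullback (f ⁻¹ᵁ D).ι).app M ≪≫
    (Scheme.Modules.pullback (f ⁻¹ᵁ D).ι).mapIso e ≪≫
    (pullbackComp (f ⁻¹ᵁ D).ι i).app _ ≪≫ (pullbackCongr hi'g.symm).app _ ≪≫
    ((pullbackComp i' g).app _).symm ≪≫ (Scheme.Modules.pullback i').mapIso ?_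
  exact (pullbackComp g (pullback.fst (CohB1.ProjSpace.toSpec n (ULift.{u} ℤ))
      (specULiftZIsTerminal.from S))).app _ ≪≫ (pullbackCongr hfst).app _

/-- if `L^{⊗ d}` (`d > 0`) is very ample over an open `Vj` of the base, then `L` is ample over every
affine open `D ≤ Vj` -/
theorem isAmple_restrict_preimage_of_isRelVeryAmplePn {X S : Scheme.{u}} (f : X ⟶ S)
    [QuasiCompact f] {L : X.Modules} (hL : PicF.IsInvertible L) (Vj : S.Opens) (d : ℕ) (hd : 0 < d)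
    (h : RelAmple.IsRelVeryAmplePn (f ∣_ Vj) ((tensorPow L d).restrict (f ⁻¹ᵁ Vj).ι))
    (D : S.Opens) (hD : IsAffineOpen D) (hDV : D ≤ Vj) :
    IsAmple (L.restrict (f ⁻¹ᵁ D).ι) := by
  have hD' : IsAffineOpen (Vj.ι ⁻¹ᵁ D) :=
    hD.preimage_of_isOpenImmersion Vj.ι (by rw [Scheme.Opens.opensRange_ι]; exact hDV)
  have h' := isRelVeryAmplePn_restrict_base (f ∣_ Vj) h (Vj.ι ⁻¹ᵁ D)
  have : IsAffine ((Vj.ι ⁻¹ᵁ D : (Vj : Scheme.{u}).Opens) : Scheme.{u}) := hD'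
  have h1 := isAmple_of_isRelVeryAmplePn' ((f ∣_ Vj) ∣_ (Vj.ι ⁻¹ᵁ D)) h'
  rw [Groth.Agent.Lib.Helper56.RelAmple.isAmple_restrict_restrict_iff] at h1
  have heq : (f ⁻¹ᵁ Vj).ι ''ᵁ ((f ∣_ Vj) ⁻¹ᵁ (Vj.ι ⁻¹ᵁ D)) = f ⁻¹ᵁ D := by
    rw [image_morphismRestrict_preimage, Scheme.Hom.image_preimage_eq_opensRange_inf,
      Scheme.Opens.opensRange_ι, inf_eq_right.mpr hDV]
  have h2 := Groth.Agent.Lib.Helper56.RelAmple.isAmple_restrict_congr heq h1
  have h3 := isAmple_of_iso (restrictTensorPowIso (f ⁻¹ᵁ D).ι L d) h2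
  obtain ⟨k, rfl⟩ : ∃ k, d = k + 1 := Nat.exists_eq_succ_of_ne_zero hd.ne'
  exact isAmple_of_isAmple_tensorPow_succ (isInvertible_restrict _ hL) k h3

end Groth.Agent.Lib.Ample.VA
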