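import Groth.Agent.Lib.Ample.Helper50_Points
import Groth.Agent.Lib.Proj.VeryAmplePn

/-!
# AMPLE tools (helper50): charts for the very-ampleness criterion

Namespace `Groth.Agent.Lib.Ample.VA`.

* `HasChart M U b` : there are global sections `T`, `T_l` of `M` with `X_T = U` and
  `T_l = b_l • T` on `U`.
* `HasChart.of_iso` : transport along an isomorphism of modules.
* `hasChart_twistIter` : `X` qcqs, `M`, `G` invertible, `t` a section of `M`, `G` free over `X_t`,
  `b` a finite family of functions on `X_t` : for `N ≫ 0`, `twistIter G M (N + 1)` has a chart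
  `(X_t, b)`.
* `mem_closure_of_chart` : the generation hypothesis of lead's criterion from a chart.
-/

universe u

open CategoryTheory MonoidalCategory Opposite TensorProduct AlgebraicGeometry TopologicalSpace

namespace Groth.Agent.Lib.Ample.VA

open Groth.Agent.Lib.QCoh CohB1 Scheme.Modules Groth.Agent.Lib.Ample Groth.Agent.Lib.Ample.Avoid

variable {X : Scheme.{u}}

/-- chart data for the very-ampleness criterion -/
def HasChart (M : X.Modules) (U : X.Opens) {I : Type*} (b : I → Γ(X, U)) : Prop :=
  ∃ (T : Coh.structureModule X ⟶ M) (Tl : I → (Coh.structureModule X ⟶ M)),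
    genLocus M T = U ∧ ∀ l, secOn (Tl l) U = b l • secOn T U

theorem HasChart.of_iso {M M' : X.Modules} (γ : M ≅ M') {U : X.Opens} {I : Type*}
    {b : I → Γ(X, U)} (h : HasChart M U b) : HasChart M' U b := by
  obtain ⟨T, Tl, hT, hTl⟩ := h
  refine ⟨T ≫ γ.hom, fun l => Tl l ≫ γ.hom, ?_, fun l => ?_⟩
  · rw [genLocus_comp_iso]
    exact hT
  · rw [secOn_comp, secOn_comp, hTl l, Hom.app_smul]

lemma isInvertible_twistIter {G M : X.Modules} (hG : PicF.IsInvertible G)
    (hM : PicF.IsInvertible M) (j : ℕ) : PicF.IsInvertible (twistIter G M j) := by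
  induction j with
  | zero => exact hG
  | succ j ih => exact isInvertible_tensorMod ih hM

/-- **the chart lemma** -/
theorem hasChart_twistIter [CompactSpace X] [QuasiSeparatedSpace X] {M G : X.Modules}
    (hM : PicF.IsInvertible M) (hG : PicF.IsInvertible G) (t : Coh.structureModule X ⟶ M)
    {ε : Γ(G, genLocus M t)} (hε : IsGenerator G (genLocus M t) ε) {I : Type*} [Finite I]
    (b : I → Γ(X, genLocus M t)) :
    ∃ N₀ : ℕ, ∀ N, N₀ ≤ N → HasChart (twistIter G M (N + 1)) (genLocus M t) b := by
  have hGq : G.IsQuasicoherent := isQuasicoherent_of_isInvertible hG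
  obtain ⟨N₁, h₁⟩ := exists_extension_sigmaHom_top G hM t ε
  have h₂ := fun l : I => exists_extension_sigmaHom_top G hM t (b l • ε)
  choose N₂ h₂ using h₂
  obtain ⟨N₃, hN₃⟩ := Finite.exists_le N₂
  refine ⟨max N₁ N₃, fun N hN => ?_⟩
  obtain ⟨T'', hT''⟩ := h₁ N ((le_max_left _ _).trans hN)
  have h₃ := fun l : I => h₂ l N ((hN₃ l).trans ((le_max_right _ _).trans hN))
  choose Tl'' hTl'' using h₃
  have hinv : PicF.IsInvertible (twistIter G M N) := isInvertible_twistIter hG hM N
  -- `X_t ≤` the generating locus of `T''`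
  have hle : genLocus M t ≤ genLocus _ (homOfSec (twistIter G M N) T'') := by
    have h1 : secOn (homOfSec _ T'') (genLocus M t) =
        (1 : Γ(X, genLocus M t)) • ((sigmaHom G t N).app (genLocus M t) ε) := by
      rw [secOn_homOfSec, hT'', one_smul]
    have h2 := genLocus_inf_eq_basicOpen (homOfSec _ T'') (genLocus M t) _
      (isGenerator_sigmaHom t le_rfl hε N) 1 h1
    rw [X.basicOpen_of_isUnit isUnit_one] at h2
    exact inf_eq_right.mp h2
  refine ⟨mulSec (homOfSec _ T'') t, fun l => mulSec (homOfSec _ (Tl'' l)) t, ?_, fun l => ?_⟩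
  · change genLocus (tensorMod (twistIter G M N) M) _ = _
    rw [genLocus_mulSec _ _ hinv hM]
    exact inf_eq_right.mpr hle
  · change secOn (L := tensorMod (twistIter G M N) M)
      (mulSec (homOfSec (twistIter G M N) (Tl'' l)) t) (genLocus M t) =
      b l • secOn (L := tensorMod (twistIter G M N) M)
        (mulSec (homOfSec (twistIter G M N) T'') t) (genLocus M t)
    rw [secOn_mulSec, secOn_mulSec, secOn_homOfSec, secOn_homOfSec, hTl'' l, hT'', Hom.app_smul,
      tmulSect_smul_left]

open Groth.Agent.Lib.Proj.ToPn Groth.Agent.Lib.Proj.VeryAmplePn in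
/-- the generation hypothesis of the very-ampleness criterion, from a chart -/
theorem mem_closure_of_chart {S : Scheme.{u}} (f : X ⟶ S) (V : S.Opens) {M : X.Modules}
    (T : Coh.structureModule X ⟶ M) {I : Type*} (Tl : I → (Coh.structureModule X ⟶ M))
    (U : X.Opens) (hU : genLocus M T = U) (b : I → Γ(X, U))
    (hb : ∀ l, secOn (Tl l) U = b l • secOn T U) (hUV : U ≤ f ⁻¹ᵁ V)
    (hgen : Subring.closure (Set.range (f.appLE V U hUV).hom ∪ Set.range b) = ⊤)
    (hle : genLocus M T ≤ f ⁻¹ᵁ V) (y : Γ(X, genLocus M T)) :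
    y ∈ Subring.closure (Set.range (fun l => ratio T (Tl l)) ∪
      Set.range (f.appLE V (genLocus M T) hle).hom) := by
  subst hU
  have h1 : (fun l => ratio T (Tl l)) = b := by
    funext l
    exact ratio_eq_of_smul T (Tl l) (b l) (hb l)
  rw [h1, Set.union_comm, hgen]
  exact Subring.mem_top y

end Groth.Agent.Lib.Ample.VA
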