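import Groth.Agent.Lib.Ample.Helper50_VAChart
import Groth.Agent.Lib.Ample.Helper50_Serre
import Mathlib.AlgebraicGeometry.Morphisms.FiniteType

/-!
# AMPLE (helper50): `L^{⊗ n} ⊗ L'` is very ample for `n ≫ 0` (`L` ample, `f` locally of finite type)

Namespace `Groth.Agent.Lib.Ample.VA`.
-/

universe u

open CategoryTheory MonoidalCategory Opposite TensorProduct AlgebraicGeometry TopologicalSpace

namespace Groth.Agent.Lib.Ample.VA

open Groth.Agent.Lib.QCoh CohB1 Scheme.Modules Groth.Agent.Lib.Ample Groth.Agent.Lib.Ample.Avoid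

variable {X S : Scheme.{u}}

/-- a chart: an affine `X_t` (`t` a section of `L^{⊗ (d+1)}`) over an affine open `V` of `S`, on which
`L` and `L'` are free -/
structure Chart (f : X ⟶ S) (L L' : X.Modules) where
  V : S.Opens
  d : ℕ
  t : Coh.structureModule X ⟶ tensorPow L (d + 1)
  hV : IsAffineOpen V
  hle : genLocus _ t ≤ f ⁻¹ᵁ V
  haff : IsAffineOpen (genLocus _ t)
  e : Γ(L, genLocus _ t)
  he : IsGenerator L (genLocus _ t) e
  e' : Γ(L', genLocus _ t)
  he' : IsGenerator L' (genLocus _ t) e'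

/-- the open of a chart -/
noncomputable abbrev Chart.U {f : X ⟶ S} {L L' : X.Modules} (c : Chart f L L') : X.Opens := genLocus _ c.t

theorem exists_chart (f : X ⟶ S) {L L' : X.Modules} (hL : IsAmple L) (hL' : PicF.IsInvertible L')
    (x : X) : ∃ c : Chart f L L', x ∈ c.U := by
  obtain ⟨V, hVaff, hfx, -⟩ :=
    Opens.isBasis_iff_nbhd.1 S.isBasis_affineOpens (U := ⊤) (x := f x) trivial
  obtain ⟨U₁, hx₁, e₁, he₁⟩ := exists_isGenerator_of_isInvertible hL.1 x
  obtain ⟨U₂, hx₂, e₂, he₂⟩ := exists_isGenerator_of_isInvertible hL' x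
  obtain ⟨n, t, hxt, htle, haff⟩ := exists_affine_genLocus_nbhd_of_isAmple hL x
    (f ⁻¹ᵁ V ⊓ U₁ ⊓ U₂) ⟨⟨hfx, hx₁⟩, hx₂⟩
  exact ⟨⟨V, n, t, hVaff, htle.trans (inf_le_left.trans inf_le_left), haff, _,
    he₁.res (htle.trans (inf_le_left.trans inf_le_right)), _, he₂.res (htle.trans inf_le_right)⟩,
    hxt⟩

theorem Chart.exists_finset {f : X ⟶ S} [LocallyOfFiniteType f] {L L' : X.Modules}
    (c : Chart f L L') : ∃ s : Finset Γ(X, c.U),
      Subring.closure (Set.range (f.appLE c.V c.U c.hle).hom ∪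
        Set.range (fun l : s => (l : Γ(X, c.U)))) = ⊤ := by
  have h := LocallyOfFiniteType.finiteType_appLE f c.hV c.haff c.hle
  let _ := (f.appLE c.V c.U c.hle).hom.toAlgebra
  obtain ⟨s, hs⟩ := (show Algebra.FiniteType Γ(S, c.V) Γ(X, c.U) from h).out
  refine ⟨s, ?_⟩
  have h1 := Algebra.adjoin_eq_ring_closure (R := Γ(S, c.V)) (s : Set Γ(X, c.U))
  rw [hs, Algebra.top_toSubring] at h1
  rw [h1, Subtype.range_coe_subtype]
  rfl

/-- for `n ≫ 0`, `L^{⊗ n} ⊗ L'` has a chart `(c.U, b)` -/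
theorem Chart.exists_hasChart {f : X ⟶ S} {L L' : X.Modules} (hL : IsAmple L)
    (hL' : PicF.IsInvertible L') (c : Chart f L L') {I : Type*} [Finite I] (b : I → Γ(X, c.U)) :
    ∃ n₀ : ℕ, ∀ n, n₀ ≤ n → HasChart (tensorMod (tensorPow L n) L') c.U b := by
  have hqs := quasiSeparatedSpace_of_isAmple hL
  have hc : CompactSpace X := hL.2.1
  have hinv : PicF.IsInvertible L := hL.1
  have hM : PicF.IsInvertible (tensorPow L (c.d + 1)) := isInvertible_tensorPow hinv _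
  have h1 : ∀ r : ℕ, ∃ N₀ : ℕ, ∀ N, N₀ ≤ N →
      HasChart (tensorMod (tensorPow L (r + (c.d + 1) * (N + 1))) L') c.U b := by
    intro r
    obtain ⟨er, her⟩ := c.he.exists_tensorPow r
    have hG : PicF.IsInvertible (tensorMod L' (tensorPow L r)) :=
      isInvertible_tensorMod hL' (isInvertible_tensorPow hinv r)
    obtain ⟨N₀, hN₀⟩ := hasChart_twistIter hM hG c.t (c.he'.tmul her) b
    refine ⟨N₀, fun N hN => ?_⟩
    exact (hN₀ N hN).of_iso (twistIterPowIso L' L r (c.d + 1) (N + 1) ≪≫ tensorModBraiding _ _)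
  choose N₀ hN₀ using h1
  refine ⟨(c.d + 1) * ((Finset.range (c.d + 1)).sup N₀ + 1), fun n hn => ?_⟩
  have hr : n % (c.d + 1) < c.d + 1 := Nat.mod_lt _ (Nat.succ_pos _)
  have hk : (Finset.range (c.d + 1)).sup N₀ + 1 ≤ n / (c.d + 1) := by
    rw [Nat.le_div_iff_mul_le (Nat.succ_pos _), mul_comm]
    exact hn
  obtain ⟨N, hN⟩ : ∃ N, n / (c.d + 1) = N + 1 := ⟨n / (c.d + 1) - 1, by omega⟩
  have hk' : N₀ (n % (c.d + 1)) ≤ N := by
    have := Finset.le_sup (f := N₀) (Finset.mem_range.2 hr)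
    omega
  have h2 := hN₀ (n % (c.d + 1)) N hk'
  rw [← hN, Nat.mod_add_div] at h2
  exact h2

open Groth.Agent.Lib.Proj.ToPn Groth.Agent.Lib.Proj.VeryAmplePn in
/-- **`L^{⊗ n} ⊗ L'` is very ample for `n ≫ 0`** (`L` ample, `L'` invertible, `f` locally of finite
type) -/
theorem isRelVeryAmplePn_of_isAmple (f : X ⟶ S) [LocallyOfFiniteType f] {L L' : X.Modules}
    (hL : IsAmple L) (hL' : PicF.IsInvertible L') :
    ∃ n₀ : ℕ, ∀ n, n₀ ≤ n → RelAmple.IsRelVeryAmplePn f (tensorMod (tensorPow L n) L') := by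
  classical
  have hcX : CompactSpace X := hL.2.1
  choose c hc using exists_chart f hL hL'
  obtain ⟨A, hA⟩ := isCompact_univ.elim_finite_subcover
    (fun x : X => (((c x).U : X.Opens) : Set X)) (fun x => (c x).U.isOpen)
    (fun y _ => Set.mem_iUnion.2 ⟨y, hc y⟩)
  choose s hs using fun x => (c x).exists_finset
  choose n₀ hn₀ using fun x => (c x).exists_hasChart hL hL' (fun l : s x => (l : Γ(X, (c x).U)))
  refine ⟨A.sup n₀, fun n hn => ?_⟩
  have h3 : ∀ a : A, HasChart (tensorMod (tensorPow L n) L') (c a).U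
      (fun l : s a => (l : Γ(X, (c a).U))) := fun a => hn₀ a n ((Finset.le_sup a.2).trans hn)
  choose T Tl hT hTl using h3
  let σ : Option (Σ a : A, Option (s a.1)) → (Coh.structureModule X ⟶ tensorMod (tensorPow L n) L') :=
    fun k => match k with
    | none => 0
    | some ⟨a, none⟩ => T a
    | some ⟨a, some l⟩ => Tl a l
  let V : Option (Σ a : A, Option (s a.1)) → S.Opens := fun k => match k with
    | none => ⊤
    | some ⟨a, none⟩ => (c a).V
    | some ⟨_, some _⟩ => ⊤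
  have hle : ∀ k, genLocus _ (σ k) ≤ f ⁻¹ᵁ V k := by
    rintro (_ | ⟨a, (_ | l)⟩)
    · exact le_top
    · change genLocus _ (T a) ≤ f ⁻¹ᵁ (c a).V
      rw [hT a]
      exact (c a).hle
    · exact le_top
  refine isRelVeryAmplePn_of_sections' f σ
    (Set.range (fun a : A => (some ⟨a, none⟩ : Option (Σ a : A, Option (s a.1))))) V ?_ ?_ ?_ hle ?_
  · intro x
    obtain ⟨a, ha'⟩ := Set.mem_iUnion.1 (hA (Set.mem_univ x))
    obtain ⟨haA, hx⟩ := Set.mem_iUnion.1 ha'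
    refine ⟨_, ⟨⟨a, haA⟩, rfl⟩, ?_⟩
    change x ∈ genLocus _ (T ⟨a, haA⟩)
    rw [hT ⟨a, haA⟩]
    exact hx
  · rintro _ ⟨a, rfl⟩
    change IsAffineOpen (genLocus _ (T a))
    rw [hT a]
    exact (c a).haff
  · rintro _ ⟨a, rfl⟩
    exact (c a).hV
  · rintro _ ⟨a, rfl⟩ y
    have h4 := mem_closure_of_chart f (c a).V (T a) (Tl a) (c a).U (hT a) _ (hTl a) (c a).hle
      (hs a) (hle (some ⟨a, none⟩)) y
    refine Subring.closure_mono ?_ h4
    rintro g (⟨l, rfl⟩ | hg)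
    · left
      exact ⟨some ⟨a, some l⟩, rfl⟩
    · right
      exact hg

theorem isRelVeryAmplePn_of_iso {f : X ⟶ S} {M M' : X.Modules} (γ : M ≅ M')
    (h : RelAmple.IsRelVeryAmplePn f M) : RelAmple.IsRelVeryAmplePn f M' := by
  obtain ⟨m, i, hi, hf, ⟨e⟩⟩ := h
  exact ⟨m, i, hi, hf, ⟨γ.symm ≪≫ e⟩⟩

/-- **`L^{⊗ n}` is very ample for `n ≫ 0`** (`L` ample, `f` locally of finite type) -/
theorem isRelVeryAmplePn_tensorPow_of_isAmple (f : X ⟶ S) [LocallyOfFiniteType f] {L : X.Modules}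
    (hL : IsAmple L) :
    ∃ n₀ : ℕ, ∀ n, n₀ ≤ n → RelAmple.IsRelVeryAmplePn f (tensorPow L n) := by
  obtain ⟨n₀, h⟩ := isRelVeryAmplePn_of_isAmple f hL (isInvertible_structureModule X)
  exact ⟨n₀, fun n hn => isRelVeryAmplePn_of_iso (tensorModRightUnitor _) (h n hn)⟩

end Groth.Agent.Lib.Ample.VA
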