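import Groth.Agent.Lib.Ample.Affine
import Groth.Agent.Lib.Ample.Helper50_LocalGen
import Groth.Agent.Lib.QCoh.Helper18_PullbackSupport
import Groth.Agent.Lib.QCoh.Coherent
import Groth.Agent.Lib.QCoh.Local

/-!
# Generating loci: stalkwise description and pullback (lead)

ns `Groth.Agent.Lib.Ample`.
* `mem_genLocus_iff_stalk_cokernel` : `L` invertible: `x ∈ genLocus L s ↔ (coker s)_x = 0`
* `genLocus_eq_compl_support_cokernel`
* `genLocus_pullback` : `genLocus (u^* L) (e.hom ≫ u^* s) = u ⁻¹ᵁ genLocus L s` for any iso `e : O_Z ≅ u^* O_S` (= S4413)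
* `pullHom u s : O_Z ⟶ u^* L`, `genLocus_pullHom`
-/

universe u
open CategoryTheory CategoryTheory.Limits AlgebraicGeometry TopologicalSpace Opposite

namespace Groth.Agent.Lib.Ample

open Scheme.Modules Groth.Agent.Lib.QCoh

variable {X : Scheme.{u}}

/-- `s_x` is surjective when the stalk of the cokernel vanishes -/
lemma stalkMap_surjective_of_subsingleton_stalk_cokernel {M N : X.Modules} (φ : M ⟶ N) (x : X)
    (hx : Subsingleton ((cokernel φ).presheaf.stalk x)) :
    Function.Surjective (stalkMap φ x) := by
  have e := PreservesCokernel.iso (stalkFunctor X x) φ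
  have h0 : IsZero ((stalkFunctor X x).obj (cokernel φ)) := by
    have : Subsingleton ↑((stalkFunctor X x).obj (cokernel φ)) := hx
    exact AddCommGrpCat.isZero_of_subsingleton _
  have h1 : IsZero (cokernel ((stalkFunctor X x).map φ)) := h0.of_iso e.symm
  have h2 : Epi ((stalkFunctor X x).map φ) := Preadditive.epi_of_isZero_cokernel _ h1
  exact (AddCommGrpCat.epi_iff_surjective _).1 h2

lemma subsingleton_stalk_cokernel_of_mem_genLocus {L : X.Modules}
    (s : Coh.structureModule X ⟶ L) (x : X) (hx : x ∈ CohB1.genLocus L s) :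
    Subsingleton ((cokernel s).presheaf.stalk x) := by
  obtain ⟨U, hxU, hU⟩ := (mem_genLocus_iff L s x).1 hx
  have e := PreservesCokernel.iso (restrictFunctor U.ι) s
  have h1 : IsZero (cokernel ((restrictFunctor U.ι).map s)) := isZero_cokernel_of_epi _
  have h2 : IsZero ((cokernel s).restrict U.ι) := h1.of_iso e
  exact stalk_subsingleton_of_isZero_restrict U h2 x hxU

theorem mem_genLocus_of_subsingleton_stalk_cokernel {L : X.Modules} (hL : PicF.IsInvertible L)
    (s : Coh.structureModule X ⟶ L) (x : X)
    (hx : Subsingleton ((cokernel s).presheaf.stalk x)) : x ∈ CohB1.genLocus L s := by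
  have hsurj := stalkMap_surjective_of_subsingleton_stalk_cokernel s x hx
  obtain ⟨U, hxU, e, he⟩ := exists_isGenerator_of_isInvertible hL x
  obtain ⟨g, hg⟩ := exists_eq_smul_of_isGenerator he (resSec L (le_top : U ≤ ⊤) (secOf s))
  have hgl := genLocus_inf_eq_basicOpen s U e he g hg
  -- the germ of `e` is in the image
  obtain ⟨r, hr⟩ := hsurj (L.presheaf.germ U x hxU e)
  obtain ⟨V₀, hxV₀, a₀, rfl⟩ := TopCat.Presheaf.exists_germ_eq (Coh.structureModule X).presheaf r
  -- shrink to `V ≤ U`
  let V : X.Opens := V₀ ⊓ U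
  have hxV : x ∈ V := ⟨hxV₀, hxU⟩
  have hVU : V ≤ U := inf_le_right
  let a : Γ(X, V) := resFn (inf_le_left : V ≤ V₀) a₀
  have h1 : (stalkMap s x) ((Coh.structureModule X).presheaf.germ V x hxV
      (show Γ(Coh.structureModule X, V) from a)) = L.presheaf.germ U x hxU e := by
    rw [← hr]
    congr 1
    exact TopCat.Presheaf.germ_res_apply (Coh.structureModule X).presheaf
      (homOfLE (inf_le_left : V ≤ V₀)) x hxV a₀
  rw [stalkMap_germ] at h1
  have h2 : (s.app V).hom (show Γ(Coh.structureModule X, V) from a) =
      (a * resFn hVU g) • resSec L hVU e := by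
    rw [app_apply]
    have e1 := resSec_resSec L (le_top : U ≤ ⊤) hVU (secOf s)
    rw [hg, resSec_smul] at e1
    change a • resSec L (le_top : V ≤ ⊤) (secOf s) = _
    rw [← e1, mul_smul]
  have h3 : L.presheaf.germ V x hxV ((a * resFn hVU g) • resSec L hVU e) =
      L.presheaf.germ V x hxV (resSec L hVU e) := by
    rw [← h2]
    refine h1.trans ?_
    exact (TopCat.Presheaf.germ_res_apply L.presheaf (homOfLE hVU) x hxV e).symm
  obtain ⟨W, hxW, iU, iV, hW⟩ := TopCat.Presheaf.germ_eq L.presheaf x hxV hxV _ _ h3
  have hWV : W ≤ V := iU.le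
  have h4 : resSec L hWV ((a * resFn hVU g) • resSec L hVU e) = resSec L hWV (resSec L hVU e) := by
    have : iU = iV := Subsingleton.elim _ _
    subst this
    exact hW
  rw [resSec_smul, resSec_resSec] at h4
  have h5 : resFn hWV (a * resFn hVU g) = 1 := by
    apply (he W (hWV.trans hVU)).1
    change resFn hWV (a * resFn hVU g) • resSec L (hWV.trans hVU) e =
      (1 : Γ(X, W)) • resSec L (hWV.trans hVU) e
    rw [h4, one_smul]
  have h6 : IsUnit (resFn (hWV.trans hVU) g) := by
    have : resFn hWV (a * resFn hVU g) = resFn hWV a * resFn (hWV.trans hVU) g := by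
      have e1 : resFn hWV (resFn hVU g) = resFn (hWV.trans hVU) g := by
        change ((X.presheaf.map (homOfLE hVU).op) ≫ (X.presheaf.map (homOfLE hWV).op)).hom g = _
        rw [← Functor.map_comp]
        rfl
      rw [← e1]
      exact map_mul (X.presheaf.map (homOfLE hWV).op).hom a (resFn hVU g)
    rw [this] at h5
    exact IsUnit.of_mul_eq_one _ (by rw [mul_comm]; exact h5)
  have h7 := X.basicOpen_of_isUnit h6
  rw [X.basicOpen_res] at h7
  have h8 : W ≤ X.basicOpen g := inf_eq_left.mp h7
  have h9 : x ∈ CohB1.genLocus L s ⊓ U := by rw [hgl]; exact h8 hxW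
  exact h9.1

/-- **stalkwise description of the generating locus** of a section of an invertible module -/
theorem mem_genLocus_iff_stalk_cokernel {L : X.Modules} (hL : PicF.IsInvertible L)
    (s : Coh.structureModule X ⟶ L) (x : X) :
    x ∈ CohB1.genLocus L s ↔ Subsingleton ((cokernel s).presheaf.stalk x) :=
  ⟨subsingleton_stalk_cokernel_of_mem_genLocus s x,
    mem_genLocus_of_subsingleton_stalk_cokernel hL s x⟩

theorem genLocus_eq_compl_support_cokernel {L : X.Modules} (hL : PicF.IsInvertible L)
    (s : Coh.structureModule X ⟶ L) :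
    ((CohB1.genLocus L s : X.Opens) : Set X) = (CohB1.support (cokernel s))ᶜ := by
  ext x
  rw [SetLike.mem_coe, mem_genLocus_iff_stalk_cokernel hL s x, Set.mem_compl_iff,
    notMem_support_iff]

/-- stalks of isomorphic modules -/
lemma subsingleton_stalk_of_iso {M N : X.Modules} (e : M ≅ N) (x : X)
    (h : Subsingleton (M.presheaf.stalk x)) : Subsingleton (N.presheaf.stalk x) := by
  have e' : M.presheaf.stalk x ≅ N.presheaf.stalk x := (stalkFunctor X x).mapIso e
  exact (e'.symm.addCommGroupIsoToAddEquiv).subsingleton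

section Pullback

variable {Z S : Scheme.{u}} (u : Z ⟶ S)

/-- **the generating locus commutes with pullback** (= S4413): for `L` invertible on `S`, `s : O_S ⟶ L`
and any isomorphism `e : O_Z ≅ u^* O_S`, the generating locus of `e ≫ u^* s` is `u⁻¹(S_s)`. -/
theorem genLocus_pullback {L : S.Modules} (hL : PicF.IsInvertible L)
    (s : Coh.structureModule S ⟶ L)
    (e : Coh.structureModule Z ≅ (Scheme.Modules.pullback u).obj (Coh.structureModule S)) :
    CohB1.genLocus ((Scheme.Modules.pullback u).obj L)
      (e.hom ≫ (Scheme.Modules.pullback u).map s) = u ⁻¹ᵁ CohB1.genLocus L s := by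
  have hLq : L.IsQuasicoherent := isQuasicoherent_of_isInvertible hL
  have hLt : L.IsFiniteType := isFiniteType_of_isInvertible hL
  have hOq : (Coh.structureModule S).IsQuasicoherent :=
    isQuasicoherent_of_isInvertible (isInvertible_structureModule S)
  have hCq : (cokernel s).IsQuasicoherent := isQuasicoherent_cokernel s
  have hCt : (cokernel s).IsFiniteType := isFiniteType_of_epi (cokernel.π s)
  have hpc : PreservesColimitsOfSize.{0, 0} (Scheme.Modules.pullback u) :=
    (Scheme.Modules.pullbackPushforwardAdjunction u).leftAdjoint_preservesColimits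
  let c1 : cokernel (e.hom ≫ (Scheme.Modules.pullback u).map s) ≅
      cokernel ((Scheme.Modules.pullback u).map s) := cokernelEpiComp _ _
  let c2 : (Scheme.Modules.pullback u).obj (cokernel s) ≅
      cokernel ((Scheme.Modules.pullback u).map s) := PreservesCokernel.iso _ s
  ext x
  rw [SetLike.mem_coe, mem_genLocus_iff_stalk_cokernel (isInvertible_pullback u hL)]
  change _ ↔ u x ∈ CohB1.genLocus L s
  rw [mem_genLocus_iff_stalk_cokernel hL s (u x)]
  have hsupp := support_pullback u (cokernel s)
  have h1 : Subsingleton (((Scheme.Modules.pullback u).obj (cokernel s)).presheaf.stalk x) ↔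
      Subsingleton ((cokernel s).presheaf.stalk (u x)) := by
    have := congrArg (fun A : Set Z => x ∈ A) hsupp
    simp only [Set.mem_preimage, eq_iff_iff] at this
    rw [← notMem_support_iff, ← notMem_support_iff]
    exact not_congr this
  rw [← h1]
  constructor
  · intro h
    exact subsingleton_stalk_of_iso (c1 ≪≫ c2.symm) x h
  · intro h
    exact subsingleton_stalk_of_iso (c1 ≪≫ c2.symm).symm x h

/-- the pullback of a section `s : O_S ⟶ L` -/
noncomputable def pullHom {L : S.Modules} (s : Coh.structureModule S ⟶ L) :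
    Coh.structureModule Z ⟶ (Scheme.Modules.pullback u).obj L :=
  (pullbackUnitIso u).inv ≫ (Scheme.Modules.pullback u).map s

theorem genLocus_pullHom {L : S.Modules} (hL : PicF.IsInvertible L)
    (s : Coh.structureModule S ⟶ L) :
    CohB1.genLocus ((Scheme.Modules.pullback u).obj L) (pullHom u s) =
      u ⁻¹ᵁ CohB1.genLocus L s :=
  genLocus_pullback u hL s (pullbackUnitIso u).symm

end Pullback

end Groth.Agent.Lib.Ample
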